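import Mathlib
import Groth.Agent.Lib.Helper25.Goldman

open CategoryTheory AlgebraicGeometry Limits TopologicalSpace Topology Opposite

universe u
namespace Groth.Agent.Lib.Helper81.FtPts

lemma isClosed_singleton_subtype_iff {X : Type*} [TopologicalSpace X] (U : Set X) (x : X)
    (hx : x ∈ U) :
    IsClosed ({⟨x, hx⟩} : Set U) ↔ ∀ y ∈ U, x ⤳ y → y = x := by
  rw [← closure_subset_iff_isClosed]
  constructor
  · intro h y hy hxy
    have : (⟨y, hy⟩ : U) ∈ closure ({⟨x, hx⟩} : Set U) := by
      rw [← specializes_iff_mem_closure, subtype_specializes_iff]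
      exact hxy
    have := h this
    simpa using congrArg Subtype.val (Set.mem_singleton_iff.mp this)
  · intro h y hy
    rw [← specializes_iff_mem_closure, subtype_specializes_iff] at hy
    exact Set.mem_singleton_iff.mpr (Subtype.ext (h y.1 y.2 hy))

lemma isClosed_singleton_opens_iff {S : Scheme.{u}} (U : S.Opens) (x : S) (hx : x ∈ U) :
    IsClosed ({⟨x, hx⟩} : Set U) ↔ ∀ y ∈ U, x ⤳ y → y = x :=
  isClosed_singleton_subtype_iff (U : Set S) x hx

lemma alg_goldman {R K : Type u} [CommRing R] [Field K] (φ : R →+* K) (hφ : φ.FiniteType) :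
    ∃ r : R, φ r ≠ 0 ∧ ∀ q : Ideal R, q.IsPrime → r ∉ q → RingHom.ker φ ≤ q →
      q = RingHom.ker φ := by
  classical
  have hp : (RingHom.ker φ).IsPrime := RingHom.ker_isPrime φ
  letI := φ.toAlgebra
  letI : Algebra (R ⧸ RingHom.ker φ) K := (RingHom.kerLift φ).toAlgebra
  haveI : IsScalarTower R (R ⧸ RingHom.ker φ) K := IsScalarTower.of_algebraMap_eq (fun x => rfl)
  haveI : Algebra.FiniteType R K := hφ
  haveI : Algebra.FiniteType (R ⧸ RingHom.ker φ) K :=
    Algebra.FiniteType.of_restrictScalars_finiteType R _ K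
  have hinj : Function.Injective (algebraMap (R ⧸ RingHom.ker φ) K) := RingHom.kerLift_injective φ
  obtain ⟨f, hf0, hfield⟩ :=
    Groth.Agent.Lib.Helper25.exists_away_isField_of_finiteType_field (R ⧸ RingHom.ker φ) K hinj
  obtain ⟨r, rfl⟩ := Ideal.Quotient.mk_surjective f
  have hr : r ∉ RingHom.ker φ := fun h => hf0 (Ideal.Quotient.eq_zero_iff_mem.mpr h)
  refine ⟨r, fun h => hr (RingHom.mem_ker.mpr h), ?_⟩
  intro q hq hrq hle
  have hcrit := (Groth.Agent.Lib.Helper25.away_isField_iff (R ⧸ RingHom.ker φ) hf0).mp hfield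
  have hsurj : Function.Surjective (Ideal.Quotient.mk (RingHom.ker φ)) :=
    Ideal.Quotient.mk_surjective
  have hker : RingHom.ker (Ideal.Quotient.mk (RingHom.ker φ)) ≤ q := by
    rw [Ideal.mk_ker]; exact hle
  have hq' : (q.map (Ideal.Quotient.mk (RingHom.ker φ))).IsPrime :=
    Ideal.map_isPrime_of_surjective hsurj hker
  have hcomap : (q.map (Ideal.Quotient.mk (RingHom.ker φ))).comap
      (Ideal.Quotient.mk (RingHom.ker φ)) = q := by
    rw [Ideal.comap_map_of_surjective _ hsurj, ← RingHom.ker_eq_comap_bot]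
    exact sup_eq_left.mpr hker
  have hnot : Ideal.Quotient.mk (RingHom.ker φ) r ∉ q.map (Ideal.Quotient.mk (RingHom.ker φ)) := by
    intro hmem
    apply hrq
    rw [← hcomap]
    exact hmem
  have h0 := hcrit _ hq' hnot
  apply le_antisymm _ hle
  rw [← hcomap, h0, ← RingHom.ker_eq_comap_bot, Ideal.mk_ker]


/-- A point closed in an open neighbourhood is a finite type point. -/
lemma loft_of_closed {S : Scheme.{u}} (s : S) (U : S.Opens) (hs : s ∈ U)
    (hcl : IsClosed ({⟨s, hs⟩} : Set U)) : LocallyOfFiniteType (S.fromSpecResidueField s) := by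
  let x : (U : Scheme.{u}) := ⟨s, hs⟩
  have hci : IsClosedImmersion ((U : Scheme.{u}).fromSpecResidueField x) := by
    apply IsClosedImmersion.of_isPreimmersion
    rw [Scheme.range_fromSpecResidueField]
    exact hcl
  have h := Scheme.Hom.SpecMap_residueFieldMap_fromSpecResidueField U.ι x
  have h1 : LocallyOfFiniteType ((U : Scheme.{u}).fromSpecResidueField x ≫ U.ι) := inferInstance
  rw [← h] at h1
  haveI : IsIso (U.ι.residueFieldMap x) := inferInstance
  haveI : IsIso (Spec.map (U.ι.residueFieldMap x)) := inferInstance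
  exact (MorphismProperty.cancel_left_of_respectsIso @LocallyOfFiniteType
    (Spec.map (U.ι.residueFieldMap x)) _).mp h1

/-- the closed point of Spec of a field -/
lemma eq_closedPoint {K : Type u} [Field K] (x : Spec (CommRingCat.of K)) :
    x = IsLocalRing.closedPoint K := Subsingleton.elim _ _

lemma exists_affine_closed_of_loft {S : Scheme.{u}} {K : Type u} [Field K]
    (g : Spec (CommRingCat.of K) ⟶ S) [hg : LocallyOfFiniteType g] :
    ∃ U : S.Opens, IsAffineOpen U ∧ ∃ hu : g (IsLocalRing.closedPoint K) ∈ U,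
      IsClosed ({⟨_, hu⟩} : Set U) := by
  set pt := IsLocalRing.closedPoint K
  obtain ⟨U, hU, huU, -⟩ := exists_isAffineOpen_mem_and_subset (x := g pt) (U := ⊤) trivial
  set j := hU.fromSpec with hj
  have hrange : Set.range g ⊆ Set.range j := by
    rintro _ ⟨x, rfl⟩
    rw [eq_closedPoint x, hU.range_fromSpec]
    exact huU
  let g' := IsOpenImmersion.lift j g hrange
  have hg' : g' ≫ j = g := IsOpenImmersion.lift_fac j g hrange
  haveI : LocallyOfFiniteType (g' ≫ j) := by rw [hg']; infer_instance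
  have hloft : LocallyOfFiniteType g' := locallyOfFiniteType_of_comp g' j
  obtain ⟨ψ, hψ⟩ : ∃ ψ, Spec.map ψ = g' := ⟨Spec.preimage g', Spec.map_preimage g'⟩
  rw [← hψ, HasRingHomProperty.Spec_iff (P := @LocallyOfFiniteType)] at hloft
  obtain ⟨r, hr0, hr⟩ := alg_goldman ψ.hom hloft
  -- the prime of g' pt
  have hker : (g' pt).asIdeal = RingHom.ker ψ.hom := by
    rw [← hψ]
    change Ideal.comap ψ.hom pt.asIdeal = _
    rw [RingHom.ker_eq_comap_bot]
    congr 1
    change IsLocalRing.maximalIdeal K = ⊥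
    exact IsLocalRing.maximalIdeal_eq_bot
  have hpt : j (g' pt) = g pt := by rw [← hg']; rfl
  let D : (Spec Γ(S, U)).Opens := PrimeSpectrum.basicOpen r
  have hD : IsAffineOpen D := IsAffineOpen.Spec_basicOpen r
  refine ⟨j ''ᵁ D, hD.image_of_isOpenImmersion j, ?_, ?_⟩
  · refine ⟨g' pt, ?_, hpt⟩
    change r ∉ (g' pt).asIdeal
    rw [hker, RingHom.mem_ker]
    exact hr0
  · refine (isClosed_singleton_opens_iff _ _ _).mpr ?_
    rintro _ ⟨q, hq, rfl⟩ hspec
    have hspec1 : j (g' pt) ⤳ j q := hpt ▸ hspec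
    have hspec2 : g' pt ⤳ q := (j.isOpenEmbedding.isInducing.specializes_iff).mp hspec1
    have hle : (g' pt).asIdeal ≤ q.asIdeal := (PrimeSpectrum.le_iff_specializes _ _).mpr hspec2
    have hqe : q = g' pt := by
      apply PrimeSpectrum.ext
      rw [hker]
      apply hr q.asIdeal q.isPrime hq
      rw [← hker]
      exact hle
    rw [hqe]
    exact hpt


/-- finite type point -/
def IsFt (S : Scheme.{u}) (s : S) : Prop := LocallyOfFiniteType (S.fromSpecResidueField s)

lemma isFt_iff {S : Scheme.{u}} (s : S) :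
    LocallyOfFiniteType (S.fromSpecResidueField s) ↔
      ∃ U : S.Opens, IsAffineOpen U ∧ ∃ hs : s ∈ U, IsClosed ({⟨s, hs⟩} : Set U) := by
  constructor
  · intro h
    obtain ⟨U, hU, hu, hcl⟩ := exists_affine_closed_of_loft (K := S.residueField s)
      (S.fromSpecResidueField s) (hg := h)
    have he : (S.fromSpecResidueField s) (IsLocalRing.closedPoint (S.residueField s)) = s :=
      Scheme.fromSpecResidueField_apply _ _
    refine ⟨U, hU, he ▸ hu, ?_⟩
    refine (isClosed_singleton_opens_iff _ _ _).mpr ?_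
    have := (isClosed_singleton_opens_iff _ _ _).mp hcl
    rw [he] at this
    exact this
  · rintro ⟨U, -, hs, hcl⟩
    exact loft_of_closed s U hs hcl

instance isIso_fromSpecResidueField_field {K : Type u} [Field K] (x : Spec (CommRingCat.of K)) :
    IsIso ((Spec (CommRingCat.of K)).fromSpecResidueField x) := by
  have huniv : ({x} : Set (Spec (CommRingCat.of K))) = Set.univ :=
    Set.eq_univ_of_forall fun y => Subsingleton.elim _ _
  haveI : IsClosedImmersion ((Spec (CommRingCat.of K)).fromSpecResidueField x) := by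
    apply IsClosedImmersion.of_isPreimmersion
    rw [Scheme.range_fromSpecResidueField, huniv]
    exact isClosed_univ
  haveI : Surjective ((Spec (CommRingCat.of K)).fromSpecResidueField x) := by
    constructor
    rw [← Set.range_eq_univ, Scheme.range_fromSpecResidueField, huniv]
  exact isIso_of_isClosedImmersion_of_surjective _

/-- a nonempty relatively closed subset of an affine open contains a point closed in it -/
lemma exists_closed_in_affine {S : Scheme.{u}} (U : S.Opens) (hU : IsAffineOpen U) (C : Set S)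
    (hC : IsClosed C) (z : S) (hzC : z ∈ C) (hzU : z ∈ U) :
    ∃ t : S, t ∈ C ∧ ∃ ht : t ∈ U, IsClosed ({⟨t, ht⟩} : Set U) := by
  let V : Set S := U
  haveI : CompactSpace V := isCompact_iff_compactSpace.mp hU.isCompact
  have hcl : IsClosed ((Subtype.val : V → S) ⁻¹' C) := hC.preimage continuous_subtype_val
  obtain ⟨x, hx, hxcl⟩ := hcl.exists_closed_singleton ⟨⟨z, hzU⟩, hzC⟩
  exact ⟨x.1, hx, x.2, hxcl⟩

lemma exists_isFt_of_isLocallyClosed {S : Scheme.{u}} (Z : Set S) (hZ : IsLocallyClosed Z)
    (hne : Z.Nonempty) :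
    (Z ∩ {s : S | LocallyOfFiniteType (S.fromSpecResidueField s)}).Nonempty := by
  obtain ⟨W, C, hW, hC, rfl⟩ := hZ
  obtain ⟨z, hzW, hzC⟩ := hne
  obtain ⟨U, hU, hzU, hUW⟩ := exists_isAffineOpen_mem_and_subset (x := z) (U := ⟨W, hW⟩) hzW
  obtain ⟨t, htC, htU, hcl⟩ := exists_closed_in_affine U hU C hC z hzC hzU
  exact ⟨t, ⟨hUW htU, htC⟩, (isFt_iff t).mpr ⟨U, hU, htU, hcl⟩⟩

lemma isFt_map {T S : Scheme.{u}} (f : T ⟶ S) [LocallyOfFiniteType f] (t : T)
    (ht : LocallyOfFiniteType (T.fromSpecResidueField t)) :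
    LocallyOfFiniteType (S.fromSpecResidueField (f t)) := by
  haveI := ht
  have hi : LocallyOfFiniteType (T.fromSpecResidueField t ≫ f) := inferInstance
  obtain ⟨U, hU, hu, hcl⟩ := exists_affine_closed_of_loft (K := T.residueField t)
    (T.fromSpecResidueField t ≫ f) (hg := hi)
  have he : (T.fromSpecResidueField t ≫ f) (IsLocalRing.closedPoint (T.residueField t)) = f t := by
    simp
  rw [isFt_iff]
  refine ⟨U, hU, he ▸ hu, ?_⟩
  refine (isClosed_singleton_opens_iff _ _ _).mpr ?_
  have := (isClosed_singleton_opens_iff _ _ _).mp hcl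
  rw [he] at this
  exact this

end Groth.Agent.Lib.Helper81.FtPts
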