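import Mathlib

/-! Morphisms into an affine open from ring maps: `toV hV φ : T ⟶ X` for `φ : Γ(X,V) ⟶ Γ(T,⊤)`,
`toV_nat`, `toV_res`, `toV_range`, `toV_appLE`, `hom_ext_of_appLE` (two maps landing in an affine open with equal
`appLE V ⊤` are equal), `appLE_congr_hom`, `appLE_ι_top`, `epi_of_app_injective`. (helper81) -/

open CategoryTheory AlgebraicGeometry Limits TopologicalSpace Opposite

universe u
namespace Groth.Agent.Lib.Helper81.ToAffine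

variable {X : Scheme.{u}}

/-- the morphism `T ⟶ X` landing in the affine open `V` attached to a ring map. -/
noncomputable def toV {V : X.Opens} (hV : IsAffineOpen V) {T : Scheme.{u}}
    (φ : Γ(X, V) ⟶ Γ(T, ⊤)) : T ⟶ X :=
  T.toSpecΓ ≫ Spec.map φ ≫ hV.fromSpec

lemma toV_nat {V : X.Opens} (hV : IsAffineOpen V) {T T' : Scheme.{u}} (t : T' ⟶ T)
    (φ : Γ(X, V) ⟶ Γ(T, ⊤)) : t ≫ toV hV φ = toV hV (φ ≫ t.appTop) := by
  simp only [toV, Spec.map_comp, Category.assoc]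
  rw [Scheme.toSpecΓ_naturality_assoc]

lemma toV_res {V V' : X.Opens} (hV : IsAffineOpen V) (hV' : IsAffineOpen V') (hle : V' ≤ V)
    {T : Scheme.{u}} (φ : Γ(X, V') ⟶ Γ(T, ⊤)) :
    toV hV' φ = toV hV (X.presheaf.map (homOfLE hle).op ≫ φ) := by
  simp only [toV, Spec.map_comp, Category.assoc]
  rw [hV.map_fromSpec hV']

lemma toV_range {V : X.Opens} (hV : IsAffineOpen V) {T : Scheme.{u}}
    (φ : Γ(X, V) ⟶ Γ(T, ⊤)) : (toV hV φ) ⁻¹ᵁ V = ⊤ := by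
  rw [eq_top_iff]
  intro t _
  show (toV hV φ) t ∈ V
  have : (toV hV φ) t ∈ hV.fromSpec.opensRange := by
    simp only [toV, Scheme.Hom.comp_apply]
    exact ⟨_, rfl⟩
  rwa [hV.opensRange_fromSpec] at this

lemma toV_appLE {V : X.Opens} (hV : IsAffineOpen V) {T : Scheme.{u}}
    (φ : Γ(X, V) ⟶ Γ(T, ⊤)) :
    (toV hV φ).appLE V ⊤ (toV_range hV φ).ge = φ := by
  have h1 : toV hV φ = (T.toSpecΓ ≫ Spec.map φ ≫ hV.isoSpec.inv) ≫ V.ι := by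
    simp [toV]
  have key : ∀ (h : T ⟶ X) (k : T ⟶ ↑V) (hk : h = k ≫ V.ι) (e : ⊤ ≤ h ⁻¹ᵁ V),
      h.appLE V ⊤ e = V.topIso.inv ≫ k.appTop := by
    rintro h k rfl e
    rw [← Scheme.Hom.appLE_comp_appLE k V.ι V ⊤ ⊤ (by simp) (by simp)]
    congr 1
    · rw [Scheme.Opens.ι_appLE]; rfl
    · simp [Scheme.Hom.appLE]
  rw [key _ _ h1]
  simp only [Scheme.Hom.comp_appTop, IsAffineOpen.isoSpec_inv_appTop, Category.assoc,
    Scheme.toSpecΓ_appTop, Iso.inv_hom_id_assoc]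
  rw [← Scheme.ΓSpecIso_inv_naturality_assoc]
  simp

lemma appLE_congr_hom {T X : Scheme.{u}} {a b : T ⟶ X} (h : a = b) (U : X.Opens) (W : T.Opens)
    (e : W ≤ a ⁻¹ᵁ U) : a.appLE U W e = b.appLE U W (h ▸ e) := by
  subst h; rfl

lemma hom_ext_of_appLE {V : X.Opens} (hV : IsAffineOpen V) {T : Scheme.{u}} (a b : T ⟶ X)
    (ea : ⊤ ≤ a ⁻¹ᵁ V) (eb : ⊤ ≤ b ⁻¹ᵁ V) (h : a.appLE V ⊤ ea = b.appLE V ⊤ eb) : a = b := by
  have key : ∀ (h : T ⟶ X) (k : T ⟶ ↑V) (hk : h = k ≫ V.ι) (e : ⊤ ≤ h ⁻¹ᵁ V),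
      h.appLE V ⊤ e = V.topIso.inv ≫ k.appTop := by
    rintro h k rfl e
    rw [← Scheme.Hom.appLE_comp_appLE k V.ι V ⊤ ⊤ (by simp) (by simp)]
    congr 1
    · rw [Scheme.Opens.ι_appLE]; rfl
    · simp [Scheme.Hom.appLE]
  have ra : Set.range a ⊆ Set.range V.ι := by
    rintro _ ⟨t, rfl⟩
    simpa using ea (Set.mem_univ t)
  have rb : Set.range b ⊆ Set.range V.ι := by
    rintro _ ⟨t, rfl⟩
    simpa using eb (Set.mem_univ t)
  let a' := IsOpenImmersion.lift V.ι a ra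
  let b' := IsOpenImmersion.lift V.ι b rb
  have ha : a = a' ≫ V.ι := (IsOpenImmersion.lift_fac _ _ _).symm
  have hb : b = b' ≫ V.ι := (IsOpenImmersion.lift_fac _ _ _).symm
  have h1 := key a a' ha ea
  have h2 := key b b' hb eb
  haveI : IsAffine ↑V := hV
  have : a' = b' := by
    apply ext_of_isAffine
    have : V.topIso.inv ≫ a'.appTop = V.topIso.inv ≫ b'.appTop := by
      rw [← h1, ← h2, h]
    exact (cancel_epi _).mp this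
  rw [ha, hb, this]


lemma appLE_ι_top {V : X.Opens} {T : Scheme.{u}} (k : T ⟶ ↑V) (e : ⊤ ≤ (k ≫ V.ι) ⁻¹ᵁ V) :
    (k ≫ V.ι).appLE V ⊤ e = V.topIso.inv ≫ k.appTop := by
  rw [← Scheme.Hom.appLE_comp_appLE k V.ι V ⊤ ⊤ (by simp) (by simp)]
  congr 1
  · rw [Scheme.Opens.ι_appLE]; rfl
  · simp [Scheme.Hom.appLE]

/-- a surjective morphism whose maps on sections are injective is an epimorphism. -/
lemma epi_of_app_injective {U V : Scheme.{u}} (h : U ⟶ V) [Surjective h]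
    (hinj : ∀ O : V.Opens, Function.Injective (h.app O).hom) : Epi h := by
  constructor
  intro W v₁ v₂ heq
  have hbase : ∀ x, v₁ x = v₂ x := by
    intro x
    obtain ⟨a, rfl⟩ := h.surjective x
    have := congrArg (fun φ => φ a) heq
    simpa using this
  apply Scheme.hom_ext_of_forall
  intro x
  obtain ⟨_, ⟨W', hW' : IsAffineOpen W', rfl⟩, hxW', -⟩ :=
    W.isBasis_affineOpens.exists_subset_of_mem_open (Set.mem_univ (v₁ x)) isOpen_univ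
  refine ⟨v₁ ⁻¹ᵁ W', hxW', ?_⟩
  have e1 : ⊤ ≤ ((v₁ ⁻¹ᵁ W').ι ≫ v₁) ⁻¹ᵁ W' := fun t _ => t.2
  have e2 : ⊤ ≤ ((v₁ ⁻¹ᵁ W').ι ≫ v₂) ⁻¹ᵁ W' := fun t _ => by
    show v₂ t.1 ∈ W'
    rw [← hbase]; exact t.2
  have e2' : v₁ ⁻¹ᵁ W' ≤ v₂ ⁻¹ᵁ W' := fun t ht => by
    show v₂ t ∈ W'
    rw [← hbase]; exact ht
  refine hom_ext_of_appLE hW' _ _ e1 e2 ?_
  rw [← Scheme.Hom.appLE_comp_appLE _ _ W' (v₁ ⁻¹ᵁ W') ⊤ le_rfl (by simp),
    ← Scheme.Hom.appLE_comp_appLE _ _ W' (v₁ ⁻¹ᵁ W') ⊤ e2' (by simp)]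
  congr 1
  -- use injectivity of h.app
  have hmono : Mono (h.app (v₁ ⁻¹ᵁ W')) :=
    ConcreteCategory.mono_of_injective _ (hinj _)
  rw [← cancel_mono (h.app (v₁ ⁻¹ᵁ W'))]
  have : h.app (v₁ ⁻¹ᵁ W') = h.appLE (v₁ ⁻¹ᵁ W') (h ⁻¹ᵁ (v₁ ⁻¹ᵁ W')) le_rfl := by
    rw [Scheme.Hom.appLE_eq_app]
  rw [this, Scheme.Hom.appLE_comp_appLE, Scheme.Hom.appLE_comp_appLE]
  exact appLE_congr_hom heq _ _ _


end Groth.Agent.Lib.Helper81.ToAffine
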