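import Mathlib
import Groth.Agent.Lib.Helper81.FtPts

open CategoryTheory AlgebraicGeometry Limits TopologicalSpace Topology Opposite

universe u
namespace Groth.Agent.Lib.Helper81.QFinFib

open Groth.Agent.Lib.Helper81.FtPts

/-- In a Noetherian quasi-sober space, a closed point without proper generizations is open. -/
lemma isOpen_singleton_of_closed_of_maximal {α : Type*} [TopologicalSpace α] [NoetherianSpace α]
    [QuasiSober α] (a : α) (hcl : IsClosed ({a} : Set α)) (hgen : ∀ b : α, b ⤳ a → b = a) :
    IsOpen ({a} : Set α) := by
  classical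
  have hfin : (irreducibleComponents α).Finite := NoetherianSpace.finite_irreducibleComponents
  let 𝒯 : Set (Set α) := {Z ∈ irreducibleComponents α | a ∉ Z}
  have h𝒯fin : 𝒯.Finite := hfin.subset (fun Z hZ => hZ.1)
  have hTcl : IsClosed (⋃₀ 𝒯) := by
    rw [Set.sUnion_eq_biUnion]
    exact h𝒯fin.isClosed_biUnion fun Z hZ => isClosed_of_mem_irreducibleComponents Z hZ.1
  have heq : ({a} : Set α) = (⋃₀ 𝒯)ᶜ := by
    ext b
    simp only [Set.mem_singleton_iff, Set.mem_compl_iff, Set.mem_sUnion, not_exists, not_and]
    constructor
    · rintro rfl Z hZ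
      exact hZ.2
    · intro hb
      -- b lies in a component Z; a ∈ Z necessarily
      have hZmem : irreducibleComponent b ∈ irreducibleComponents α :=
        irreducibleComponent_mem_irreducibleComponents b
      have hbZ : b ∈ irreducibleComponent b := mem_irreducibleComponent
      have haZ : a ∈ irreducibleComponent b := by
        by_contra hna
        exact hb _ ⟨hZmem, hna⟩ hbZ
      have hirr : IsIrreducible (irreducibleComponent b) := isIrreducible_irreducibleComponent
      have hclZ : IsClosed (irreducibleComponent b) := isClosed_irreducibleComponent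
      obtain ⟨ξ, hξ⟩ := QuasiSober.sober hirr hclZ
      have hξa : ξ ⤳ a := by
        rw [specializes_iff_mem_closure, hξ.def]; exact haZ
      have : ξ = a := hgen ξ hξa
      subst this
      have hZa : irreducibleComponent b = {ξ} := by
        rw [← hξ.def]; exact hcl.closure_eq
      rw [hZa] at hbZ
      exact hbZ
  rw [heq]
  exact hTcl.isOpen_compl

/-- In a locally Noetherian scheme, a closed point without proper generizations is open. -/
lemma isOpen_singleton_of_isLocallyNoetherian (F : Scheme.{u}) [IsLocallyNoetherian F] (z : F)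
    (hcl : IsClosed ({z} : Set F)) (hgen : ∀ b : F, b ⤳ z → b = z) : IsOpen ({z} : Set F) := by
  obtain ⟨W, hW, hzW, -⟩ := exists_isAffineOpen_mem_and_subset (x := z) (U := ⊤) trivial
  haveI : IsNoetherianRing Γ(F, W) := IsLocallyNoetherian.component_noetherian ⟨W, hW⟩
  haveI : NoetherianSpace W := noetherianSpace_of_isAffineOpen W hW
  haveI : QuasiSober W := W.isOpenEmbedding'.quasiSober
  have h1 : IsOpen ({⟨z, hzW⟩} : Set W) := by
    apply isOpen_singleton_of_closed_of_maximal
    · have : ({⟨z, hzW⟩} : Set W) = Subtype.val ⁻¹' {z} := by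
        ext b
        simp only [Set.mem_singleton_iff]
        exact Subtype.ext_iff
      rw [this]
      exact hcl.preimage continuous_subtype_val
    · intro b hb
      apply Subtype.ext
      exact hgen b.1 ((subtype_specializes_iff _ _).mp hb)
  have h2 := W.2.isOpenMap_subtype_val _ h1
  have h3 : (Subtype.val '' ({⟨z, hzW⟩} : Set W) : Set F) = {z} := Set.image_singleton
  rw [← h3]
  exact h2


instance loft_fiberToSpecResidueField {X S : Scheme.{u}} (f : X ⟶ S) [LocallyOfFiniteType f]
    (y : S) : LocallyOfFiniteType (f.fiberToSpecResidueField y) :=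
  MorphismProperty.pullback_snd _ _ inferInstance

instance isLocallyNoetherian_fiber {X S : Scheme.{u}} (f : X ⟶ S) [LocallyOfFiniteType f]
    (y : S) : IsLocallyNoetherian (f.fiber y) :=
  LocallyOfFiniteType.isLocallyNoetherian (f.fiberToSpecResidueField y)

lemma finite_of_finiteType_fields {K L : Type u} [Field K] [Field L] (φ : K →+* L)
    (h : φ.FiniteType) : φ.Finite := by
  letI := φ.toAlgebra
  haveI : Algebra.FiniteType K L := h
  exact finite_of_finite_type_of_isJacobsonRing K L

/-- closed in the fibre iff residue field extension finite -/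
lemma isClosed_asFiber_iff {X S : Scheme.{u}} (f : X ⟶ S) [LocallyOfFiniteType f] (x : X) :
    IsClosed ({f.asFiber x} : Set (f.fiber (f x))) ↔ (f.residueFieldMap x).hom.Finite := by
  have hcomp := f.asFiberHom_fiberToSpecResidueField x
  constructor
  · intro hcl
    haveI : IsClosedImmersion (f.asFiberHom x) := by
      apply IsClosedImmersion.of_isPreimmersion
      rw [Scheme.Hom.range_asFiberHom]
      exact hcl
    have h1 : LocallyOfFiniteType (f.asFiberHom x ≫ f.fiberToSpecResidueField (f x)) :=
      inferInstance
    rw [hcomp, HasRingHomProperty.Spec_iff (P := @LocallyOfFiniteType)] at h1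
    exact finite_of_finiteType_fields _ h1
  · intro hfin
    have h1 : LocallyOfFiniteType (Spec.map (f.residueFieldMap x)) := by
      rw [HasRingHomProperty.Spec_iff (P := @LocallyOfFiniteType)]
      exact RingHom.FiniteType.of_finite hfin
    rw [← hcomp] at h1
    haveI := h1
    have h2 : LocallyOfFiniteType (f.asFiberHom x) :=
      locallyOfFiniteType_of_comp _ (f.fiberToSpecResidueField (f x))
    obtain ⟨W, hW, hzW, hcl⟩ := exists_affine_closed_of_loft (K := X.residueField x)
      (f.asFiberHom x) (hg := h2)
    have hz : f.asFiberHom x (IsLocalRing.closedPoint (X.residueField x)) = f.asFiber x :=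
      f.asFiberHom_apply x _
    have hcl' := (isClosed_singleton_opens_iff _ _ _).mp hcl
    rw [hz] at hcl' hzW
    -- locally closed singleton is closed in a Jacobson space
    apply isClosed_singleton_of_isLocallyClosed_singleton
    refine ⟨W, closure {f.asFiber x}, W.2, isClosed_closure, ?_⟩
    ext b
    simp only [Set.mem_singleton_iff, Set.mem_inter_iff, SetLike.mem_coe]
    constructor
    · rintro rfl
      exact ⟨hzW, subset_closure rfl⟩
    · rintro ⟨hbW, hbcl⟩
      exact hcl' b hbW (specializes_iff_mem_closure.mpr hbcl)

end Groth.Agent.Lib.Helper81.QFinFib
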