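import Groth.Agent.Lib.Helper81.BMVanish
import Mathlib

/-!
# Levels of the coniveau tower: `H(X) = H(F_N X)` for `N ≥ dim X`, composition of restriction
maps, and bijectivity of `H^i(F_m X) → H^i(F_j X)` for `i ≤ 2j` (helper81, BMCoh family)
-/

set_option autoImplicit false
universe u

noncomputable section

namespace Groth.Agent.Lib.Helper81.BMLevels

open CategoryTheory AlgebraicGeometry


open Groth.Agent.Lib.Helper79.BM Groth.Agent.Lib.Helper81.BMVanish BMCoh Opposite

variable {V : ObjectProperty Scheme.{u}} [BMCoh.IsConstructible V] {R : Type u} [CommRing R]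
  {A : BMCoh.Coefs R}

/-- composition of restriction maps, elementwise -/
theorem fjRes_fjRes (T : PreTheory V R A) (X : Obj V) {j m l : ℕ} (h : j ≤ m) (h' : m ≤ l)
    (i n : ℤ) (M : A.Cat) (y : T.fjGp X l M i n) :
    ((T.fjRes X h i n).app M).hom (((T.fjRes X h' i n).app M).hom y) =
      ((T.fjRes X (h.trans h') i n).app M).hom y := by
  obtain ⟨U, a, rfl⟩ := ocolim_rep T X (ContainsFj X l) i n M y
  rw [ocolimMap_ι, ocolimMap_ι, ocolimMap_ι]

theorem fjRes_bijective_of_le (T : TheoryOn V R A) (X : Obj V) (M : A.Cat) (j : ℕ) (i n : ℤ)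
    (hj : i ≤ 2 * (j : ℤ)) (m : ℕ) (h : j ≤ m) :
    Function.Bijective ((T.fjRes X h i n).app M).hom := by
  induction m, h using Nat.le_induction with
  | base =>
    constructor
    · intro y y' hyy'
      obtain ⟨U, a, rfl⟩ := ocolim_rep T.toPreTheory X (ContainsFj X j) i n M y
      obtain ⟨U', a', rfl⟩ := ocolim_rep T.toPreTheory X (ContainsFj X j) i n M y'
      rw [ocolimMap_ι, ocolimMap_ι] at hyy'
      exact hyy'
    · intro y
      obtain ⟨U, a, rfl⟩ := ocolim_rep T.toPreTheory X (ContainsFj X j) i n M y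
      exact ⟨_, ocolimMap_ι T.toPreTheory X _ i n M U a⟩
  | succ m hm ih =>
    have hstep : Function.Bijective
        ((T.fjRes X (Nat.le_succ m) i n).app M).hom := by
      apply fjRes_bijective_of_isZero
      · intro x _
        apply T.pt_vanish
        omega
      · intro x _
        apply T.pt_vanish
        omega
    have hcomp : ((T.fjRes X (hm.trans (Nat.le_succ m)) i n).app M).hom =
        ((T.fjRes X hm i n).app M).hom ∘
          ((T.fjRes X (Nat.le_succ m) i n).app M).hom := by
      funext y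
      exact (fjRes_fjRes T.toPreTheory X _ _ i n M y).symm
    rw [hcomp]
    exact ih.comp hstep

/-- the inverse of `resTop` -/
def resTopInv (X : Obj V) : X ⟶ X.res ⊤ :=
  ⟨X.scheme.topIso.inv, inferInstance, (dim_top X.scheme).symm⟩

theorem resTop_inv (X : Obj V) : X.resTop ≫ resTopInv X = 𝟙 _ :=
  Hom.ext X.scheme.topIso.hom_inv_id

theorem inv_resTop (X : Obj V) : resTopInv X ≫ X.resTop = 𝟙 _ :=
  Hom.ext X.scheme.topIso.inv_hom_id

theorem pull_resTop_bijective (T : PreTheory V R A) (X : Obj V) (M : A.Cat) (i n : ℤ) :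
    Function.Bijective (T.pull X.resTop M i n).hom := by
  refine Function.bijective_iff_has_inverse.2 ⟨(T.pull (resTopInv X) M i n).hom, ?_, ?_⟩
  · intro a
    rw [← pull_comp_apply, inv_resTop, pull_id_apply]
  · intro a
    rw [← pull_comp_apply, resTop_inv, pull_id_apply]

omit [BMCoh.IsConstructible V] in
theorem eq_top_of_containsFj (X : Obj V) (N : ℕ) (hN : WeilCoh.dim X.scheme ≤ N)
    (U : X.scheme.Opens) (hU : ContainsFj X N U) : U = ⊤ := by
  rw [eq_top_iff]
  intro y _
  apply hU y
  unfold WeilCoh.codim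
  omega

theorem toFj_bijective_of_dim_le (T : PreTheory V R A) (X : Obj V) (M : A.Cat) (N : ℕ)
    (hN : WeilCoh.dim X.scheme ≤ N) (i n : ℤ) :
    Function.Bijective ((T.toFj X N i n).app M).hom := by
  have happ : ∀ a, ((T.toFj X N i n).app M).hom a =
      ((T.fjι X N i n ⟨⊤, fun _ _ => trivial, dim_top X.scheme⟩).app M).hom
        ((T.pull X.resTop M i n).hom a) := fun a => rfl
  constructor
  · rw [injective_iff_map_eq_zero]
    intro a ha
    rw [happ] at ha
    obtain ⟨⟨U1, hU1, hU2⟩, h, hz⟩ := (ocolim_eq_zero_iff T X (ContainsFj X N) i n M _).1 ha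
    obtain rfl : U1 = ⊤ := eq_top_of_containsFj X N hN U1 hU1
    have key : (T.pull (X.resLE (le_refl (⊤ : X.scheme.Opens)) rfl) M i n).hom
        ((T.pull X.resTop M i n).hom a) = (T.pull X.resTop M i n).hom a := by
      rw [resLE_refl, pull_id_apply]
    have h0 : (T.pull X.resTop M i n).hom a = 0 := key.symm.trans hz
    exact (pull_resTop_bijective T X M i n).1 (h0.trans (map_zero _).symm)
  · intro y
    obtain ⟨⟨U1, hU1, hU2⟩, b, rfl⟩ := ocolim_rep T X (ContainsFj X N) i n M y
    obtain rfl : U1 = ⊤ := eq_top_of_containsFj X N hN U1 hU1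
    obtain ⟨a, rfl⟩ := (pull_resTop_bijective T X M i n).2 b
    exact ⟨a, happ a⟩

theorem fjRes_toFj (T : PreTheory V R A) (X : Obj V) {j m : ℕ} (h : j ≤ m) (i n : ℤ) (M : A.Cat)
    (a : T.gp X M i n) :
    ((T.fjRes X h i n).app M).hom (((T.toFj X m i n).app M).hom a) =
      ((T.toFj X j i n).app M).hom a := by
  exact ocolimMap_ι T X (containsFj_mono X h) i n M ⟨⊤, fun _ _ => trivial, dim_top X.scheme⟩
    ((T.pull X.resTop M i n).hom a)


end Groth.Agent.Lib.Helper81.BMLevels

end
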