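import Groth.Agent.Lib.Helper79.BMExact3
import Mathlib

/-!
# Bijectivity criteria for `H(F_{j+1} X) → H(F_j X)` when groups of points vanish
(helper81, on top of helper79's BM piece machinery)
-/

set_option autoImplicit false
universe u

noncomputable section

namespace Groth.Agent.Lib.Helper81.BMVanish

open AlgebraicGeometry CategoryTheory CategoryTheory.Limits Opposite TopologicalSpace BMCoh
open Groth.Agent.Lib.Helper79.BM

variable {V : ObjectProperty Scheme.{u}} [IsConstructible V]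
variable {R : Type u} [CommRing R] {A : Coefs R} {T : PreTheory V R A}

theorem eq_zero_of_isZero {M : ModuleCat.{u} R} (h : IsZero M) (a : M) : a = 0 := by
  have : Subsingleton M := ModuleCat.subsingleton_of_isZero h
  exact Subsingleton.elim _ _

/-- surjectivity step: a class on an open `U ⊇ F_j X` extends to `F_{j+1} X` if the groups of the
points of codimension `j + 1` vanish in the residue bidegree. -/
theorem exists_extension_of_isZero {X : Obj V} {j : ℕ} (M : A.Cat) (i n i' n' : ℤ)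
    (hi : i' = i + 1 - 2 * ((j : ℤ) + 1)) (hn : n' = n - ((j : ℤ) + 1))
    (hzero : ∀ x : X.scheme, WeilCoh.codim X.scheme x = j + 1 → IsZero (T.ptGp X x M i' n')) :
    ∀ (n₀ : ℕ) (U : Idx X (ContainsFj X j)) (a : T.gp (X.res U.1) M i n),
      (bad X j U.1).ncard = n₀ →
      ∃ b : T.fjGp X (j + 1) M i n,
        ((T.fjRes X (Nat.le_succ j) i n).app M).hom b = ((T.fjι X j i n U).app M).hom a := by
  intro n₀
  induction n₀ with
  | zero =>
    intro U a hcard
    have hbad : bad X j U.1 = ∅ := (Set.ncard_eq_zero (finite_bad X j U.1 U.2.1)).1 hcard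
    have hU' := containsFj_succ_of_bad_empty U.2.1 hbad
    refine ⟨((T.fjι X (j + 1) i n ⟨U.1, hU', U.2.2⟩).app M).hom a, ?_⟩
    exact ocolimMap_ι T X (containsFj_mono X (Nat.le_succ j)) i n M ⟨U.1, hU', U.2.2⟩ a
  | succ n₀ ih =>
    intro U a hcard
    have hne : (bad X j U.1).Nonempty := by
      rw [← Set.ncard_pos (finite_bad X j U.1 U.2.1)]; omega
    obtain ⟨x, hx, hxU⟩ := hne
    obtain ⟨U1, hU1, hU2⟩ := U
    obtain ⟨P, hPU, -⟩ := Piece.exists_of_not_mem (x := x) U1 ⊤ le_top hU2 trivial hxU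
      (pd_le_of_not_mem hx hU1)
    subst hPU
    have hiD : i' = i + 1 - 2 * P.decomp.codim := by rw [codim_index P hx]; exact hi
    have hnD : n' = n - P.decomp.codim := by rw [codim_index P hx]; exact hn
    have h1 : ((T.ptι X x i' n' P.Widx).app M).hom
        ((T.res P.decomp M i n i' n' hiD hnD).hom a) = 0 := eq_zero_of_isZero (hzero x hx) _
    obtain ⟨W'', hW'', hz⟩ := (ocolim_eq_zero_iff T (X.ptSub x)
      (fun U => (U : Set (X.ptSub x).scheme).Nonempty) i' n' M (U := P.Widx) _).1 h1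
    let P' : Piece X x := P.shrink W'' hW''
    have hiD' : i' = i + 1 - 2 * P'.decomp.codim := by rw [codim_index P' hx]; exact hi
    have hnD' : n' = n - P'.decomp.codim := by rw [codim_index P' hx]; exact hn
    have h2 := Piece.res_restrict (T := T) P P' (P.shrink_Y_le W'' hW'') (le_refl _) M i n i' n'
      hiD hnD hiD' hnD' a
    have key : (T.pull (X.resLE (le_refl P.U) rfl) M i n).hom a = a := by
      rw [resLE_refl, pull_id_apply]
    have h3 : (T.res P'.decomp M i n i' n' hiD' hnD').hom a = 0 :=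
      (congrArg (T.res P'.decomp M i n i' n' hiD' hnD').hom key).symm.trans (h2.symm.trans hz)
    obtain ⟨a', ha'⟩ := (T.exact_pull_res P'.decomp M i n i' n' hiD' hnD' a).1 h3
    have hFj' : ContainsFj X j P'.Y := fun y hy => P'.hUY (hU1 y hy)
    let Unew : Idx X (ContainsFj X j) := ⟨P'.Y, hFj', P'.dimY⟩
    have h4 := ocolimι_pull T X (ContainsFj X j) i n M (U := Unew) (U' := ⟨P.U, hU1, hU2⟩)
      P'.hUY (P'.hdim.trans P'.dimY.symm) a'
    have h5 : ((T.fjι X j i n Unew).app M).hom a' =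
        ((T.fjι X j i n ⟨P.U, hU1, hU2⟩).app M).hom a := by
      rw [← h4]
      congr 1
    rw [← h5]
    apply ih Unew a'
    have := bad_piece hx P'
    change bad X j P'.Y = bad X j P.U \ {x} at this
    change (bad X j P'.Y).ncard = n₀
    rw [this, Set.ncard_sdiff_singleton_of_mem (show x ∈ bad X j P.U from ⟨hx, hxU⟩)]
    change (bad X j P.U).ncard = n₀ + 1 at hcard
    omega

/-- injectivity step: a class on `Y ⊇ F_{j+1} X` vanishing on some `U ⊇ F_j X` vanishes in
`H(F_{j+1} X)` if the groups of the points of codimension `j + 1` vanish in the push-forward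
source bidegree. -/
theorem fjι_eq_zero_of_isZero {X : Obj V} {j : ℕ} (M : A.Cat)
    (i n k n' : ℤ) (hi : k + 1 = i + 2 * ((j + 1 : ℕ) : ℤ)) (hn : n' = n + ((j + 1 : ℕ) : ℤ))
    (hzero : ∀ x : X.scheme, WeilCoh.codim X.scheme x = j + 1 → IsZero (T.ptGp X x M i n)) :
    ∀ (n₀ : ℕ) (Y : Idx X (ContainsFj X (j + 1))) (b : T.gp (X.res Y.1) M (k + 1) n')
      (U : Idx X (ContainsFj X j)) (hUY : U.1 ≤ Y.1),
      (T.pull (X.resLE hUY (U.2.2.trans Y.2.2.symm)) M (k + 1) n').hom b = 0 →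
      (bad X j U.1).ncard = n₀ →
      ((T.fjι X (j + 1) (k + 1) n' Y).app M).hom b = 0 := by
  intro n₀
  induction n₀ with
  | zero =>
    intro Y b U hUY hb hcard
    have hbad : bad X j U.1 = ∅ := (Set.ncard_eq_zero (finite_bad X j U.1 U.2.1)).1 hcard
    have hU' := containsFj_succ_of_bad_empty U.2.1 hbad
    have h1 := ocolimι_pull T X (ContainsFj X (j + 1)) (k + 1) n' M (U := Y)
      (U' := ⟨U.1, hU', U.2.2⟩) hUY (U.2.2.trans Y.2.2.symm) b
    rw [← h1, hb, map_zero]
  | succ n₀ ih =>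
    intro Y b U hUY hb hcard
    have hne : (bad X j U.1).Nonempty := by
      rw [← Set.ncard_pos (finite_bad X j U.1 U.2.1)]; omega
    obtain ⟨x, hx, hxU⟩ := hne
    have hxY : x ∈ Y.1 := Y.2.1 x (le_of_eq hx)
    obtain ⟨U1, hU1, hU2⟩ := U
    obtain ⟨Pc, hPU, hPY⟩ := Piece.exists_of_not_mem (x := x) U1 Y.1 hUY hU2 hxY hxU
      (pd_le_of_not_mem hx hU1)
    subst hPU
    have hb₁ : (T.pull Pc.j M (k + 1) n').hom
        ((T.pull (X.resLE hPY (Pc.dimY.trans Y.2.2.symm)) M (k + 1) n').hom b) = 0 := by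
      rw [← pull_comp_apply]
      have : Pc.j ≫ X.resLE hPY (Pc.dimY.trans Y.2.2.symm) =
          X.resLE hUY (hU2.trans Y.2.2.symm) := resLE_comp X _ _ _ _ _
      rw [this]
      exact hb
    obtain ⟨hi', hn', c₁, hc₁⟩ := exists_push_of_pull_zero Pc hx M i n k n' hi hn _ hb₁
    have h1 : ((T.ptι X x i n Pc.Widx).app M).hom c₁ = 0 := eq_zero_of_isZero (hzero x hx) _
    obtain ⟨W'', hW'', hz⟩ := (ocolim_eq_zero_iff T (X.ptSub x)
      (fun U => (U : Set (X.ptSub x).scheme).Nonempty) i n M (U := Pc.Widx) _).1 h1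
    let P' : Piece X x := Pc.shrink W'' hW''
    have hP'Y : P'.Y ≤ Pc.Y := Pc.shrink_Y_le W'' hW''
    have hi'' : k + 1 = i + 2 * relCodim P'.G.scheme (X.res P'.Y).scheme := by
      have := relCodim_index P' hx
      change relCodim P'.G.scheme (X.res P'.Y).scheme = _ at this
      rw [this]; exact hi
    have hn'' : n' = n + relCodim P'.G.scheme (X.res P'.Y).scheme := by
      have := relCodim_index P' hx
      change relCodim P'.G.scheme (X.res P'.Y).scheme = _ at this
      rw [this]; exact hn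
    have h2 := CPiece.push_restrict (T := T) Pc.toCPiece P'.toCPiece hP'Y
      (P'.dimY.trans Pc.dimY.symm) M i n (k + 1) n' hi' hn' hi'' hn'' c₁
    have hz' : (T.pull (CPiece.gW Pc.toCPiece P'.toCPiece hP'Y) M i n).hom c₁ = 0 := hz
    rw [hz', map_zero, hc₁] at h2
    -- `b` restricted to `P'.Y` vanishes
    have hFj' : ContainsFj X j P'.Y := fun y hy => P'.hUY (hU1 y hy)
    let Unew : Idx X (ContainsFj X j) := ⟨P'.Y, hFj', P'.dimY⟩
    have hle : P'.Y ≤ Y.1 := hP'Y.trans hPY
    have h3 : (T.pull (X.resLE hle (Unew.2.2.trans Y.2.2.symm)) M (k + 1) n').hom b = 0 := by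
      have : X.resLE hP'Y (P'.dimY.trans Pc.dimY.symm) ≫ X.resLE hPY (Pc.dimY.trans Y.2.2.symm) =
          X.resLE hle (Unew.2.2.trans Y.2.2.symm) := resLE_comp X _ _ _ _ _
      rw [← this, pull_comp_apply]
      exact h2
    apply ih Y b Unew hle h3
    have := bad_piece hx P'
    change bad X j P'.Y = bad X j Pc.U \ {x} at this
    change (bad X j P'.Y).ncard = n₀
    rw [this, Set.ncard_sdiff_singleton_of_mem (show x ∈ bad X j Pc.U from ⟨hx, hxU⟩)]
    change (bad X j Pc.U).ncard = n₀ + 1 at hcard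
    omega

/-- bijectivity criterion for `H^i(F_{j+1} X) → H^i(F_j X)` -/
theorem fjRes_bijective_of_isZero (T : PreTheory V R A) (X : Obj V) (M : A.Cat) (j : ℕ) (i n : ℤ)
    (h0 : ∀ x : X.scheme, WeilCoh.codim X.scheme x = j + 1 →
      IsZero (T.ptGp X x M (i - 2 * ((j : ℤ) + 1)) (n - ((j : ℤ) + 1))))
    (h1 : ∀ x : X.scheme, WeilCoh.codim X.scheme x = j + 1 →
      IsZero (T.ptGp X x M (i + 1 - 2 * ((j : ℤ) + 1)) (n - ((j : ℤ) + 1)))) :
    Function.Bijective ((T.fjRes X (Nat.le_succ j) i n).app M).hom := by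
  constructor
  · rw [injective_iff_map_eq_zero]
    intro y hy
    obtain ⟨k, rfl⟩ : ∃ k, i = k + 1 := ⟨i - 1, by ring⟩
    obtain ⟨Y, b, rfl⟩ := ocolim_rep T X (ContainsFj X (j + 1)) (k + 1) n M y
    have h1' := ocolimMap_ι T X (containsFj_mono X (Nat.le_succ j)) (k + 1) n M Y b
    have h2 := h1'.symm.trans hy
    obtain ⟨U'', h, hz⟩ := (ocolim_eq_zero_iff T X (ContainsFj X j) (k + 1) n M
      (U := ⟨Y.1, containsFj_mono X (Nat.le_succ j) _ Y.2.1, Y.2.2⟩) b).1 h2
    exact fjι_eq_zero_of_isZero M (k + 1 - 2 * ((j : ℤ) + 1)) (n - ((j : ℤ) + 1)) k n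
      (by push_cast; ring) (by push_cast; ring) h0 _ Y b U'' h hz rfl
  · intro y
    obtain ⟨U, a, rfl⟩ := ocolim_rep T X (ContainsFj X j) i n M y
    exact exists_extension_of_isZero M i n _ _ rfl rfl h1 _ U a rfl

end Groth.Agent.Lib.Helper81.BMVanish

end
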