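import Groth.Prelude.Def_CartDual
import Groth.Prelude.Def_AlphaP
import Mathlib

/-!
# Helper81: the Cartier dual of α_p

`δ` is the functional dual to `x`; `e' : A →ₐ[R] D R A`, `x ↦ δ`, is a bijective bialgebra map (`eEquiv`).
-/

set_option autoImplicit false
universe u
open CartDual TensorProduct Polynomial

namespace Groth.Agent.Lib.Helper81.AlphaPDual

lemma nontrivialR (p : ℕ) [hp : Fact p.Prime] (R : Type u) [CommRing R] [CharP R p] : Nontrivial R :=
  CharP.nontrivial_of_char_ne_one (R := R) (Nat.Prime.ne_one hp.out)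

lemma one_lt_p (p : ℕ) [hp : Fact p.Prime] : 1 < p := hp.out.one_lt

variable (p : ℕ) [hp : Fact p.Prime] (R : Type u) [CommRing R] [CharP R p]

/-- the functional dual to `x` -/
noncomputable def δ : CartDual.D R (AlphaP.A p R) :=
  haveI := nontrivialR p R
  WithConv.toConv ((AlphaP.basis p R).coord ⟨1, one_lt_p p⟩)

lemma δ_x_pow (m : ℕ) : δ p R (AlphaP.x p R ^ m) = if m = 1 then 1 else 0 := by
  have := nontrivialR p R
  by_cases hm : m < p
  · have h1 : AlphaP.x p R ^ m = AlphaP.basis p R ⟨m, hm⟩ := by rw [AlphaP.basis_apply]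
    rw [h1]
    change (AlphaP.basis p R).coord ⟨1, one_lt_p p⟩ (AlphaP.basis p R ⟨m, hm⟩) = _
    rw [Module.Basis.coord_apply, Module.Basis.repr_self, Finsupp.single_apply]
    simp only [Fin.mk.injEq]
  · rw [AlphaP.x_pow_of_le p R (not_lt.mp hm), CartDual.coe_apply, map_zero, if_neg]
    intro h; rw [h] at hm; exact hm (one_lt_p p)

lemma counit_x_pow (m : ℕ) : Coalgebra.counit (R := R) (AlphaP.x p R ^ m) = if m = 0 then 1 else 0 := by
  have h : Coalgebra.counit (R := R) (AlphaP.x p R ^ m) = (Bialgebra.counitAlgHom R (AlphaP.A p R)) (AlphaP.x p R ^ m) := rfl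
  rw [h, map_pow]
  have h2 : (Bialgebra.counitAlgHom R (AlphaP.A p R)) (AlphaP.x p R) = 0 := AlphaP.counit_x p R
  rw [h2]
  split_ifs with h0
  · rw [h0, pow_zero]
  · exact zero_pow h0

lemma comul_x_pow (j : ℕ) : Coalgebra.comul (R := R) (AlphaP.x p R ^ j) =
    ∑ k ∈ Finset.range (j + 1), (j.choose k : R) • ((AlphaP.x p R ^ k) ⊗ₜ[R] (AlphaP.x p R ^ (j - k))) := by
  have h : Coalgebra.comul (R := R) (AlphaP.x p R ^ j) = (Bialgebra.comulAlgHom R (AlphaP.A p R)) (AlphaP.x p R ^ j) := rfl
  rw [h, map_pow]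
  have h2 : (Bialgebra.comulAlgHom R (AlphaP.A p R)) (AlphaP.x p R) = AlphaP.x p R ⊗ₜ[R] 1 + 1 ⊗ₜ[R] AlphaP.x p R :=
    AlphaP.comul_x p R
  rw [h2, (Commute.all _ _).add_pow]
  refine Finset.sum_congr rfl fun k _ => ?_
  rw [Algebra.TensorProduct.tmul_pow, Algebra.TensorProduct.tmul_pow, one_pow, one_pow,
    Algebra.TensorProduct.tmul_mul_tmul, mul_one, one_mul, mul_comm, ← nsmul_eq_mul,
    Nat.cast_smul_eq_nsmul]

lemma δ_pow_apply (n j : ℕ) : (δ p R ^ n) (AlphaP.x p R ^ j) = if n = j then (n.factorial : R) else 0 := by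
  induction n generalizing j with
  | zero =>
    rw [pow_zero, LinearMap.convOne_apply, counit_x_pow]
    by_cases hj : j = 0
    · simp [hj]
    · rw [if_neg hj, if_neg (Ne.symm hj)]; simp
  | succ n ih =>
    rw [pow_succ, LinearMap.convMul_apply, comul_x_pow, map_sum, map_sum]
    have hterm : ∀ k ∈ Finset.range (j + 1),
        (LinearMap.mul' R R) ((TensorProduct.map (δ p R ^ n).ofConv (δ p R).ofConv)
          ((j.choose k : R) • ((AlphaP.x p R ^ k) ⊗ₜ[R] (AlphaP.x p R ^ (j - k))))) =
        (j.choose k : R) * ((if n = k then (n.factorial : R) else 0) * (if j - k = 1 then 1 else 0)) := by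
      intro k _
      rw [map_smul, map_smul, TensorProduct.map_tmul, LinearMap.mul'_apply, smul_eq_mul,
        ← CartDual.coe_apply, ← CartDual.coe_apply, ih, δ_x_pow]
    rw [Finset.sum_congr rfl hterm]
    by_cases hj : n + 1 = j
    · subst hj
      rw [if_pos rfl, Finset.sum_eq_single n]
      · rw [if_pos rfl, if_pos (by omega), mul_one, Nat.choose_succ_self_right, Nat.factorial_succ]
        push_cast; ring
      · intro k _ hk
        rw [if_neg (Ne.symm hk), zero_mul, mul_zero]
      · intro h; exfalso; exact h (Finset.mem_range.mpr (by omega))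
    · rw [if_neg hj]
      apply Finset.sum_eq_zero
      intro k hk
      by_cases hnk : n = k
      · subst hnk
        have hk' := Finset.mem_range.mp hk
        rw [if_neg (show ¬ (j - n = 1) by omega), mul_zero, mul_zero]
      · rw [if_neg hnk, zero_mul, mul_zero]


lemma δ_pow_p : δ p R ^ p = 0 := by
  have := nontrivialR p R
  apply WithConv.ext
  apply (AlphaP.basis p R).ext
  intro j
  rw [AlphaP.basis_apply]
  change (δ p R ^ p) (AlphaP.x p R ^ (j : ℕ)) = 0
  rw [δ_pow_apply, if_neg (ne_of_gt j.isLt)]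

noncomputable def e' : AlphaP.A p R →ₐ[R] CartDual.D R (AlphaP.A p R) :=
  AlphaP.lift p R (δ p R) (δ_pow_p p R)

lemma e'_x : e' p R (AlphaP.x p R) = δ p R := AlphaP.lift_x _ _

lemma e'_x_pow (n : ℕ) : e' p R (AlphaP.x p R ^ n) = δ p R ^ n := by
  rw [map_pow, e'_x]

lemma isUnit_fact (j : ℕ) (hj : j < p) : IsUnit (j.factorial : R) :=
  (IsUnit.natCast_factorial_iff_of_charP p).mpr hj

lemma e'_sum_apply (c : Fin p → R) (j : Fin p) :
    (e' p R (∑ i : Fin p, c i • AlphaP.x p R ^ (i : ℕ))) (AlphaP.x p R ^ (j : ℕ)) = c j * ((j : ℕ).factorial : R) := by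
  rw [map_sum]
  simp_rw [map_smul, e'_x_pow]
  rw [CartDual.coe_apply, WithConv.ofConv_sum, LinearMap.sum_apply, Finset.sum_eq_single j]
  · rw [WithConv.ofConv_smul, LinearMap.smul_apply, ← CartDual.coe_apply, δ_pow_apply, if_pos rfl, smul_eq_mul]
  · intro i _ hi
    rw [WithConv.ofConv_smul, LinearMap.smul_apply, ← CartDual.coe_apply, δ_pow_apply, if_neg, smul_zero]
    exact fun h => hi (Fin.ext h)
  · intro h; exact absurd (Finset.mem_univ _) h


lemma e'_injective : Function.Injective (e' p R) := by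
  have := nontrivialR p R
  rw [injective_iff_map_eq_zero]
  intro a ha
  have hsum := (AlphaP.basis p R).sum_repr a
  simp_rw [AlphaP.basis_apply] at hsum
  have hz : ∀ j : Fin p, (AlphaP.basis p R).repr a j = 0 := by
    intro j
    have h := e'_sum_apply p R (fun i => (AlphaP.basis p R).repr a i) j
    rw [hsum, ha] at h
    have h0 : (0 : CartDual.D R (AlphaP.A p R)) (AlphaP.x p R ^ (j : ℕ)) = 0 := rfl
    rw [h0] at h
    exact ((isUnit_fact p R j j.isLt).mul_left_eq_zero).mp h.symm
  apply (AlphaP.basis p R).repr.injective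
  ext j
  rw [hz j, map_zero, Finsupp.zero_apply]

lemma e'_surjective : Function.Surjective (e' p R) := by
  have := nontrivialR p R
  intro y
  choose u hu using fun j : Fin p => (isUnit_fact p R j j.isLt).exists_left_inv
  refine ⟨∑ i : Fin p, (y (AlphaP.x p R ^ (i : ℕ)) * u i) • AlphaP.x p R ^ (i : ℕ), ?_⟩
  apply WithConv.ext
  apply (AlphaP.basis p R).ext
  intro j
  rw [AlphaP.basis_apply, ← CartDual.coe_apply, ← CartDual.coe_apply, e'_sum_apply, mul_assoc, hu j, mul_one]

lemma δ_mul (a b : AlphaP.A p R) :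
    δ p R (a * b) = δ p R a * Coalgebra.counit (R := R) b + Coalgebra.counit (R := R) a * δ p R b := by
  have := nontrivialR p R
  have key : (LinearMap.mul R (AlphaP.A p R)).compr₂ (δ p R).ofConv =
      (LinearMap.mul R R).compl₁₂ (δ p R).ofConv (Coalgebra.counit (R := R) (A := AlphaP.A p R)) +
      (LinearMap.mul R R).compl₁₂ (Coalgebra.counit (R := R) (A := AlphaP.A p R)) (δ p R).ofConv := by
    apply (AlphaP.basis p R).ext
    intro i
    apply (AlphaP.basis p R).ext
    intro j
    rw [AlphaP.basis_apply, AlphaP.basis_apply]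
    simp only [LinearMap.compr₂_apply, LinearMap.mul_apply', LinearMap.add_apply, LinearMap.compl₁₂_apply]
    rw [← pow_add, ← CartDual.coe_apply, δ_x_pow, δ_x_pow, δ_x_pow, counit_x_pow, counit_x_pow]
    rcases i with ⟨i, hi⟩
    rcases j with ⟨j, hj⟩
    simp only
    by_cases h1 : i + j = 1
    · rw [if_pos h1]
      by_cases hi0 : i = 0
      · have hj1 : j = 1 := by omega
        subst hi0; subst hj1; simp
      · have hi1 : i = 1 := by omega
        have hj0 : j = 0 := by omega
        subst hi1; subst hj0; simp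
    · rw [if_neg h1]
      by_cases hi1 : i = 1
      · have : j ≠ 0 := by omega
        simp [hi1, this]
      · by_cases hi0 : i = 0
        · have : j ≠ 1 := by omega
          simp [hi0, this]
        · simp [hi1, hi0]
  have := congrArg (fun f => f a b) key
  simpa [LinearMap.compr₂_apply, LinearMap.compl₁₂_apply, CartDual.coe_apply] using this


lemma comul_δ : Coalgebra.comul (R := R) (δ p R) = δ p R ⊗ₜ[R] 1 + 1 ⊗ₜ[R] δ p R := by
  apply (CartDual.ev₂ R (AlphaP.A p R)).injective
  apply TensorProduct.ext'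
  intro a b
  rw [CartDual.ev₂_coalgebra_comul_tmul, map_add, LinearMap.add_apply, CartDual.ev₂_tmul, CartDual.ev₂_tmul,
    δ_mul]
  rfl

lemma e'_counit : (Bialgebra.counitAlgHom R (CartDual.D R (AlphaP.A p R))).comp (e' p R) =
    Bialgebra.counitAlgHom R (AlphaP.A p R) := by
  apply AlphaP.algHom_ext
  rw [AlgHom.comp_apply, e'_x]
  change (δ p R) 1 = Coalgebra.counit (R := R) (AlphaP.x p R)
  rw [AlphaP.counit_x]
  have := δ_x_pow p R 0
  rw [pow_zero] at this
  rw [this, if_neg (by norm_num)]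

lemma e'_comul : (Algebra.TensorProduct.map (e' p R) (e' p R)).comp (Bialgebra.comulAlgHom R (AlphaP.A p R)) =
    (Bialgebra.comulAlgHom R (CartDual.D R (AlphaP.A p R))).comp (e' p R) := by
  apply AlphaP.algHom_ext
  rw [AlgHom.comp_apply, AlgHom.comp_apply, e'_x]
  change Algebra.TensorProduct.map (e' p R) (e' p R) (Coalgebra.comul (R := R) (AlphaP.x p R)) =
    Coalgebra.comul (R := R) (δ p R)
  rw [AlphaP.comul_x, comul_δ, map_add, Algebra.TensorProduct.map_tmul, Algebra.TensorProduct.map_tmul,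
    map_one, e'_x]

noncomputable def eEquiv : AlphaP.A p R ≃ₐc[R] CartDual.D R (AlphaP.A p R) :=
  BialgEquiv.ofAlgEquiv (AlgEquiv.ofBijective (e' p R) ⟨e'_injective p R, e'_surjective p R⟩)
    (e'_counit p R) (e'_comul p R)

lemma eEquiv_apply (a : AlphaP.A p R) : eEquiv p R a = e' p R a := rfl


lemma pow_p_eq (a : AlphaP.A p R) :
    a ^ p = algebraMap R (AlphaP.A p R) ((Coalgebra.counit (R := R) a) ^ p) := by
  let φ₁ : AlphaP.A p R →+* AlphaP.A p R := frobenius _ p
  let φ₂ : AlphaP.A p R →+* AlphaP.A p R :=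
    (algebraMap R _).comp ((frobenius R p).comp (Bialgebra.counitAlgHom R (AlphaP.A p R)).toRingHom)
  have h : φ₁.comp (AlphaP.mk p R).toRingHom = φ₂.comp (AlphaP.mk p R).toRingHom := by
    apply Polynomial.ringHom_ext
    · intro r
      have h1 : (AlphaP.mk p R) (C r) = algebraMap R (AlphaP.A p R) r := by
        rw [← Polynomial.algebraMap_eq, AlgHom.commutes]
      simp only [RingHom.comp_apply, AlgHom.toRingHom_eq_coe, RingHom.coe_coe, h1, φ₁, φ₂, frobenius_def]
      rw [AlgHom.commutes, ← map_pow]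
      rfl
    · simp only [RingHom.comp_apply, AlgHom.toRingHom_eq_coe, RingHom.coe_coe, AlphaP.mk_X, φ₁, φ₂, frobenius_def]
      have h2 : (Bialgebra.counitAlgHom R (AlphaP.A p R)) (AlphaP.x p R) = 0 := AlphaP.counit_x p R
      rw [AlphaP.x_pow, h2, zero_pow hp.out.ne_zero, map_zero]
  obtain ⟨f, rfl⟩ := AlphaP.mk_surjective p R a
  exact congrArg (fun φ => φ f) h

lemma dual_pow_p (y : CartDual.D R (AlphaP.A p R)) :
    y ^ p = algebraMap R (CartDual.D R (AlphaP.A p R)) ((y 1) ^ p) := by
  obtain ⟨a, rfl⟩ := e'_surjective p R y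
  have h1 : (e' p R a) 1 = Coalgebra.counit (R := R) a := by
    have := congrArg (fun φ => φ a) (e'_counit p R)
    exact this
  rw [h1, ← map_pow, pow_p_eq, AlgHom.commutes]

end Groth.Agent.Lib.Helper81.AlphaPDual
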