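import Groth.Prelude.Def_Versch
import Groth.Prelude.Def_CartDual2
import Mathlib

/-!
# Helper81: small library for Cartier duals (`CartDual.D`) and Verschiebung (`Versch.IsVerschiebung`)

* `trivialVersch`, `eq_trivialVersch_of_pow` : if `x ^ p = algebraMap (x 1 ^ p)` for all `x : D R A` then every
  Verschiebung is the trivial map `a ↦ 1 ⊗ ε a`.
* `evD` : the evaluation map `A → D R (D R A)`, `evD_apply`, `evD_mul`, `evD_one`, `evD_bijective`.
-/

set_option autoImplicit false
universe u v
open TensorProduct

namespace Groth.Agent.Lib.Helper81.CartDualLib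

section Trivial

variable (p : ℕ) [Fact p.Prime] (R : Type u) [CommRing R] [CharP R p] (A : Type v) [CommRing A]
  [HopfAlgebra R A]

/-- the trivial map `a ↦ 1 ⊗ ε(a)` -/
noncomputable def trivialVersch : A →+* FrobAlg.BaseChange p R A :=
  ((Algebra.TensorProduct.includeRight (R := R) (A := A) (B := FrobAlg.Twist p R)).toRingHom.comp
    (FrobAlg.toTwist p R).toRingHom).comp (Bialgebra.counitAlgHom R A).toRingHom

lemma trivialVersch_apply (a : A) :
    trivialVersch p R A a = (1 : A) ⊗ₜ[R] FrobAlg.toTwist p R (Coalgebra.counit (R := R) a) := rfl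

variable [Coalgebra.IsCocomm R A] [Module.Finite R A] [Module.Projective R A]

theorem isVerschiebung_trivialVersch
    (h : ∀ x : CartDual.D R A, x ^ p = algebraMap R (CartDual.D R A) ((x 1) ^ p)) :
    Versch.IsVerschiebung p R A (trivialVersch p R A) := by
  rw [Versch.isVerschiebung_iff]
  intro a x
  rw [trivialVersch_apply, Versch.evTw_tmul', h x, ← map_mul, CartDual.coe_apply,
    LinearMap.convAlgebraMap_apply]
  simp

theorem eq_trivialVersch_of_pow
    (h : ∀ x : CartDual.D R A, x ^ p = algebraMap R (CartDual.D R A) ((x 1) ^ p))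
    (v : A →+* FrobAlg.BaseChange p R A) (hv : Versch.IsVerschiebung p R A v) :
    v = trivialVersch p R A :=
  Versch.IsVerschiebung.unique p R A hv (isVerschiebung_trivialVersch p R A h)

end Trivial

section DoubleDual

variable (R : Type u) [CommRing R] (A : Type v) [CommRing A] [HopfAlgebra R A]
  [Module.Finite R A] [Module.Projective R A]

/-- evaluation `A → D (D A)` as a linear map -/
noncomputable def evDLin : A →ₗ[R] CartDual.D R (CartDual.D R A) :=
  (CartDual.toDual R (CartDual.D R A)).symm.toLinearMap ∘ₗ
    ((CartDual.toDual R A).toLinearMap.dualMap ∘ₗ (Module.Dual.eval R A))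

@[simp] lemma evDLin_apply (a : A) (y : CartDual.D R A) : evDLin R A a y = y a := rfl

lemma evDLin_bijective : Function.Bijective (evDLin R A) := by
  have h1 : Function.Bijective (CartDual.toDual R (CartDual.D R A)).symm :=
    (CartDual.toDual R (CartDual.D R A)).symm.bijective
  have h2 : Function.Bijective ((CartDual.toDual R A).toLinearMap.dualMap) :=
    (LinearEquiv.dualMap (CartDual.toDual R A)).bijective
  have h3 : Function.Bijective (Module.Dual.eval R A) := Module.bijective_dual_eval R A
  exact h1.comp (h2.comp h3)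

lemma mul'_map_evDLin (a b : A) (t : CartDual.D R A ⊗[R] CartDual.D R A) :
    LinearMap.mul' R R (TensorProduct.map (evDLin R A a).ofConv (evDLin R A b).ofConv t) =
      CartDual.ev₂ R A t (a ⊗ₜ b) := by
  induction t using TensorProduct.induction_on with
  | zero => simp
  | tmul y z =>
    rw [TensorProduct.map_tmul, LinearMap.mul'_apply, CartDual.ev₂_tmul]
    rfl
  | add t t' ht ht' => simp only [map_add, ht, ht', LinearMap.add_apply]

lemma evDLin_mul (a b : A) : evDLin R A (a * b) = evDLin R A a * evDLin R A b := by
  apply WithConv.ext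
  apply LinearMap.ext
  intro y
  rw [← CartDual.coe_apply, ← CartDual.coe_apply, LinearMap.convMul_apply, mul'_map_evDLin,
    CartDual.ev₂_coalgebra_comul_tmul]
  rfl

lemma evDLin_one : evDLin R A 1 = 1 := by
  apply WithConv.ext
  apply LinearMap.ext
  intro y
  rw [← CartDual.coe_apply, ← CartDual.coe_apply, LinearMap.convOne_apply]
  simp

lemma evDLin_algebraMap (r : R) : evDLin R A (algebraMap R A r) = algebraMap R _ r := by
  rw [Algebra.algebraMap_eq_smul_one, map_smul, evDLin_one, Algebra.algebraMap_eq_smul_one]

lemma evDLin_pow (a : A) (n : ℕ) : evDLin R A (a ^ n) = evDLin R A a ^ n := by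
  induction n with
  | zero => rw [pow_zero, pow_zero, evDLin_one]
  | succ n ih => rw [pow_succ, pow_succ, evDLin_mul, ih]

end DoubleDual

end Groth.Agent.Lib.Helper81.CartDualLib
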