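import Mathlib
import Groth.Prelude.Def_DescFam
import Groth.Agent.S5233
set_option autoImplicit false
open CategoryTheory CategoryTheory.Limits AlgebraicGeometry
universe u
namespace Groth.Agent.Lib.Helper81.ClosedDesc

open Desc

/-! ### Kernel lemmas -/

lemma le_ker_of_openCover {W X : Scheme.{u}} (I : X.IdealSheafData) (w : W ⟶ X)
    (𝒲 : W.OpenCover) (h : ∀ k, I ≤ (𝒲.f k ≫ w).ker) : I ≤ w.ker := by
  rw [Scheme.Hom.ker, Scheme.IdealSheafData.le_ofIdeals_iff]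
  intro V s hs
  rw [RingHom.mem_ker]
  apply Scheme.zero_of_zero_cover _ 𝒲
  intro k
  have h1 := (𝒲.f k ≫ w).ideal_ker_le V (h k V hs)
  rw [RingHom.mem_ker, Scheme.Hom.comp_app] at h1
  exact h1

lemma le_ker_of_flat_family {T X : Scheme.{u}} (I : X.IdealSheafData) (t : T ⟶ X)
    {κ : Type*} (T' : κ → Scheme.{u}) (a : ∀ k, T' k ⟶ T) [∀ k, Flat (a k)]
    (hsurj : ∀ x : T, ∃ k, x ∈ Set.range (a k))
    (h : ∀ k, I ≤ (a k ≫ t).ker) : I ≤ t.ker := by
  rw [Scheme.Hom.ker, Scheme.IdealSheafData.le_ofIdeals_iff]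
  intro V s hs
  rw [RingHom.mem_ker]
  refine TopCat.Presheaf.section_ext T.sheaf _ _ 0 fun x hx ↦ ?_
  obtain ⟨k, y, rfl⟩ := hsurj x
  have h1 := (a k ≫ t).ideal_ker_le V (h k V hs)
  rw [RingHom.mem_ker] at h1
  have key : T.presheaf.germ (t ⁻¹ᵁ V.1) ((a k) y) hx ((t.app V.1) s) = 0 := by
    apply Groth.Agent.S5233.stalkMap_injective_of_flat (a k) y
    rw [Scheme.Hom.germ_stalkMap_apply, map_zero]
    have : ((a k).app (t ⁻¹ᵁ V.1)) ((t.app V.1) s) = ((a k ≫ t).app V.1) s := by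
      rw [Scheme.Hom.comp_app]; rfl
    rw [this, h1]
    exact map_zero _
  exact key.trans (map_zero _).symm

lemma exists_fac_iff_ker_le {Z X T : Scheme.{u}} (c : Z ⟶ X) [IsClosedImmersion c] (x : T ⟶ X) :
    (∃ v : T ⟶ Z, v ≫ c = x) ↔ c.ker ≤ x.ker := by
  constructor
  · rintro ⟨v, rfl⟩
    exact Scheme.Hom.le_ker_comp _ _
  · intro h
    exact ⟨IsClosedImmersion.lift c x h, IsClosedImmersion.lift_fac _ _ _⟩


/-! ### The closed subfunctor defined by a descent datum of closed immersions -/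

section
variable {S : Scheme.{u}} {ι : Type u} {X : ι → Scheme.{u}} {f : ∀ i, X i ⟶ S} (D : SchDDFam f)

/-- `x` factors through `Z_i`. -/
def InZ (i : ι) {T : Scheme.{u}} (x : T ⟶ X i) : Prop := Nonempty (Lifts (D.obj i) x)

lemma inZ_iff_of_eq {T : Scheme.{u}} {i j : ι} (x₀ : T ⟶ X i) (x₁ : T ⟶ X j)
    (h : x₀ ≫ f i = x₁ ≫ f j) : InZ D i x₀ ↔ InZ D j x₁ :=
  ⟨fun ⟨v⟩ => ⟨D.φ x₀ x₁ h v⟩, fun ⟨v⟩ => ⟨(D.φ x₀ x₁ h).symm v⟩⟩

lemma inZ_iff_exists {T : Scheme.{u}} {i : ι} (x : T ⟶ X i) :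
    InZ D i x ↔ ∃ v : T ⟶ (D.obj i).left, v ≫ (D.obj i).hom = x :=
  ⟨fun ⟨v⟩ => ⟨v.1, v.2⟩, fun ⟨v, hv⟩ => ⟨⟨v, hv⟩⟩⟩

lemma inZ_iff_ker {T : Scheme.{u}} {i : ι} [IsClosedImmersion (D.obj i).hom] (x : T ⟶ X i) :
    InZ D i x ↔ (D.obj i).hom.ker ≤ x.ker := by
  rw [inZ_iff_exists, exists_fac_iff_ker_le]

lemma InZ.comp {T T' : Scheme.{u}} {i : ι} {x : T ⟶ X i} (h : InZ D i x) (a : T' ⟶ T) :
    InZ D i (a ≫ x) := by
  obtain ⟨v, hv⟩ := (inZ_iff_exists D x).1 h
  exact (inZ_iff_exists D _).2 ⟨a ≫ v, by rw [Category.assoc, hv]⟩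

/-- The subfunctor of `h_S` cut out by the descent datum. -/
def Q {T : Scheme.{u}} (s : T ⟶ S) : Prop :=
  ∀ (i : ι) (T' : Scheme.{u}) (a : T' ⟶ T) (x : T' ⟶ X i), x ≫ f i = a ≫ s → InZ D i x

lemma Q.comp {T T' : Scheme.{u}} {s : T ⟶ S} (h : Q D s) (a : T' ⟶ T) : Q D (a ≫ s) := by
  intro i T'' b x hx
  exact h i T'' (b ≫ a) x (by rw [hx, Category.assoc])

lemma Q_iff_inZ {T : Scheme.{u}} {i : ι} (x : T ⟶ X i) : Q D (x ≫ f i) ↔ InZ D i x := by
  constructor
  · intro h; exact h i T (𝟙 _) x (by simp)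
  · intro h j T' a x' hx'
    exact (inZ_iff_of_eq D (a ≫ x) x' (by rw [Category.assoc, hx'])).1 (h.comp D a)

end


section
variable {S : Scheme.{u}} {ι : Type u} {X : ι → Scheme.{u}} {f : ∀ i, X i ⟶ S} (D : SchDDFam f)

lemma exists_finite_affine_refinement (hflat : ∀ i, Flat (f i))
    (hqc : QuasiCompactCover (⟨ι, X, f⟩ : PreZeroHypercover.{u} S))
    {U : Scheme.{u}} [IsAffine U] (u : U ⟶ S) :
    ∃ (n : ℕ) (idx : Fin n → ι) (P : Fin n → Scheme.{u}) (π : ∀ k, P k ⟶ U)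
      (q : ∀ k, P k ⟶ X (idx k)), (∀ k, IsAffine (P k)) ∧ (∀ k, Flat (π k)) ∧
      (∀ k, π k ≫ u = q k ≫ f (idx k)) ∧ (∀ x : U, ∃ k, x ∈ Set.range (π k)) := by
  let E : PreZeroHypercover.{u} S := ⟨ι, X, f⟩
  have hE : QuasiCompactCover (E.pullback₁ u) := inferInstance
  have key : ∃ (n : ℕ) (idx : Fin n → ι) (V : ∀ k, (pullback u (f (idx k))).Opens),
      (∀ k, IsAffineOpen (V k)) ∧
      ⋃ k, (pullback.fst u (f (idx k))) '' (V k) = ((⊤ : U.Opens) : Set U) :=
    QuasiCompactCover.exists_isAffineOpen_of_isCompact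
      (E.pullback₁ u) (U := ⊤) isCompact_univ
  obtain ⟨n, idx, V, hV, hcov⟩ := key
  refine ⟨n, idx, fun k => (V k : Scheme.{u}), fun k => (V k).ι ≫ pullback.fst u (f (idx k)),
    fun k => (V k).ι ≫ pullback.snd u (f (idx k)), fun k => hV k, fun k => ?_, fun k => ?_,
    fun x => ?_⟩
  · have := hflat (idx k)
    infer_instance
  · rw [Category.assoc, Category.assoc, pullback.condition]
  · have hx : x ∈ ((⊤ : U.Opens) : Set U) := trivial
    rw [← hcov] at hx
    simp only [Set.mem_iUnion, Set.mem_image] at hx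
    obtain ⟨k, y, hy, rfl⟩ := hx
    refine ⟨k, ⟨y, hy⟩, ?_⟩
    rfl


theorem exists_repr_affine (hflat : ∀ i, Flat (f i))
    (hqc : QuasiCompactCover (⟨ι, X, f⟩ : PreZeroHypercover.{u} S))
    (hD : ∀ i, IsClosedImmersion (D.obj i).hom)
    {U : Scheme.{u}} [IsAffine U] (u : U ⟶ S) :
    ∃ (Z : Scheme.{u}) (c : Z ⟶ U), IsClosedImmersion c ∧
      ∀ (T : Scheme.{u}) (t : T ⟶ U), (∃ t' : T ⟶ Z, t' ≫ c = t) ↔ Q D (t ≫ u) := by
  obtain ⟨n, idx, P, π, q, hP, hπ, hπq, hsurj⟩ := exists_finite_affine_refinement hflat hqc u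
  let c : ∀ i, (D.obj i).left ⟶ X i := fun i => (D.obj i).hom
  have hc : ∀ i, IsClosedImmersion (c i) := hD
  let Y : Fin n → Scheme.{u} := fun k => pullback (c (idx k)) (q k)
  let y : ∀ k, Y k ⟶ P k := fun k => pullback.snd (c (idx k)) (q k)
  have hy : ∀ k, IsClosedImmersion (y k) := fun k => inferInstance
  have hYaff : ∀ k, IsAffine (Y k) := fun k => isAffine_of_isAffineHom (y k)
  have hYpts : ∀ k (T : Scheme.{u}) (b : T ⟶ P k),
      (∃ b', b' ≫ y k = b) ↔ InZ D (idx k) (b ≫ q k) := by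
    intro k T b
    rw [inZ_iff_exists]
    constructor
    · rintro ⟨b', rfl⟩
      exact ⟨b' ≫ pullback.fst _ _, by simp [y, c, pullback.condition]⟩
    · rintro ⟨v, hv⟩
      exact ⟨pullback.lift v b hv, pullback.lift_snd _ _ _⟩
  let h : ∐ Y ⟶ U := Sigma.desc (fun k => y k ≫ π k)
  have hsigaff : IsAffine (∐ Y) := inferInstance
  have hqch : QuasiCompact h := inferInstance
  let cU : h.image ⟶ U := h.imageι
  refine ⟨h.image, cU, inferInstance, ?_⟩
  have C1 : ∀ l, InZ D (idx l) (pullback.snd cU (π l) ≫ q l) := by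
    intro l
    let j := pullback.snd cU (π l)
    let p := pullback.fst cU (π l)
    have hp : Flat p := inferInstance
    let g' := h.toImage
    have hg'dom := Groth.Agent.S5233.toImage_dominant h
    have hdom : IsSchemeTheoreticallyDominant (pullback.snd g' p) := inferInstance
    rw [inZ_iff_ker]
    have e1 : (pullback.snd g' p ≫ (j ≫ q l)).ker = (j ≫ q l).ker := by
      rw [Scheme.Hom.ker_comp, (pullback.snd g' p).ker_eq_bot, Scheme.IdealSheafData.map_bot]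
    rw [← e1]
    let 𝒲 := (sigmaOpenCover Y).pullback₁ (pullback.fst g' p)
    apply le_ker_of_openCover _ _ 𝒲
    intro (k : Fin n)
    rw [← inZ_iff_ker]
    have hx0 : InZ D (idx k) ((pullback.snd (pullback.fst g' p) (Sigma.ι Y k) ≫ y k) ≫ q k) :=
      (hYpts k _ _).1 ⟨pullback.snd _ _, rfl⟩
    refine (inZ_iff_of_eq D _ _ ?_).1 hx0
    have w1 : pullback.fst (pullback.fst g' p) (Sigma.ι Y k) ≫ pullback.fst g' p =
        pullback.snd (pullback.fst g' p) (Sigma.ι Y k) ≫ Sigma.ι Y k := pullback.condition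
    have w2 : pullback.fst g' p ≫ g' = pullback.snd g' p ≫ p := pullback.condition
    have w3 : p ≫ cU = j ≫ π l := pullback.condition
    have w4 : g' ≫ cU = h := h.toImage_imageι
    have w5 : Sigma.ι Y k ≫ h = y k ≫ π k := Sigma.ι_desc _ _
    change _ = (pullback.fst (pullback.fst g' p) (Sigma.ι Y k) ≫ pullback.snd g' p ≫ j ≫ q l) ≫ _
    simp only [Category.assoc, ← hπq]
    rw [← reassoc_of% w3, ← reassoc_of% w2, reassoc_of% w4, reassoc_of% w1, reassoc_of% w5]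
    simp only [hπq]
    exact (Category.assoc _ _ _).trans (congrArg _ (Category.assoc _ _ _))
  intro T t
  constructor
  · rintro ⟨t', rfl⟩
    intro i T' a x hx
    rw [inZ_iff_ker]
    let T'' : Fin n → Scheme.{u} := fun k => pullback (a ≫ t' ≫ cU) (π k)
    apply le_ker_of_flat_family _ x T'' (fun k => pullback.fst _ _)
    · intro x'
      obtain ⟨k, y0, hy0⟩ := hsurj ((a ≫ t' ≫ cU) x')
      obtain ⟨z, hz1, hz2⟩ := Scheme.Pullback.exists_preimage_pullback x' y0 hy0.symm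
      exact ⟨k, z, hz1⟩
    · intro k
      rw [← inZ_iff_ker]
      let b := pullback.snd (a ≫ t' ≫ cU) (π k)
      have hb : InZ D (idx k) (b ≫ q k) := by
        let b' : T'' k ⟶ pullback cU (π k) :=
          pullback.lift (pullback.fst _ _ ≫ a ≫ t') b (by simp [pullback.condition, b])
        have hb' : b = b' ≫ pullback.snd cU (π k) := (pullback.lift_snd _ _ _).symm
        rw [hb', Category.assoc]
        exact (C1 k).comp D b'
      refine (inZ_iff_of_eq D (b ≫ q k) (pullback.fst _ _ ≫ x) ?_).1 hb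
      have w1 : pullback.fst (a ≫ t' ≫ cU) (π k) ≫ (a ≫ t' ≫ cU) = b ≫ π k := pullback.condition
      rw [Category.assoc, ← hπq, ← reassoc_of% w1, Category.assoc, hx]
      simp only [Category.assoc]
  · intro hQ
    rw [exists_fac_iff_ker_le]
    let T'' : Fin n → Scheme.{u} := fun k => pullback t (π k)
    apply le_ker_of_flat_family _ t T'' (fun k => pullback.fst _ _)
    · intro x'
      obtain ⟨k, y0, hy0⟩ := hsurj (t x')
      obtain ⟨z, hz1, hz2⟩ := Scheme.Pullback.exists_preimage_pullback x' y0 hy0.symm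
      exact ⟨k, z, hz1⟩
    · intro k
      let b := pullback.snd t (π k)
      have w1 : pullback.fst t (π k) ≫ t = b ≫ π k := pullback.condition
      have hb : InZ D (idx k) (b ≫ q k) :=
        hQ (idx k) (T'' k) (pullback.fst t (π k)) (b ≫ q k)
          (by rw [Category.assoc, ← hπq, ← reassoc_of% w1])
      obtain ⟨b', hb'⟩ := (hYpts k _ b).2 hb
      have w5 : Sigma.ι Y k ≫ h = y k ≫ π k := Sigma.ι_desc _ _
      have e : pullback.fst t (π k) ≫ t = (b' ≫ Sigma.ι Y k ≫ h.toImage) ≫ cU := by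
        rw [w1, ← hb']
        simp only [Category.assoc]
        rw [show h.toImage ≫ cU = h from h.toImage_imageι, w5]
      rw [e]
      exact Scheme.Hom.le_ker_comp _ _

end

end Groth.Agent.Lib.Helper81.ClosedDesc
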