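import Mathlib
import Groth.Agent.S19547

/-!
# Affine descent of algebras (algebraic core)

An "abstract descent datum on `R`-points" on an `A'`-algebra `B'` relative to a faithfully flat `A → A'`
gives a sub-`A`-algebra `B ⊆ B'` with `A' ⊗_A B ≃ B'`, on which the descent datum acts trivially.
-/

set_option autoImplicit false
open TensorProduct
universe u
namespace Groth.Agent.Lib.Helper81.DescAlg

variable (A A' B' : Type u) [CommRing A] [CommRing A'] [CommRing B'] [Algebra A A'] [Algebra A' B']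
  [Algebra A B'] [IsScalarTower A A' B']

/-- abstract descent datum on points with values in rings -/
structure AlgDD where
  Φ : ∀ (R : Type u) [CommRing R], (B' →+* R) → (A' →+* R) → (B' →+* R)
  h1 : ∀ (R : Type u) [CommRing R] (v : B' →+* R) (x₁ : A' →+* R),
    (∀ a : A, v (algebraMap A B' a) = x₁ (algebraMap A A' a)) →
    ∀ a' : A', Φ R v x₁ (algebraMap A' B' a') = x₁ a'
  h2 : ∀ (R R' : Type u) [CommRing R] [CommRing R'] (g : R →+* R') (v : B' →+* R) (x₁ : A' →+* R),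
    (∀ a : A, v (algebraMap A B' a) = x₁ (algebraMap A A' a)) →
    g.comp (Φ R v x₁) = Φ R' (g.comp v) (g.comp x₁)
  h3 : ∀ (R : Type u) [CommRing R] (v : B' →+* R), Φ R v (v.comp (algebraMap A' B')) = v
  h4 : ∀ (R : Type u) [CommRing R] (v : B' →+* R) (x₁ x₂ : A' →+* R),
    (∀ a : A, v (algebraMap A B' a) = x₁ (algebraMap A A' a)) →
    (∀ a : A, x₁ (algebraMap A A' a) = x₂ (algebraMap A A' a)) →
    Φ R (Φ R v x₁) x₂ = Φ R v x₂

variable {A A' B'} (d : AlgDD A A' B')

namespace AlgDD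

lemma cond1 (a : A) : ((Algebra.TensorProduct.includeRight : B' →ₐ[A] A' ⊗[A] B') : B' →+* A' ⊗[A] B')
      (algebraMap A B' a) =
    (Algebra.TensorProduct.includeLeftRingHom : A' →+* A' ⊗[A] B') (algebraMap A A' a) := by
  simp only [AlgHom.coe_toRingHom, Algebra.TensorProduct.includeRight_apply,
    Algebra.TensorProduct.includeLeftRingHom_apply]
  rw [Algebra.algebraMap_eq_smul_one, Algebra.algebraMap_eq_smul_one, TensorProduct.smul_tmul]

lemma cond2 (a : A) : (Algebra.TensorProduct.includeLeftRingHom : B' →+* B' ⊗[A] A')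
      (algebraMap A B' a) =
    ((Algebra.TensorProduct.includeRight : A' →ₐ[A] B' ⊗[A] A') : A' →+* B' ⊗[A] A')
      (algebraMap A A' a) := by
  simp only [AlgHom.coe_toRingHom, Algebra.TensorProduct.includeRight_apply,
    Algebra.TensorProduct.includeLeftRingHom_apply]
  rw [Algebra.algebraMap_eq_smul_one, Algebra.algebraMap_eq_smul_one, TensorProduct.smul_tmul]

/-- `θ' : B' → A' ⊗ B'` -/
noncomputable def th' : B' →+* A' ⊗[A] B' :=
  d.Φ (A' ⊗[A] B') ((Algebra.TensorProduct.includeRight : B' →ₐ[A] A' ⊗[A] B') : B' →+* A' ⊗[A] B')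
    Algebra.TensorProduct.includeLeftRingHom

/-- `θ : B' → B' ⊗ A'` -/
noncomputable def th : B' →+* B' ⊗[A] A' :=
  d.Φ (B' ⊗[A] A') Algebra.TensorProduct.includeLeftRingHom
    ((Algebra.TensorProduct.includeRight : A' →ₐ[A] B' ⊗[A] A') : A' →+* B' ⊗[A] A')

lemma th'_alg (a' : A') : d.th' (algebraMap A' B' a') = a' ⊗ₜ[A] (1 : B') :=
  d.h1 _ _ _ cond1 a'

lemma th_alg (a' : A') : d.th (algebraMap A' B' a') = (1 : B') ⊗ₜ[A] a' :=
  d.h1 _ _ _ cond2 a'

/-- `θ'` as an `A`-algebra map -/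
noncomputable def th'A : B' →ₐ[A] A' ⊗[A] B' :=
  { d.th' with
    commutes' := fun a => by
      change d.th' (algebraMap A B' a) = _
      rw [IsScalarTower.algebraMap_apply A A' B', th'_alg, Algebra.TensorProduct.algebraMap_apply] }

noncomputable def thA : B' →ₐ[A] B' ⊗[A] A' :=
  { d.th with
    commutes' := fun a => by
      change d.th (algebraMap A B' a) = _
      rw [IsScalarTower.algebraMap_apply A A' B', th_alg, Algebra.TensorProduct.algebraMap_apply,
        Algebra.algebraMap_eq_smul_one, Algebra.algebraMap_eq_smul_one, TensorProduct.smul_tmul] }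

@[simp] lemma th'A_apply (u : B') : d.th'A u = d.th' u := rfl
@[simp] lemma thA_apply (u : B') : d.thA u = d.th u := rfl

/-- `φ : B' ⊗ A' → A' ⊗ B'`, `u ⊗ z ↦ θ'(u) (1 ⊗ z)` -/
noncomputable def phiA : B' ⊗[A] A' →ₐ[A] A' ⊗[A] B' :=
  Algebra.TensorProduct.productMap d.th'A
    ((Algebra.TensorProduct.includeRight : B' →ₐ[A] A' ⊗[A] B').comp (IsScalarTower.toAlgHom A A' B'))

/-- `ψ : A' ⊗ B' → B' ⊗ A'`, `z ⊗ u ↦ (z ⊗ 1) θ(u)` -/
noncomputable def psiA : A' ⊗[A] B' →ₐ[A] B' ⊗[A] A' :=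
  Algebra.TensorProduct.productMap
    ((Algebra.TensorProduct.includeLeft : B' →ₐ[A] B' ⊗[A] A').comp (IsScalarTower.toAlgHom A A' B'))
    d.thA

lemma phiA_tmul (u : B') (z : A') :
    d.phiA (u ⊗ₜ[A] z) = d.th' u * ((1 : A') ⊗ₜ[A] algebraMap A' B' z) := by
  simp [phiA]

lemma psiA_tmul (z : A') (u : B') :
    d.psiA (z ⊗ₜ[A] u) = (algebraMap A' B' z ⊗ₜ[A] (1 : A')) * d.th u := by
  simp [psiA]

lemma phi_comp_th : (d.phiA : B' ⊗[A] A' →+* A' ⊗[A] B').comp d.th =
    ((Algebra.TensorProduct.includeRight : B' →ₐ[A] A' ⊗[A] B') : B' →+* A' ⊗[A] B') := by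
  unfold th
  rw [d.h2 _ _ _ _ _ cond2]
  have e1 : (d.phiA : B' ⊗[A] A' →+* A' ⊗[A] B').comp Algebra.TensorProduct.includeLeftRingHom =
      d.th' := by
    ext u
    simp [phiA_tmul]
    rw [← Algebra.TensorProduct.one_def, mul_one]
  have e2 : (d.phiA : B' ⊗[A] A' →+* A' ⊗[A] B').comp
      ((Algebra.TensorProduct.includeRight : A' →ₐ[A] B' ⊗[A] A') : A' →+* B' ⊗[A] A') =
      ((Algebra.TensorProduct.includeRight : B' →ₐ[A] A' ⊗[A] B') : B' →+* A' ⊗[A] B').comp
        (algebraMap A' B') := by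
    ext z
    simp [phiA_tmul]
  rw [e1, e2]
  unfold th'
  rw [d.h4 _ _ _ _ cond1, d.h3]
  intro a
  simp only [Algebra.TensorProduct.includeLeftRingHom_apply, RingHom.comp_apply,
    AlgHom.coe_toRingHom, Algebra.TensorProduct.includeRight_apply]
  rw [← IsScalarTower.algebraMap_apply A A' B', Algebra.algebraMap_eq_smul_one,
    Algebra.algebraMap_eq_smul_one (R := A) (A := B'), TensorProduct.smul_tmul]

lemma psi_comp_th' : (d.psiA : A' ⊗[A] B' →+* B' ⊗[A] A').comp d.th' =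
    (Algebra.TensorProduct.includeLeftRingHom : B' →+* B' ⊗[A] A') := by
  unfold th'
  rw [d.h2 _ _ _ _ _ cond1]
  have e1 : (d.psiA : A' ⊗[A] B' →+* B' ⊗[A] A').comp
      ((Algebra.TensorProduct.includeRight : B' →ₐ[A] A' ⊗[A] B') : B' →+* A' ⊗[A] B') = d.th := by
    ext u
    simp [psiA_tmul]
    rw [← Algebra.TensorProduct.one_def, one_mul]
  have e2 : (d.psiA : A' ⊗[A] B' →+* B' ⊗[A] A').comp
      (Algebra.TensorProduct.includeLeftRingHom : A' →+* A' ⊗[A] B') =
      (Algebra.TensorProduct.includeLeftRingHom : B' →+* B' ⊗[A] A').comp (algebraMap A' B') := by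
    ext z
    simp [psiA_tmul]
  rw [e1, e2]
  unfold th
  rw [d.h4 _ _ _ _ cond2, d.h3]
  intro a
  simp only [Algebra.TensorProduct.includeLeftRingHom_apply, RingHom.comp_apply,
    AlgHom.coe_toRingHom, Algebra.TensorProduct.includeRight_apply]
  rw [← IsScalarTower.algebraMap_apply A A' B', Algebra.algebraMap_eq_smul_one,
    Algebra.algebraMap_eq_smul_one (R := A) (A := B'), TensorProduct.smul_tmul]

lemma phi_psi : d.phiA.comp d.psiA = AlgHom.id A _ := by
  apply Algebra.TensorProduct.ext'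
  intro z u
  have h := congrArg (fun g => g u) d.phi_comp_th
  simp only [RingHom.comp_apply, AlgHom.coe_toRingHom, Algebra.TensorProduct.includeRight_apply] at h
  simp only [AlgHom.comp_apply, psiA_tmul, map_mul, phiA_tmul, th'_alg, map_one, mul_one, h,
    AlgHom.id_apply]
  simp

lemma psi_phi : d.psiA.comp d.phiA = AlgHom.id A _ := by
  apply Algebra.TensorProduct.ext'
  intro u z
  have h := congrArg (fun g => g u) d.psi_comp_th'
  simp only [RingHom.comp_apply, AlgHom.coe_toRingHom,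
    Algebra.TensorProduct.includeLeftRingHom_apply] at h
  simp only [AlgHom.comp_apply, phiA_tmul, map_mul, psiA_tmul, th_alg, map_one, one_mul, h,
    AlgHom.id_apply]
  simp

lemma phiA_bijective : Function.Bijective d.phiA := by
  refine ⟨Function.LeftInverse.injective (g := d.psiA) fun w => ?_,
    Function.RightInverse.surjective (g := d.psiA) fun w => ?_⟩
  · exact congrArg (fun g => g w) d.psi_phi
  · exact congrArg (fun g => g w) d.phi_psi

omit [IsScalarTower A A' B'] in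
lemma rTensor_mulLeft (x : A') (w : A' ⊗[A] B') :
    LinearMap.rTensor B' (LinearMap.mulLeft A x) w = (x ⊗ₜ[A] (1 : B')) * w := by
  induction w using TensorProduct.induction_on with
  | zero => simp
  | tmul a b => simp [Algebra.TensorProduct.tmul_mul_tmul]
  | add w₁ w₂ h₁ h₂ => simp [h₁, h₂, mul_add]

lemma lTensor_lsmul (y : A') (w : A' ⊗[A] B') :
    LinearMap.lTensor A' (Algebra.lsmul A A B' y) w =
      ((1 : A') ⊗ₜ[A] algebraMap A' B' y) * w := by
  induction w using TensorProduct.induction_on with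
  | zero => simp
  | tmul a b => simp [Algebra.TensorProduct.tmul_mul_tmul, Algebra.smul_def]
  | add w₁ w₂ h₁ h₂ => simp [h₁, h₂, mul_add]

/-- `id ⊗ θ'` -/
noncomputable def mA : A' ⊗[A] B' →ₐ[A] A' ⊗[A] (A' ⊗[A] B') :=
  Algebra.TensorProduct.map (AlgHom.id A A') d.th'A

/-- `id ⊗ includeRight` -/
noncomputable def kA : A' ⊗[A] B' →ₐ[A] A' ⊗[A] (A' ⊗[A] B') :=
  Algebra.TensorProduct.map (AlgHom.id A A')
    (Algebra.TensorProduct.includeRight : B' →ₐ[A] A' ⊗[A] B')

lemma cocycle_th' : (d.mA : A' ⊗[A] B' →+* A' ⊗[A] (A' ⊗[A] B')).comp d.th' =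
    ((kA : A' ⊗[A] B' →ₐ[A] A' ⊗[A] (A' ⊗[A] B')) : A' ⊗[A] B' →+* _).comp d.th' := by
  let X₁ : A' →+* A' ⊗[A] (A' ⊗[A] B') := Algebra.TensorProduct.includeLeftRingHom
  let jR : A' ⊗[A] B' →+* A' ⊗[A] (A' ⊗[A] B') :=
    ((Algebra.TensorProduct.includeRight : A' ⊗[A] B' →ₐ[A] A' ⊗[A] (A' ⊗[A] B')) : _ →+* _)
  let V₃ : B' →+* A' ⊗[A] (A' ⊗[A] B') :=
    jR.comp ((Algebra.TensorProduct.includeRight : B' →ₐ[A] A' ⊗[A] B') : B' →+* A' ⊗[A] B')
  let X₂ : A' →+* A' ⊗[A] (A' ⊗[A] B') := jR.comp Algebra.TensorProduct.includeLeftRingHom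
  have hjth : jR.comp d.th' = d.Φ _ V₃ X₂ := by
    unfold th'
    rw [d.h2 _ _ _ _ _ cond1]
  have hm1 : (d.mA : A' ⊗[A] B' →+* A' ⊗[A] (A' ⊗[A] B')).comp
      ((Algebra.TensorProduct.includeRight : B' →ₐ[A] A' ⊗[A] B') : B' →+* A' ⊗[A] B') =
      jR.comp d.th' := by
    ext u
    simp [mA, jR]
  have hm2 : (d.mA : A' ⊗[A] B' →+* A' ⊗[A] (A' ⊗[A] B')).comp
      (Algebra.TensorProduct.includeLeftRingHom : A' →+* A' ⊗[A] B') = X₁ := by
    ext z
    simp [mA, X₁, Algebra.TensorProduct.one_def]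
  have hk1 : ((kA : A' ⊗[A] B' →ₐ[A] A' ⊗[A] (A' ⊗[A] B')) : A' ⊗[A] B' →+* _).comp
      ((Algebra.TensorProduct.includeRight : B' →ₐ[A] A' ⊗[A] B') : B' →+* A' ⊗[A] B') = V₃ := by
    ext u
    simp [kA, V₃, jR]
  have hk2 : ((kA : A' ⊗[A] B' →ₐ[A] A' ⊗[A] (A' ⊗[A] B')) : A' ⊗[A] B' →+* _).comp
      (Algebra.TensorProduct.includeLeftRingHom : A' →+* A' ⊗[A] B') = X₁ := by
    ext z
    simp [kA, X₁, Algebra.TensorProduct.one_def]
  have c1 : ∀ a : A, V₃ (algebraMap A B' a) = X₂ (algebraMap A A' a) := by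
    intro a
    simp only [V₃, X₂, RingHom.comp_apply]
    rw [cond1]
  have c2 : ∀ a : A, X₂ (algebraMap A A' a) = X₁ (algebraMap A A' a) := by
    intro a
    simp only [X₂, X₁, jR, RingHom.comp_apply, AlgHom.coe_toRingHom,
      Algebra.TensorProduct.includeRight_apply, Algebra.TensorProduct.includeLeftRingHom_apply]
    rw [Algebra.algebraMap_eq_smul_one, ← TensorProduct.smul_tmul', ← TensorProduct.smul_tmul',
      TensorProduct.tmul_smul]
    rfl
  conv_lhs => unfold th'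
  rw [d.h2 _ _ _ _ _ cond1, hm1, hm2, hjth, d.h4 _ _ _ _ c1 c2]
  conv_rhs => unfold th'
  rw [d.h2 _ _ _ _ _ cond1, hk1, hk2]

lemma coc_i (w : A' ⊗[A] B') (a b : A') :
    LinearMap.lTensor A' d.phiA.toLinearMap (TensorProduct.assoc A A' B' A'
      ((w * ((1 : A') ⊗ₜ[A] algebraMap A' B' a)) ⊗ₜ[A] b)) =
    d.mA w * ((1 : A') ⊗ₜ[A] (a ⊗ₜ[A] algebraMap A' B' b)) := by
  induction w using TensorProduct.induction_on with
  | zero => simp
  | tmul a₁ u₁ =>
    simp only [Algebra.TensorProduct.tmul_mul_tmul, mul_one, TensorProduct.assoc_tmul,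
      LinearMap.lTensor_tmul, AlgHom.toLinearMap_apply, phiA_tmul, map_mul, th'_alg, mA,
      Algebra.TensorProduct.map_tmul, AlgHom.id_apply, th'A_apply]
    congr 1
    rw [mul_assoc, Algebra.TensorProduct.tmul_mul_tmul, mul_one, one_mul]
  | add w₁ w₂ h₁ h₂ =>
    rw [add_mul, TensorProduct.add_tmul, map_add, map_add, h₁, h₂, map_add, add_mul]

omit [IsScalarTower A A' B'] in
lemma coc_ii (w : A' ⊗[A] B') (a b : A') :
    LinearMap.lTensor A' (TensorProduct.mk A A' B' a) (w * ((1 : A') ⊗ₜ[A] algebraMap A' B' b)) =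
    (kA : A' ⊗[A] B' →ₐ[A] A' ⊗[A] (A' ⊗[A] B')) w *
      ((1 : A') ⊗ₜ[A] (a ⊗ₜ[A] algebraMap A' B' b)) := by
  induction w using TensorProduct.induction_on with
  | zero => simp
  | tmul a₁ u₁ =>
    simp only [Algebra.TensorProduct.tmul_mul_tmul, mul_one, LinearMap.lTensor_tmul,
      TensorProduct.mk_apply, kA, Algebra.TensorProduct.map_tmul, AlgHom.id_apply,
      Algebra.TensorProduct.includeRight_apply, one_mul]
  | add w₁ w₂ h₁ h₂ =>
    rw [add_mul, map_add, h₁, h₂, map_add, add_mul]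

theorem main [Module.FaithfullyFlat A A'] :
    ∃ B : Subalgebra A B',
      Function.Bijective ((TensorProduct.lift (Algebra.lsmul A A B').toLinearMap) ∘ₗ
        (LinearMap.lTensor A' (Subalgebra.toSubmodule B).subtype)) ∧
      ∀ (R : Type u) [CommRing R] (v : B' →+* R) (x₁ : A' →+* R),
        (∀ a : A, v (algebraMap A B' a) = x₁ (algebraMap A A' a)) →
        ∀ b ∈ B, d.Φ R v x₁ b = v b := by
  let B : Subalgebra A B' :=
    AlgHom.equalizer d.th'A (Algebra.TensorProduct.includeRight : B' →ₐ[A] A' ⊗[A] B')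
  have hB : ∀ u : B', u ∈ B ↔ d.th' u = (1 : A') ⊗ₜ[A] u := fun u => by
    change d.th'A u = _ ↔ _
    simp
  refine ⟨B, ?_, ?_⟩
  · apply Groth.Agent.S19547.result A A' B' d.phiA.toLinearMap d.phiA_bijective
    · intro x u z
      rw [rTensor_mulLeft]
      simp only [AlgHom.toLinearMap_apply, phiA_tmul, Algebra.smul_def, map_mul, th'_alg]
      ring
    · intro y u z
      rw [lTensor_lsmul]
      simp only [AlgHom.toLinearMap_apply, phiA_tmul, map_mul]
      have e0 : (1 : A') ⊗ₜ[A] (algebraMap A' B' y * algebraMap A' B' z) =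
          ((1 : A') ⊗ₜ[A] algebraMap A' B' y) * ((1 : A') ⊗ₜ[A] algebraMap A' B' z) := by
        simp [Algebra.TensorProduct.tmul_mul_tmul]
      rw [e0]
      ring
    · intro u a b
      have e1 : LinearMap.rTensor A' d.phiA.toLinearMap ((u ⊗ₜ[A] a) ⊗ₜ[A] b) =
          (d.th' u * ((1 : A') ⊗ₜ[A] algebraMap A' B' a)) ⊗ₜ[A] b := by
        simp [phiA_tmul]
      rw [e1, coc_i, AlgHom.toLinearMap_apply, phiA_tmul, coc_ii]
      congr 1
      exact congrArg (fun g => g u) d.cocycle_th'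
    · intro u
      rw [Subalgebra.mem_toSubmodule, hB, AlgHom.toLinearMap_apply, phiA_tmul, map_one,
        ← Algebra.TensorProduct.one_def, mul_one]
  · intro R _ v x₁ hc b hb
    letI : Algebra A R := (x₁.comp (algebraMap A A')).toAlgebra
    let x₁A : A' →ₐ[A] R := { x₁ with commutes' := fun a => rfl }
    let vA : B' →ₐ[A] R := { v with commutes' := fun a => hc a }
    let g : A' ⊗[A] B' →ₐ[A] R := Algebra.TensorProduct.productMap x₁A vA
    have hg1 : (g : A' ⊗[A] B' →+* R).comp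
        ((Algebra.TensorProduct.includeRight : B' →ₐ[A] A' ⊗[A] B') : B' →+* A' ⊗[A] B') = v := by
      ext u; simp [g, vA, x₁A]
    have hg2 : (g : A' ⊗[A] B' →+* R).comp
        (Algebra.TensorProduct.includeLeftRingHom : A' →+* A' ⊗[A] B') = x₁ := by
      ext z; simp [g, vA, x₁A]
    have key := d.h2 _ _ (g : A' ⊗[A] B' →+* R) _ _ cond1
    rw [hg1, hg2] at key
    have := congrArg (fun h => h b) key
    simp only [RingHom.comp_apply] at this
    rw [← this]
    change g (d.th' b) = v b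
    rw [(hB b).1 hb]
    simp [g, vA, x₁A]

end AlgDD


end Groth.Agent.Lib.Helper81.DescAlg
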