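import Mathlib
import Groth.Prelude.Def_DescFam
import Groth.Agent.Lib.Helper38.FpqcGlue

/-!
# Effectiveness of descent data in "quotient form"

`IsESol D q e` : a scheme `Y` over `S` with maps `e i : D.obj i ⟶ Y` making cartesian squares over
`f i : X i ⟶ S` and compatible with the gluing bijections.  `D` is effective iff it has such a solution.
-/

set_option autoImplicit false
set_option backward.isDefEq.respectTransparency false
open CategoryTheory CategoryTheory.Limits AlgebraicGeometry Opposite Desc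
universe u
namespace Groth.Agent.Lib.Helper81.DescE

open Groth.Agent.Lib.Helper38.FpqcGlue

variable {S : Scheme.{u}} {ι : Type u} {X : ι → Scheme.{u}} {f : ∀ i, X i ⟶ S}

/-- A morphism of descent data all of whose components are isomorphisms is an isomorphism. -/
theorem isIso_of_components {D D' : SchDDFam f} (a : D ⟶ D') (h : ∀ i, IsIso (a.hom i)) :
    IsIso a := by
  refine ⟨⟨⟨fun i => inv (a.hom i), ?_⟩, ?_, ?_⟩⟩
  · intro T i j x₀ x₁ hx v w hw
    have hv : v.1 = w.1 ≫ (a.hom i).left := by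
      rw [hw, Category.assoc, ← Over.comp_left, IsIso.inv_hom_id, Over.id_left, Category.comp_id]
    have := a.comm x₀ x₁ hx w v hv
    rw [this, Category.assoc, ← Over.comp_left, IsIso.hom_inv_id, Over.id_left, Category.comp_id]
  · ext i; simp
  · ext i; simp

/-- congruence for `φ` in the base points -/
theorem phi_congr (D : SchDDFam f) {T : Scheme.{u}} {i j : ι} {x₀ y₀ : T ⟶ X i} {x₁ y₁ : T ⟶ X j}
    (h : x₀ ≫ f i = x₁ ≫ f j) (h' : y₀ ≫ f i = y₁ ≫ f j) (e₀ : x₀ = y₀) (e₁ : x₁ = y₁)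
    (v : Lifts (D.obj i) x₀) (v' : Lifts (D.obj i) y₀) (hv : v'.1 = v.1) :
    (D.φ y₀ y₁ h' v').1 = (D.φ x₀ x₁ h v).1 := by
  subst e₀ e₁
  have : v' = v := Subtype.ext hv
  rw [this]

/-- `(Y, q, e)` is a solution of the descent problem `D`. -/
def IsESol (D : SchDDFam f) {Y : Scheme.{u}} (q : Y ⟶ S) (e : ∀ i, (D.obj i).left ⟶ Y) : Prop :=
  (∀ i, IsPullback (e i) (D.obj i).hom q (f i)) ∧
  ∀ ⦃T : Scheme.{u}⦄ ⦃i j : ι⦄ (x₀ : T ⟶ X i) (x₁ : T ⟶ X j) (h : x₀ ≫ f i = x₁ ≫ f j)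
    (v : Lifts (D.obj i) x₀), (D.φ x₀ x₁ h v).1 ≫ e j = v.1 ≫ e i

theorem isEffective_of_isESol (D : SchDDFam f) {Y : Scheme.{u}} (q : Y ⟶ S)
    (e : ∀ i, (D.obj i).left ⟶ Y) (h : IsESol D q e) : D.IsEffective := by
  obtain ⟨hpb, hc⟩ := h
  let c : ∀ i, (D.obj i).left ≅ pullback (f i) q := fun i => (hpb i).flip.isoPullback
  have c1 : ∀ i, (c i).inv ≫ (D.obj i).hom = pullback.fst (f i) q := fun i =>
    (hpb i).flip.isoPullback_inv_fst
  have c2 : ∀ i, (c i).inv ≫ e i = pullback.snd (f i) q := fun i =>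
    (hpb i).flip.isoPullback_inv_snd
  let a : (toDDFam f).obj (Over.mk q) ⟶ D :=
    ⟨fun i => Over.homMk (c i).inv (c1 i), by
      intro T i j x₀ x₁ hx v w hw
      let v1 : T ⟶ pullback (f i) q := v.1
      have hv1 : v1 ≫ pullback.fst (f i) q = x₀ := v.2
      have hw' : w.1 = v1 ≫ (c i).inv := hw
      have hcond : x₁ ≫ f j = (v1 ≫ pullback.snd (f i) q) ≫ q := by
        rw [Category.assoc, ← pullback.condition, ← Category.assoc, hv1, hx]
      have hcan : ((canonicalDDFam f (Over.mk q)).φ x₀ x₁ hx v).1 =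
          pullback.lift x₁ (v1 ≫ pullback.snd (f i) q) hcond := rfl
      change (D.φ x₀ x₁ hx w).1 = ((canonicalDDFam f (Over.mk q)).φ x₀ x₁ hx v).1 ≫ (c j).inv
      rw [hcan]
      apply (hpb j).hom_ext
      · rw [hc x₀ x₁ hx w, hw', Category.assoc, Category.assoc, c2, c2, pullback.lift_snd]
      · rw [(D.φ x₀ x₁ hx w).2, Category.assoc, c1, pullback.lift_fst]⟩
  have : IsIso a := by
    apply isIso_of_components
    intro i
    have : IsIso ((Over.forget (X i)).map (a.hom i)) := by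
      change IsIso (c i).inv
      infer_instance
    exact isIso_of_reflects_iso _ (Over.forget _)
  exact ⟨Over.mk q, ⟨asIso a⟩⟩

theorem exists_isESol_of_isEffective (D : SchDDFam f) (h : D.IsEffective) :
    ∃ (Y : Scheme.{u}) (q : Y ⟶ S) (e : ∀ i, (D.obj i).left ⟶ Y), IsESol D q e := by
  obtain ⟨U, ⟨ε⟩⟩ := h
  refine ⟨U.left, U.hom, fun i => (ε.inv.hom i).left ≫ pullback.snd (f i) U.hom, ?_, ?_⟩
  · intro i
    have hiso : IsIso (ε.inv.hom i).left := by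
      have : IsIso (ε.inv.hom i) :=
        ⟨ε.hom.hom i, by rw [← SchDDFam.comp_hom, ε.inv_hom_id]; rfl,
          by rw [← SchDDFam.comp_hom, ε.hom_inv_id]; rfl⟩
      exact (Over.forget _).map_isIso (ε.inv.hom i)
    have w1 : (ε.inv.hom i).left ≫ pullback.fst (f i) U.hom = (D.obj i).hom :=
      Over.w (ε.inv.hom i)
    refine IsPullback.of_iso (IsPullback.of_hasPullback (f i) U.hom).flip
      (asIso (ε.inv.hom i).left).symm (Iso.refl _) (Iso.refl _) (Iso.refl _) ?_ ?_ ?_ ?_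
    · simp
    · simp [← w1]
    · simp
    · simp
  · intro T i j x₀ x₁ hx v
    have key := ε.inv.comm x₀ x₁ hx v (ε.inv.push v) rfl
    rw [← Category.assoc, ← key]
    simp [toDDFam, canonicalDDFam, SchDDFam.Hom.push]

/-- fpqc descent of morphisms along a covering family. -/
theorem desc_of_fpqc_family {Y Z : Scheme.{u}} {κ : Type u} {W : κ → Scheme.{u}} (g : ∀ k, W k ⟶ Y)
    (hg : Presieve.ofArrows W g ∈ Scheme.fpqcPrecoverage Y) (z : ∀ k, W k ⟶ Z)
    (hz : ∀ ⦃T : Scheme.{u}⦄ (k l : κ) (a : T ⟶ W k) (b : T ⟶ W l),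
      a ≫ g k = b ≫ g l → a ≫ z k = b ≫ z l) :
    ∃! t : Y ⟶ Z, ∀ k, g k ≫ t = z k := by
  have hR : Sieve.ofArrows W g ∈ Scheme.fpqcTopology Y :=
    Precoverage.generate_mem_toGrothendieck hg
  have key : ∀ {T : Scheme.{u}} (t : T ⟶ Y), Sieve.ofArrows W g t →
      ∃ (k : κ) (a : T ⟶ W k), t = a ≫ g k := fun t ht =>
    (Sieve.mem_ofArrows_iff _ _ _).mp ht
  choose ck ca ch using @key
  obtain ⟨t, ht, htu⟩ := existsUnique_glue (Z := Z) _ hR
    (fun T t ht => ca t ht ≫ z (ck t ht))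
    (by
      intro T T' g₀ t ht
      rw [← Category.assoc]
      apply hz
      rw [Category.assoc, ← ch t ht, ← ch])
  have ht' : ∀ k, g k ≫ t = z k := by
    intro k
    have hk : Sieve.ofArrows W g (g k) := (Sieve.mem_ofArrows_iff _ _ _).mpr ⟨k, 𝟙 _, by simp⟩
    rw [ht (g k) hk]
    have := hz (ck (g k) hk) k (ca (g k) hk) (𝟙 _) (by rw [← ch (g k) hk]; simp)
    rw [this, Category.id_comp]
  refine ⟨t, ht', ?_⟩
  intro t' h'
  apply htu
  intro T s hs
  have e1 : s ≫ t' = (ca s hs ≫ g (ck s hs)) ≫ t' := by rw [← ch s hs]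
  rw [e1, Category.assoc, h']

variable (hf : Presieve.ofArrows X f ∈ Scheme.fpqcPrecoverage S)

include hf in
theorem IsESol.mem_fpqc {D : SchDDFam f} {Y : Scheme.{u}} {q : Y ⟶ S}
    {e : ∀ i, (D.obj i).left ⟶ Y} (h : IsESol D q e) :
    Presieve.ofArrows (fun i => (D.obj i).left) e ∈ Scheme.fpqcPrecoverage Y :=
  Precoverage.mem_coverings_of_isPullback f hf q e (fun i => (D.obj i).hom) h.1

theorem IsESol.eq_phi {D : SchDDFam f} {Y : Scheme.{u}} {q : Y ⟶ S}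
    {e : ∀ i, (D.obj i).left ⟶ Y} (h : IsESol D q e) {T : Scheme.{u}} {i j : ι}
    (a : T ⟶ (D.obj i).left) (b : T ⟶ (D.obj j).left) (hab : a ≫ e i = b ≫ e j) :
    ∃ hx : (a ≫ (D.obj i).hom) ≫ f i = (b ≫ (D.obj j).hom) ≫ f j,
      (D.φ (a ≫ (D.obj i).hom) (b ≫ (D.obj j).hom) hx ⟨a, rfl⟩).1 = b := by
  have hx : (a ≫ (D.obj i).hom) ≫ f i = (b ≫ (D.obj j).hom) ≫ f j := by
    rw [Category.assoc, ← (h.1 i).w, ← Category.assoc, hab, Category.assoc, (h.1 j).w,
      Category.assoc]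
  refine ⟨hx, ?_⟩
  apply (h.1 j).hom_ext
  · rw [h.2 _ _ hx ⟨a, rfl⟩]; exact hab
  · exact (D.φ _ _ hx ⟨a, rfl⟩).2

include hf in
/-- The solution is the quotient: invariant families of maps descend uniquely. -/
theorem IsESol.desc {D : SchDDFam f} {Y : Scheme.{u}} {q : Y ⟶ S}
    {e : ∀ i, (D.obj i).left ⟶ Y} (h : IsESol D q e) {Z : Scheme.{u}}
    (z : ∀ i, (D.obj i).left ⟶ Z)
    (hz : ∀ ⦃T : Scheme.{u}⦄ ⦃i j : ι⦄ (x₀ : T ⟶ X i) (x₁ : T ⟶ X j) (hx : x₀ ≫ f i = x₁ ≫ f j)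
      (v : Lifts (D.obj i) x₀), (D.φ x₀ x₁ hx v).1 ≫ z j = v.1 ≫ z i) :
    ∃! t : Y ⟶ Z, ∀ i, e i ≫ t = z i := by
  apply desc_of_fpqc_family e (h.mem_fpqc hf) z
  intro T i j a b hab
  obtain ⟨hx, hb⟩ := h.eq_phi a b hab
  rw [← hb, hz _ _ hx ⟨a, rfl⟩]

end Groth.Agent.Lib.Helper81.DescE
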