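import Mathlib
import Groth.Prelude.Def_DescFam
import Groth.Agent.Lib.Helper81.DescAlg
import Groth.Agent.Lib.Helper81.DescE

/-!
# Affine case of fpqc descent for schemes affine over the cover
-/

set_option autoImplicit false
set_option backward.isDefEq.respectTransparency false
open CategoryTheory CategoryTheory.Limits AlgebraicGeometry Opposite Desc TensorProduct
universe u
namespace Groth.Agent.Lib.Helper81.DescAff

open Groth.Agent.Lib.Helper81.DescAlg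

section pts
variable (Z : Scheme.{u}) [IsAffine Z]

noncomputable def toPt {R : CommRingCat.{u}} (φ : Γ(Z, ⊤) ⟶ R) : Spec R ⟶ Z :=
  Spec.map φ ≫ Z.isoSpec.inv

noncomputable def fromPt {R : CommRingCat.{u}} (t : Spec R ⟶ Z) : Γ(Z, ⊤) ⟶ R :=
  Spec.preimage (t ≫ Z.isoSpec.hom)

@[simp] lemma toPt_fromPt {R : CommRingCat.{u}} (t : Spec R ⟶ Z) : toPt Z (fromPt Z t) = t := by
  simp [toPt, fromPt]

@[simp] lemma fromPt_toPt {R : CommRingCat.{u}} (φ : Γ(Z, ⊤) ⟶ R) : fromPt Z (toPt Z φ) = φ := by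
  simp [toPt, fromPt]

lemma toPt_injective {R : CommRingCat.{u}} : Function.Injective (toPt Z (R := R)) := by
  intro a b h
  rw [← fromPt_toPt Z a, ← fromPt_toPt Z b, h]

lemma toPt_comp {R R' : CommRingCat.{u}} (φ : Γ(Z, ⊤) ⟶ R) (g : R ⟶ R') :
    toPt Z (φ ≫ g) = Spec.map g ≫ toPt Z φ := by
  simp [toPt]

variable {Z} in
lemma toPt_mor {Z' : Scheme.{u}} [IsAffine Z'] (m : Z ⟶ Z') {R : CommRingCat.{u}}
    (φ : Γ(Z, ⊤) ⟶ R) : toPt Z φ ≫ m = toPt Z' (m.appTop ≫ φ) := by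
  simp only [toPt, Category.assoc, Spec.map_comp]
  rw [Scheme.isoSpec_inv_naturality]

variable {Z} in
lemma fromPt_mor {Z' : Scheme.{u}} [IsAffine Z'] (m : Z ⟶ Z') {R : CommRingCat.{u}}
    (t : Spec R ⟶ Z) : fromPt Z' (t ≫ m) = m.appTop ≫ fromPt Z t := by
  apply toPt_injective Z'
  rw [toPt_fromPt, ← toPt_mor, toPt_fromPt]

end pts

variable {X S : Scheme.{u}} {p : X ⟶ S}

theorem phi_congr1 (D : SchDD p) {T : Scheme.{u}} {x₀ y₀ x₁ y₁ : T ⟶ X}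
    (h : x₀ ≫ p = x₁ ≫ p) (h' : y₀ ≫ p = y₁ ≫ p) (e₀ : x₀ = y₀) (e₁ : x₁ = y₁)
    (v : Lifts D.obj x₀) (v' : Lifts D.obj y₀) (hv : v'.1 = v.1) :
    (D.φ y₀ y₁ h' v').1 = (D.φ x₀ x₁ h v).1 := by
  subst e₀ e₁
  have : v' = v := Subtype.ext hv
  rw [this]

variable [IsAffine X] [IsAffine S] (D : SchDD p) [IsAffine D.obj.left]

lemma hh {R : CommRingCat.{u}} (v : Γ(D.obj.left, ⊤) ⟶ R) (x₁ : Γ(X, ⊤) ⟶ R)
    (h : p.appTop ≫ D.obj.hom.appTop ≫ v = p.appTop ≫ x₁) :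
    toPt X (D.obj.hom.appTop ≫ v) ≫ p = toPt X x₁ ≫ p := by
  rw [toPt_mor, toPt_mor, h]

/-- the descent datum on ring-valued points -/
noncomputable def PhiC {R : CommRingCat.{u}} (v : Γ(D.obj.left, ⊤) ⟶ R) (x₁ : Γ(X, ⊤) ⟶ R)
    (h : p.appTop ≫ D.obj.hom.appTop ≫ v = p.appTop ≫ x₁) : Γ(D.obj.left, ⊤) ⟶ R :=
  fromPt D.obj.left (D.φ (toPt X (D.obj.hom.appTop ≫ v)) (toPt X x₁) (hh D v x₁ h)
    ⟨toPt D.obj.left v, toPt_mor _ _⟩).1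

lemma toPt_PhiC {R : CommRingCat.{u}} (v : Γ(D.obj.left, ⊤) ⟶ R) (x₁ : Γ(X, ⊤) ⟶ R)
    (h : p.appTop ≫ D.obj.hom.appTop ≫ v = p.appTop ≫ x₁) :
    toPt D.obj.left (PhiC D v x₁ h) = (D.φ (toPt X (D.obj.hom.appTop ≫ v)) (toPt X x₁) (hh D v x₁ h)
    ⟨toPt D.obj.left v, toPt_mor _ _⟩).1 := by
  simp [PhiC]

lemma PhiC_1 {R : CommRingCat.{u}} (v : Γ(D.obj.left, ⊤) ⟶ R) (x₁ : Γ(X, ⊤) ⟶ R)
    (h : p.appTop ≫ D.obj.hom.appTop ≫ v = p.appTop ≫ x₁) :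
    D.obj.hom.appTop ≫ PhiC D v x₁ h = x₁ := by
  apply toPt_injective X
  rw [← toPt_mor, toPt_PhiC]
  exact (D.φ _ _ (hh D v x₁ h) ⟨toPt D.obj.left v, toPt_mor _ _⟩).2

lemma PhiC_2 {R R' : CommRingCat.{u}} (g : R ⟶ R') (v : Γ(D.obj.left, ⊤) ⟶ R) (x₁ : Γ(X, ⊤) ⟶ R)
    (h : p.appTop ≫ D.obj.hom.appTop ≫ v = p.appTop ≫ x₁)
    (h' : p.appTop ≫ D.obj.hom.appTop ≫ v ≫ g = p.appTop ≫ x₁ ≫ g) :
    PhiC D v x₁ h ≫ g = PhiC D (v ≫ g) (x₁ ≫ g) h' := by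
  apply toPt_injective D.obj.left
  rw [toPt_comp, toPt_PhiC, toPt_PhiC]
  have h2 : (Spec.map g ≫ toPt X (D.obj.hom.appTop ≫ v)) ≫ p = (Spec.map g ≫ toPt X x₁) ≫ p := by
    rw [Category.assoc, Category.assoc, hh D v x₁ h]
  rw [← D.φ_natural (Spec.map g) _ _ (hh D v x₁ h) h2 ⟨toPt D.obj.left v, toPt_mor _ _⟩
    ⟨Spec.map g ≫ toPt D.obj.left v, by rw [Category.assoc, toPt_mor]⟩ rfl]
  apply phi_congr1
  · rw [← toPt_comp, Category.assoc]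
  · rw [← toPt_comp]
  · simp [toPt_comp]

lemma PhiC_3 {R : CommRingCat.{u}} (v : Γ(D.obj.left, ⊤) ⟶ R)
    (h : p.appTop ≫ D.obj.hom.appTop ≫ v = p.appTop ≫ D.obj.hom.appTop ≫ v) :
    PhiC D v (D.obj.hom.appTop ≫ v) h = v := by
  apply toPt_injective D.obj.left
  rw [toPt_PhiC, D.φ_self]

lemma PhiC_4 {R : CommRingCat.{u}} (v : Γ(D.obj.left, ⊤) ⟶ R) (x₁ x₂ : Γ(X, ⊤) ⟶ R)
    (h : p.appTop ≫ D.obj.hom.appTop ≫ v = p.appTop ≫ x₁)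
    (h' : p.appTop ≫ D.obj.hom.appTop ≫ PhiC D v x₁ h = p.appTop ≫ x₂)
    (h'' : p.appTop ≫ D.obj.hom.appTop ≫ v = p.appTop ≫ x₂) :
    PhiC D (PhiC D v x₁ h) x₂ h' = PhiC D v x₂ h'' := by
  apply toPt_injective D.obj.left
  rw [toPt_PhiC D (PhiC D v x₁ h) x₂ h', toPt_PhiC D v x₂ h'']
  have h12 : toPt X x₁ ≫ p = toPt X x₂ ≫ p := by
    rw [toPt_mor, toPt_mor, ← h'', h]
  rw [← D.φ_comp _ _ _ (hh D v x₁ h) h12]
  apply phi_congr1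
  · rw [PhiC_1]
  · rfl
  · exact toPt_PhiC D v x₁ h

lemma PhiC_3' {R : CommRingCat.{u}} (v : Γ(D.obj.left, ⊤) ⟶ R) (x₁ : Γ(X, ⊤) ⟶ R)
    (h : p.appTop ≫ D.obj.hom.appTop ≫ v = p.appTop ≫ x₁) (hx : x₁ = D.obj.hom.appTop ≫ v) :
    PhiC D v x₁ h = v := by
  subst hx
  exact PhiC_3 D v h

lemma PhiC_congr {R : CommRingCat.{u}} (v v' : Γ(D.obj.left, ⊤) ⟶ R) (x₁ : Γ(X, ⊤) ⟶ R)
    (h : p.appTop ≫ D.obj.hom.appTop ≫ v = p.appTop ≫ x₁)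
    (h' : p.appTop ≫ D.obj.hom.appTop ≫ v' = p.appTop ≫ x₁) (hv : v = v') :
    PhiC D v x₁ h = PhiC D v' x₁ h' := by
  subst hv; rfl

open Classical in
/-- the abstract algebraic descent datum attached to `D` -/
noncomputable def algDD :
    letI : Algebra Γ(S, ⊤) Γ(X, ⊤) := p.appTop.hom.toAlgebra
    letI : Algebra Γ(X, ⊤) Γ(D.obj.left, ⊤) := D.obj.hom.appTop.hom.toAlgebra
    letI : Algebra Γ(S, ⊤) Γ(D.obj.left, ⊤) := (p.appTop ≫ D.obj.hom.appTop).hom.toAlgebra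
    haveI : IsScalarTower Γ(S, ⊤) Γ(X, ⊤) Γ(D.obj.left, ⊤) :=
      IsScalarTower.of_algebraMap_eq (fun a => rfl)
    AlgDD Γ(S, ⊤) Γ(X, ⊤) Γ(D.obj.left, ⊤) := by
  letI : Algebra Γ(S, ⊤) Γ(X, ⊤) := p.appTop.hom.toAlgebra
  letI : Algebra Γ(X, ⊤) Γ(D.obj.left, ⊤) := D.obj.hom.appTop.hom.toAlgebra
  letI : Algebra Γ(S, ⊤) Γ(D.obj.left, ⊤) := (p.appTop ≫ D.obj.hom.appTop).hom.toAlgebra
  haveI : IsScalarTower Γ(S, ⊤) Γ(X, ⊤) Γ(D.obj.left, ⊤) :=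
    IsScalarTower.of_algebraMap_eq (fun a => rfl)
  have toCat : ∀ {R : Type u} [CommRing R] (v : Γ(D.obj.left, ⊤) →+* R) (x₁ : Γ(X, ⊤) →+* R),
      (∀ a : Γ(S, ⊤), v (algebraMap Γ(S, ⊤) Γ(D.obj.left, ⊤) a) = x₁ (algebraMap Γ(S, ⊤) Γ(X, ⊤) a)) →
      p.appTop ≫ D.obj.hom.appTop ≫ CommRingCat.ofHom v = p.appTop ≫ CommRingCat.ofHom x₁ := by
    intro R _ v x₁ h
    ext a
    exact h a
  refine
    { Φ := fun R _ v x₁ =>
        if h : (∀ a : Γ(S, ⊤), v (algebraMap Γ(S, ⊤) Γ(D.obj.left, ⊤) a) =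
            x₁ (algebraMap Γ(S, ⊤) Γ(X, ⊤) a)) then
          (PhiC D (CommRingCat.ofHom v) (CommRingCat.ofHom x₁) (toCat v x₁ h)).hom
        else v
      h1 := ?_
      h2 := ?_
      h3 := ?_
      h4 := ?_ }
  · intro R _ v x₁ h a'
    rw [dif_pos h]
    have := PhiC_1 D (CommRingCat.ofHom v) (CommRingCat.ofHom x₁) (toCat v x₁ h)
    exact congrArg (fun g => g.hom a') this
  · intro R R' _ _ g v x₁ h
    have h' : ∀ a : Γ(S, ⊤), (g.comp v) (algebraMap Γ(S, ⊤) Γ(D.obj.left, ⊤) a) =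
        (g.comp x₁) (algebraMap Γ(S, ⊤) Γ(X, ⊤) a) := fun a => congrArg g (h a)
    rw [dif_pos h, dif_pos h']
    have := PhiC_2 D (CommRingCat.ofHom g) (CommRingCat.ofHom v) (CommRingCat.ofHom x₁)
      (toCat v x₁ h) (toCat _ _ h')
    exact congrArg (fun g => g.hom) this
  · intro R _ v
    have h : ∀ a : Γ(S, ⊤), v (algebraMap Γ(S, ⊤) Γ(D.obj.left, ⊤) a) =
        (v.comp (algebraMap Γ(X, ⊤) Γ(D.obj.left, ⊤))) (algebraMap Γ(S, ⊤) Γ(X, ⊤) a) := fun a => rfl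
    rw [dif_pos h]
    exact congrArg (fun g => g.hom) (PhiC_3' D (CommRingCat.ofHom v) _ (toCat _ _ h) rfl)
  · intro R _ v x₁ x₂ h h12
    rw [dif_pos h]
    have h' : ∀ a : Γ(S, ⊤), (PhiC D (CommRingCat.ofHom v) (CommRingCat.ofHom x₁) (toCat v x₁ h)).hom
        (algebraMap Γ(S, ⊤) Γ(D.obj.left, ⊤) a) = x₂ (algebraMap Γ(S, ⊤) Γ(X, ⊤) a) := by
      intro a
      have := PhiC_1 D (CommRingCat.ofHom v) (CommRingCat.ofHom x₁) (toCat v x₁ h)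
      have e := congrArg (fun g => g.hom (algebraMap Γ(S, ⊤) Γ(X, ⊤) a)) this
      exact e.trans (h12 a)
    have h'' : ∀ a : Γ(S, ⊤), v (algebraMap Γ(S, ⊤) Γ(D.obj.left, ⊤) a) =
        x₂ (algebraMap Γ(S, ⊤) Γ(X, ⊤) a) := fun a => (h a).trans (h12 a)
    rw [dif_pos h', dif_pos h'']
    exact congrArg (fun g => g.hom) (PhiC_4 D (CommRingCat.ofHom v) (CommRingCat.ofHom x₁)
      (CommRingCat.ofHom x₂) (toCat v x₁ h) (toCat _ _ h') (toCat _ _ h''))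

theorem affine_case [Flat p] [Surjective p] :
    ∃ (Y : Scheme.{u}) (q : Y ⟶ S) (e : D.obj.left ⟶ Y), IsPullback e D.obj.hom q p ∧
      ∀ ⦃T : Scheme.{u}⦄ (x₀ x₁ : T ⟶ X) (h : x₀ ≫ p = x₁ ≫ p) (v : Lifts D.obj x₀),
        (D.φ x₀ x₁ h v).1 ≫ e = v.1 ≫ e := by
  letI : Algebra Γ(S, ⊤) Γ(X, ⊤) := p.appTop.hom.toAlgebra
  letI : Algebra Γ(X, ⊤) Γ(D.obj.left, ⊤) := D.obj.hom.appTop.hom.toAlgebra
  letI : Algebra Γ(S, ⊤) Γ(D.obj.left, ⊤) := (p.appTop ≫ D.obj.hom.appTop).hom.toAlgebra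
  haveI : IsScalarTower Γ(S, ⊤) Γ(X, ⊤) Γ(D.obj.left, ⊤) :=
    IsScalarTower.of_algebraMap_eq (fun a => rfl)
  haveI : Module.FaithfullyFlat Γ(S, ⊤) Γ(X, ⊤) :=
    (Flat.flat_and_surjective_iff_faithfullyFlat_of_isAffine (f := p)).mp
      ⟨inferInstance, inferInstance⟩
  obtain ⟨B, hbij, hinv⟩ := AlgDD.main (algDD D)
  -- the ring isomorphism `A' ⊗ B ≃ B'`
  let P : Γ(X, ⊤) ⊗[Γ(S, ⊤)] B →ₐ[Γ(S, ⊤)] Γ(D.obj.left, ⊤) :=
    Algebra.TensorProduct.productMap (IsScalarTower.toAlgHom Γ(S, ⊤) Γ(X, ⊤) Γ(D.obj.left, ⊤)) B.val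
  have hP : Function.Bijective P := by
    have : (P : Γ(X, ⊤) ⊗[Γ(S, ⊤)] B → Γ(D.obj.left, ⊤)) =
        ((TensorProduct.lift (Algebra.lsmul Γ(S, ⊤) Γ(S, ⊤) Γ(D.obj.left, ⊤)).toLinearMap) ∘ₗ
          (LinearMap.lTensor Γ(X, ⊤) (Subalgebra.toSubmodule B).subtype)) := by
      funext w
      induction w using TensorProduct.induction_on with
      | zero => simp
      | tmul a b => simp [P, Algebra.smul_def]
      | add w₁ w₂ h₁ h₂ => rw [map_add, map_add, h₁, h₂]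
    rw [this]
    exact hbij
  let eP : Γ(X, ⊤) ⊗[Γ(S, ⊤)] B ≃+* Γ(D.obj.left, ⊤) := RingEquiv.ofBijective P hP
  have hPO : IsPushout p.appTop (CommRingCat.ofHom (algebraMap Γ(S, ⊤) B)) D.obj.hom.appTop
      (CommRingCat.ofHom (B.val : B →+* Γ(D.obj.left, ⊤))) := by
    refine (CommRingCat.isPushout_tensorProduct Γ(S, ⊤) Γ(X, ⊤) B).of_iso (Iso.refl _) (Iso.refl _)
      (Iso.refl _) eP.toCommRingCatIso ?_ ?_ ?_ ?_
    · ext a; rfl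
    · ext a; rfl
    · ext a
      simp [eP, P]
      rfl
    · ext b
      simp [eP, P]
  have hPB := isPullback_SpecMap_of_isPushout _ _ _ _ hPO
  let q : Spec (CommRingCat.of B) ⟶ S :=
    Spec.map (CommRingCat.ofHom (algebraMap Γ(S, ⊤) B)) ≫ S.isoSpec.inv
  let e : D.obj.left ⟶ Spec (CommRingCat.of B) :=
    D.obj.left.isoSpec.hom ≫ Spec.map (CommRingCat.ofHom (B.val : B →+* Γ(D.obj.left, ⊤)))
  refine ⟨Spec (CommRingCat.of B), q, e, ?_, ?_⟩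
  · refine IsPullback.of_iso hPB.flip D.obj.left.isoSpec.symm (Iso.refl _) X.isoSpec.symm
      S.isoSpec.symm ?_ ?_ ?_ ?_
    · simp [e]
    · simp [Scheme.isoSpec_inv_naturality]
    · simp [q]
    · simp [Scheme.isoSpec_inv_naturality]
  · -- compatibility, first for affine test schemes
    have haff : ∀ (R : CommRingCat.{u}) (x₀ x₁ : Spec R ⟶ X) (h : x₀ ≫ p = x₁ ≫ p)
        (v : Lifts D.obj x₀), (D.φ x₀ x₁ h v).1 ≫ e = v.1 ≫ e := by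
      intro R x₀ x₁ h v
      classical
      have hv2 : v.1 ≫ D.obj.hom = x₀ := v.2
      have hc : p.appTop ≫ D.obj.hom.appTop ≫ fromPt D.obj.left v.1 = p.appTop ≫ fromPt X x₁ := by
        rw [← fromPt_mor, ← fromPt_mor, ← fromPt_mor, hv2, h]
      have e1 : (D.φ x₀ x₁ h v).1 = toPt D.obj.left (PhiC D (fromPt D.obj.left v.1) (fromPt X x₁) hc) := by
        rw [toPt_PhiC]
        symm
        apply phi_congr1
        · rw [← toPt_mor, toPt_fromPt, hv2]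
        · rw [toPt_fromPt]
        · simp
      have e2 : v.1 = toPt D.obj.left (fromPt D.obj.left v.1) := (toPt_fromPt _ _).symm
      rw [e1]
      conv_rhs => rw [e2]
      simp only [toPt, e, Category.assoc, Iso.inv_hom_id_assoc, ← Spec.map_comp]
      congr 1
      ext b
      have hcond : ∀ a : Γ(S, ⊤), (fromPt D.obj.left v.1).hom
          (algebraMap Γ(S, ⊤) Γ(D.obj.left, ⊤) a) =
          (fromPt X x₁).hom (algebraMap Γ(S, ⊤) Γ(X, ⊤) a) := fun a =>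
        congrArg (fun g => g.hom a) hc
      have key := hinv R (fromPt D.obj.left v.1).hom (fromPt X x₁).hom hcond b.1 b.2
      have e3 : (algDD D).Φ R (fromPt D.obj.left v.1).hom (fromPt X x₁).hom =
          (PhiC D (fromPt D.obj.left v.1) (fromPt X x₁) hc).hom := by
        change dite _ _ _ = _
        rw [dif_pos hcond]
        rfl
      rw [e3] at key
      exact key
    intro T x₀ x₁ h v
    apply Scheme.Cover.hom_ext T.affineOpenCover.openCover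
    intro j
    change T.affineOpenCover.f j ≫ (D.φ x₀ x₁ h v).1 ≫ e = T.affineOpenCover.f j ≫ v.1 ≫ e
    set g := T.affineOpenCover.f j with hg
    have hv2 : v.1 ≫ D.obj.hom = x₀ := v.2
    have h' : (g ≫ x₀) ≫ p = (g ≫ x₁) ≫ p := by rw [Category.assoc, h, Category.assoc]
    have hn := D.φ_natural g x₀ x₁ h h' v ⟨g ≫ v.1, by rw [Category.assoc, hv2]⟩ rfl
    rw [← Category.assoc, ← hn, haff, Category.assoc]

end Groth.Agent.Lib.Helper81.DescAff
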