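import Mathlib
import Groth.Prelude.Def_DescFam
import Groth.Agent.Lib.Helper81.DescE

/-!
# Effectiveness of descent data is Zariski local on the base
-/

set_option autoImplicit false
set_option backward.isDefEq.respectTransparency false
open CategoryTheory CategoryTheory.Limits AlgebraicGeometry Opposite Desc
universe u
namespace Groth.Agent.Lib.Helper81.DescZ

open Groth.Agent.Lib.Helper38.FpqcGlue Groth.Agent.Lib.Helper81.DescE

variable {S : Scheme.{u}} {ι : Type u} {X : ι → Scheme.{u}} {f : ∀ i, X i ⟶ S}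

/-- the map `D.obj i ×_S V ⟶ X i ×_S V` -/
noncomputable abbrev cmap (D : SchDDFam f) {V : Scheme.{u}} (j : V ⟶ S) (i : ι) :
    pullback ((D.obj i).hom ≫ f i) j ⟶ pullback (f i) j :=
  pullback.map ((D.obj i).hom ≫ f i) j (f i) j (D.obj i).hom (𝟙 V) (𝟙 S) (by simp) (by simp)

/-- the transition map `D.obj i ×_S V ⟶ D.obj i ×_S V'` -/
noncomputable abbrev mmap (D : SchDDFam f) {V V' : Scheme.{u}} (j : V ⟶ S) (j' : V' ⟶ S) (r : V ⟶ V')
    (hr : r ≫ j' = j) (i : ι) :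
    pullback ((D.obj i).hom ≫ f i) j ⟶ pullback ((D.obj i).hom ≫ f i) j' :=
  pullback.map _ _ _ _ (𝟙 _) r (𝟙 S) (by simp) (by simp [hr])

/-- local solution of the descent problem over `j : V ⟶ S`. -/
def IsLocSol (D : SchDDFam f) {V : Scheme.{u}} (j : V ⟶ S) {Y : Scheme.{u}} (q : Y ⟶ V)
    (e : ∀ i, pullback ((D.obj i).hom ≫ f i) j ⟶ Y) : Prop :=
  (∀ i, IsPullback (e i) (cmap D j i) q (pullback.snd (f i) j)) ∧
  ∀ ⦃T : Scheme.{u}⦄ ⦃i k : ι⦄ (a : T ⟶ pullback ((D.obj i).hom ≫ f i) j)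
    (c : T ⟶ pullback ((D.obj k).hom ≫ f k) j) (x₀ : T ⟶ X i) (x₁ : T ⟶ X k)
    (h : x₀ ≫ f i = x₁ ≫ f k) (v : Lifts (D.obj i) x₀),
    a ≫ pullback.fst _ _ = v.1 → c ≫ pullback.fst _ _ = (D.φ x₀ x₁ h v).1 →
    a ≫ pullback.snd _ _ = c ≫ pullback.snd _ _ → c ≫ e k = a ≫ e i

/-- The square `D.obj i ×_S V ⟶ D.obj i`, `X i ×_S V ⟶ X i` is cartesian. -/
lemma isPullback_cmap (D : SchDDFam f) {V : Scheme.{u}} (j : V ⟶ S) (i : ι) :
    IsPullback (pullback.fst ((D.obj i).hom ≫ f i) j) (cmap D j i) (D.obj i).hom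
      (pullback.fst (f i) j) := by
  refine IsPullback.of_bot ?_ (by simp [cmap]) (IsPullback.of_hasPullback (f i) j)
  have : cmap D j i ≫ pullback.snd (f i) j = pullback.snd _ _ := by simp [cmap]
  rw [this]
  exact IsPullback.of_hasPullback _ _

lemma isPullback_mmap (D : SchDDFam f) {V V' : Scheme.{u}} (j : V ⟶ S) (j' : V' ⟶ S) (r : V ⟶ V')
    (hr : r ≫ j' = j) (i : ι) :
    IsPullback (mmap D j j' r hr i) (cmap D j i) (cmap D j' i)
      (pullback.map (f i) j (f i) j' (𝟙 _) r (𝟙 S) (by simp) (by simp [hr])) := by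
  refine IsPullback.of_right ?_ (by apply pullback.hom_ext <;> simp [cmap, mmap])
    (isPullback_cmap D j' i)
  have e1 : mmap D j j' r hr i ≫ pullback.fst ((D.obj i).hom ≫ f i) j' = pullback.fst _ _ := by
    simp [mmap]
  have e2 : pullback.map (f i) j (f i) j' (𝟙 _) r (𝟙 S) (by simp) (by simp [hr]) ≫
      pullback.fst (f i) j' = pullback.fst _ _ := by simp
  rw [e1, e2]
  exact isPullback_cmap D j i

variable (hf : Presieve.ofArrows X f ∈ Scheme.fpqcPrecoverage S)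

include hf in
lemma IsLocSol.mem_fpqc {D : SchDDFam f} {V : Scheme.{u}} {j : V ⟶ S} {Y : Scheme.{u}} {q : Y ⟶ V}
    {e : ∀ i, pullback ((D.obj i).hom ≫ f i) j ⟶ Y} (h : IsLocSol D j q e) :
    Presieve.ofArrows _ e ∈ Scheme.fpqcPrecoverage Y := by
  have h1 : Presieve.ofArrows _ (fun i => pullback.snd (f i) j) ∈ Scheme.fpqcPrecoverage V :=
    Precoverage.mem_coverings_of_isPullback f hf j _ (fun i => pullback.fst (f i) j)
      (fun i => (IsPullback.of_hasPullback (f i) j).flip)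
  exact Precoverage.mem_coverings_of_isPullback _ h1 q e (fun i => cmap D j i) h.1

lemma IsLocSol.fst_eq_phi {D : SchDDFam f} {V : Scheme.{u}} {j : V ⟶ S} {Y : Scheme.{u}} {q : Y ⟶ V}
    {e : ∀ i, pullback ((D.obj i).hom ≫ f i) j ⟶ Y} (h : IsLocSol D j q e) {T : Scheme.{u}}
    {i k : ι} (a : T ⟶ pullback ((D.obj i).hom ≫ f i) j)
    (c : T ⟶ pullback ((D.obj k).hom ≫ f k) j) (hac : a ≫ e i = c ≫ e k) :
    a ≫ pullback.snd _ _ = c ≫ pullback.snd _ _ ∧
    ∃ hx : ((a ≫ pullback.fst _ _) ≫ (D.obj i).hom) ≫ f i =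
        ((c ≫ pullback.fst _ _) ≫ (D.obj k).hom) ≫ f k,
      c ≫ pullback.fst _ _ = (D.φ _ _ hx ⟨a ≫ pullback.fst _ _, rfl⟩).1 := by
  have s1 : ∀ (i : ι), e i ≫ q = pullback.snd ((D.obj i).hom ≫ f i) j := by
    intro i
    rw [(h.1 i).w]; simp [cmap]
  have hsnd : a ≫ pullback.snd _ _ = c ≫ pullback.snd _ _ := by
    rw [← s1 i, ← s1 k, ← Category.assoc, hac, Category.assoc]
  refine ⟨hsnd, ?_⟩
  have hx : ((a ≫ pullback.fst _ _) ≫ (D.obj i).hom) ≫ f i =
        ((c ≫ pullback.fst _ _) ≫ (D.obj k).hom) ≫ f k := by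
    simp only [Category.assoc]
    rw [pullback.condition, pullback.condition, ← Category.assoc, hsnd, Category.assoc]
  refine ⟨hx, ?_⟩
  set w := D.φ _ _ hx ⟨a ≫ pullback.fst _ _, rfl⟩ with hw
  have hw2 : w.1 ≫ (D.obj k).hom = (c ≫ pullback.fst _ _) ≫ (D.obj k).hom := w.2
  let c' : T ⟶ pullback ((D.obj k).hom ≫ f k) j :=
    pullback.lift w.1 (c ≫ pullback.snd _ _) (by
      rw [← Category.assoc, hw2]; simp only [Category.assoc]; rw [pullback.condition])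
  have hc' : c' ≫ e k = a ≫ e i :=
    h.2 a c' _ _ hx ⟨a ≫ pullback.fst _ _, rfl⟩ rfl (by simp [c', hw]) (by simp [c', hsnd])
  have : c' = c := by
    apply (h.1 k).hom_ext
    · rw [hc', hac]
    · apply pullback.hom_ext
      · simp [c', cmap, hw2]
      · simp [c', cmap]
  have e3 : c' ≫ pullback.fst ((D.obj k).hom ≫ f k) j = w.1 := by simp [c']
  have e4 : c ≫ pullback.fst ((D.obj k).hom ≫ f k) j = c' ≫ pullback.fst ((D.obj k).hom ≫ f k) j :=
    congrArg (· ≫ pullback.fst ((D.obj k).hom ≫ f k) j) this.symm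
  exact e4.trans e3

lemma hom_ext_of_fpqc_family {Y Z : Scheme.{u}} {κ : Type u} {W : κ → Scheme.{u}} (g : ∀ k, W k ⟶ Y)
    (hg : Presieve.ofArrows W g ∈ Scheme.fpqcPrecoverage Y) {t t' : Y ⟶ Z}
    (h : ∀ k, g k ≫ t = g k ≫ t') : t = t' := by
  obtain ⟨t₀, _, hu⟩ := desc_of_fpqc_family g hg (fun k => g k ≫ t) (by
    intro T k l a b hab
    rw [← Category.assoc, hab, Category.assoc])
  exact (hu t (fun _ => rfl)).trans (hu t' (fun k => (h k).symm)).symm

lemma IsLocSol.e_q {D : SchDDFam f} {V : Scheme.{u}} {j : V ⟶ S} {Y : Scheme.{u}} {q : Y ⟶ V}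
    {e : ∀ i, pullback ((D.obj i).hom ≫ f i) j ⟶ Y} (h : IsLocSol D j q e) (i : ι) :
    e i ≫ q = pullback.snd ((D.obj i).hom ≫ f i) j := by
  rw [(h.1 i).w]; simp [cmap]

include hf in
lemma IsLocSol.trans_exists {D : SchDDFam f} {V V' : Scheme.{u}} {j : V ⟶ S} {j' : V' ⟶ S}
    {Y Y' : Scheme.{u}} {q : Y ⟶ V} {q' : Y' ⟶ V'}
    {e : ∀ i, pullback ((D.obj i).hom ≫ f i) j ⟶ Y}
    {e' : ∀ i, pullback ((D.obj i).hom ≫ f i) j' ⟶ Y'}
    (h : IsLocSol D j q e) (h' : IsLocSol D j' q' e') (r : V ⟶ V') (hr : r ≫ j' = j) :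
    ∃! t : Y ⟶ Y', ∀ i, e i ≫ t = mmap D j j' r hr i ≫ e' i := by
  apply desc_of_fpqc_family e (h.mem_fpqc hf) (fun i => mmap D j j' r hr i ≫ e' i)
  intro T i k a c hac
  obtain ⟨hsnd, hx, hfst⟩ := h.fst_eq_phi a c hac
  symm
  rw [← Category.assoc, ← Category.assoc]
  exact h'.2 (a ≫ mmap D j j' r hr i) (c ≫ mmap D j j' r hr k) _ _ hx ⟨a ≫ pullback.fst _ _, rfl⟩
    (by simp [mmap]) (by simp [mmap, hfst]) (by simp [mmap, reassoc_of% hsnd])

include hf in
lemma IsLocSol.trans_q {D : SchDDFam f} {V V' : Scheme.{u}} {j : V ⟶ S} {j' : V' ⟶ S}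
    {Y Y' : Scheme.{u}} {q : Y ⟶ V} {q' : Y' ⟶ V'}
    {e : ∀ i, pullback ((D.obj i).hom ≫ f i) j ⟶ Y}
    {e' : ∀ i, pullback ((D.obj i).hom ≫ f i) j' ⟶ Y'}
    (h : IsLocSol D j q e) (h' : IsLocSol D j' q' e') (r : V ⟶ V') (hr : r ≫ j' = j)
    (t : Y ⟶ Y') (ht : ∀ i, e i ≫ t = mmap D j j' r hr i ≫ e' i) : t ≫ q' = q ≫ r := by
  apply hom_ext_of_fpqc_family e (h.mem_fpqc hf)
  intro i
  rw [← Category.assoc, ht, Category.assoc, h'.e_q, ← Category.assoc, h.e_q]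
  simp [mmap]

lemma mmap_id (D : SchDDFam f) {V : Scheme.{u}} (j : V ⟶ S) (i : ι) :
    mmap D j j (𝟙 V) (Category.id_comp j) i = 𝟙 _ := by
  apply pullback.hom_ext <;> simp [mmap]

lemma mmap_comp (D : SchDDFam f) {V V' V'' : Scheme.{u}} (j : V ⟶ S) (j' : V' ⟶ S) (j'' : V'' ⟶ S)
    (r : V ⟶ V') (hr : r ≫ j' = j) (r' : V' ⟶ V'') (hr' : r' ≫ j'' = j') (i : ι) :
    mmap D j j' r hr i ≫ mmap D j' j'' r' hr' i =
      mmap D j j'' (r ≫ r') (by rw [Category.assoc, hr', hr]) i := by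
  apply pullback.hom_ext <;> simp [mmap]

include hf in
lemma IsLocSol.isIso_of_two {D : SchDDFam f} {V : Scheme.{u}} {j : V ⟶ S}
    {Y Y₂ : Scheme.{u}} {q : Y ⟶ V} {q₂ : Y₂ ⟶ V}
    {e : ∀ i, pullback ((D.obj i).hom ≫ f i) j ⟶ Y}
    {e₂ : ∀ i, pullback ((D.obj i).hom ≫ f i) j ⟶ Y₂}
    (h : IsLocSol D j q e) (h₂ : IsLocSol D j q₂ e₂) (t : Y ⟶ Y₂) (ht : ∀ i, e i ≫ t = e₂ i) :
    IsIso t := by
  obtain ⟨t', ht', -⟩ := h₂.trans_exists hf h (𝟙 V) (Category.id_comp j)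
  have ht'' : ∀ i, e₂ i ≫ t' = e i := fun i => by
    rw [ht' i, mmap_id, Category.id_comp]
  clear ht'
  rename' ht'' => ht'
  refine ⟨t', ?_, ?_⟩
  · apply hom_ext_of_fpqc_family e (h.mem_fpqc hf)
    intro i
    rw [← Category.assoc, ht, ht', Category.comp_id]
  · apply hom_ext_of_fpqc_family e₂ (h₂.mem_fpqc hf)
    intro i
    rw [← Category.assoc, ht', ht, Category.comp_id]

lemma IsLocSol.pullback {D : SchDDFam f} {V V' : Scheme.{u}} {j : V ⟶ S} {j' : V' ⟶ S}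
    {Y' : Scheme.{u}} {q' : Y' ⟶ V'}
    {e' : ∀ i, pullback ((D.obj i).hom ≫ f i) j' ⟶ Y'}
    (h' : IsLocSol D j' q' e') (r : V ⟶ V') (hr : r ≫ j' = j)
    (e'' : ∀ i, pullback ((D.obj i).hom ≫ f i) j ⟶ pullback q' r)
    (h1 : ∀ i, e'' i ≫ pullback.fst q' r = mmap D j j' r hr i ≫ e' i)
    (h2 : ∀ i, e'' i ≫ pullback.snd q' r = pullback.snd _ _) :
    IsLocSol D j (pullback.snd q' r) e'' := by
  constructor
  · intro i
    refine IsPullback.of_right ?_ (by rw [h2]; simp [cmap]) (IsPullback.of_hasPullback q' r)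
    rw [h1]
    have := (isPullback_mmap D j j' r hr i).paste_horiz (h'.1 i)
    have e5 : pullback.map (f i) j (f i) j' (𝟙 (X i)) r (𝟙 S) (by simp) (by simp [hr]) ≫
        pullback.snd (f i) j' = pullback.snd (f i) j ≫ r := by simp
    rw [e5] at this
    exact this
  · intro T i k a c x₀ x₁ hx v ha hc hsnd
    apply pullback.hom_ext
    · rw [Category.assoc, Category.assoc, h1, h1, ← Category.assoc, ← Category.assoc]
      exact h'.2 (a ≫ mmap D j j' r hr i) (c ≫ mmap D j j' r hr k) x₀ x₁ hx v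
        (by simp [mmap, ha]) (by simp [mmap, hc]) (by simp [mmap, reassoc_of% hsnd])
    · rw [Category.assoc, Category.assoc, h2, h2, hsnd]

lemma glued_exists' {S : Scheme.{u}}
    (d : Scheme.Cover.RelativeGluingData S.directedAffineCover) :
    ∃ (Z : Scheme.{u}) (c : Z ⟶ S) (g : ∀ U : S.affineOpens, d.functor.obj U ⟶ Z),
      (∀ U : S.affineOpens, IsPullback (d.natTrans.app U) (g U) (U.1.ι) c) ∧
      (∀ (U V : S.affineOpens) (a : U ⟶ V), d.functor.map a ≫ g V = g U) ∧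
      (∀ U, IsOpenImmersion (g U)) ∧ (∀ z : Z, ∃ U y, g U y = z) := by
  refine ⟨d.glued, d.toBase, fun U => colimit.ι d.functor U,
    fun U => d.isPullback_natTrans_ι_toBase U, fun U V a => colimit.w d.functor a, ?_, ?_⟩
  · intro U
    exact inferInstanceAs (IsOpenImmersion (d.cover.f U))
  · intro z
    obtain ⟨U, y, hy⟩ := d.cover.exists_eq z
    exact ⟨U, y, hy⟩

include hf in
theorem exists_isESol_of_local (D : SchDDFam f)
    (H : ∀ V : S.affineOpens, ∃ (Y : Scheme.{u}) (q : Y ⟶ (V.1 : Scheme.{u}))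
      (e : ∀ i, pullback ((D.obj i).hom ≫ f i) V.1.ι ⟶ Y), IsLocSol D V.1.ι q e) :
    ∃ (Y : Scheme.{u}) (q : Y ⟶ S) (e : ∀ i, (D.obj i).left ⟶ Y), IsESol D q e := by
  choose Yl ql el hl using H
  let 𝒰 := S.directedAffineCover
  have hr : ∀ {U V : S.affineOpens} (hUV : U ≤ V), S.homOfLE hUV ≫ V.1.ι = U.1.ι :=
    fun hUV => by simp
  have htr : ∀ {U V : S.affineOpens} (hUV : U ≤ V), ∃! t : Yl U ⟶ Yl V,
      ∀ i, el U i ≫ t = mmap D U.1.ι V.1.ι (S.homOfLE hUV) (hr hUV) i ≫ el V i :=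
    fun hUV => (hl _).trans_exists hf (hl _) _ _
  let tr : ∀ {U V : S.affineOpens} (hUV : U ≤ V), Yl U ⟶ Yl V := fun hUV => (htr hUV).exists.choose
  have htr1 : ∀ {U V : S.affineOpens} (hUV : U ≤ V) (i : ι),
      el U i ≫ tr hUV = mmap D U.1.ι V.1.ι (S.homOfLE hUV) (hr hUV) i ≫ el V i :=
    fun hUV => (htr hUV).exists.choose_spec
  have htr2 : ∀ {U V : S.affineOpens} (hUV : U ≤ V) (t : Yl U ⟶ Yl V),
      (∀ i, el U i ≫ t = mmap D U.1.ι V.1.ι (S.homOfLE hUV) (hr hUV) i ≫ el V i) → t = tr hUV :=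
    fun hUV t ht => (htr hUV).unique ht (htr1 hUV)
  have htrq : ∀ {U V : S.affineOpens} (hUV : U ≤ V), tr hUV ≫ ql V = ql U ≫ S.homOfLE hUV :=
    fun hUV => (hl _).trans_q hf (hl _) _ _ _ (htr1 hUV)
  let F : 𝒰.I₀ ⥤ Scheme.{u} :=
    { obj := Yl
      map := fun {U V} a => tr (leOfHom a)
      map_id := fun U => by
        symm
        apply htr2
        intro i
        have : mmap D U.1.ι U.1.ι (S.homOfLE (le_refl U)) (hr _) i = 𝟙 _ := by
          apply pullback.hom_ext <;> simp [mmap]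
        rw [this]; simp
      map_comp := fun {U V W} a b => by
        symm
        apply htr2
        intro i
        rw [← Category.assoc, htr1, Category.assoc, htr1, ← Category.assoc, mmap_comp]
        congr 1
        apply pullback.hom_ext <;> simp [mmap] }
  let α : F ⟶ 𝒰.functorOfLocallyDirected :=
    { app := fun U => ql U
      naturality := fun U V a => htrq (leOfHom a) }
  have hα : α.Equifibered := by
    intro U V a
    change IsPullback (tr (leOfHom a)) (ql U) (ql V) (S.homOfLE (leOfHom a))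
    let e'' : ∀ i, pullback ((D.obj i).hom ≫ f i) U.1.ι ⟶ pullback (ql V) (S.homOfLE (leOfHom a)) :=
      fun i => pullback.lift (mmap D U.1.ι V.1.ι (S.homOfLE (leOfHom a)) (hr _) i ≫ el V i)
        (pullback.snd _ _) (by rw [Category.assoc, (hl V).e_q]; simp [mmap])
    have hP : IsLocSol D U.1.ι (pullback.snd (ql V) (S.homOfLE (leOfHom a))) e'' :=
      (hl V).pullback _ (hr _) e'' (fun i => by simp [e'']) (fun i => by simp [e''])
    let t₀ : Yl U ⟶ pullback (ql V) (S.homOfLE (leOfHom a)) :=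
      pullback.lift (tr (leOfHom a)) (ql U) (htrq _)
    have ht₀ : ∀ i, el U i ≫ t₀ = e'' i := by
      intro i
      apply pullback.hom_ext
      · simp [t₀, e'', htr1]
      · simp [t₀, e'', (hl U).e_q]
    have : IsIso t₀ := (hl U).isIso_of_two hf hP t₀ ht₀
    exact IsPullback.of_iso_pullback ⟨htrq _⟩ (asIso t₀) (by simp [t₀]) (by simp [t₀])
  obtain ⟨Y, q, g, hpb0, hcomp0, hopen, hcov⟩ := glued_exists' (S := S) ⟨F, α, hα⟩
  have hpb : ∀ U : S.affineOpens, IsPullback (ql U) (g U) (U.1.ι) q := hpb0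
  have hcomp : ∀ {U V : S.affineOpens} (hUV : U ≤ V), tr hUV ≫ g V = g U :=
    fun hUV => hcomp0 _ _ (homOfLE hUV)
  -- the global maps
  have hglue : ∀ i, ∃ ei : (D.obj i).left ⟶ Y, ∀ U : S.affineOpens,
      pullback.fst ((D.obj i).hom ≫ f i) U.1.ι ≫ ei = el U i ≫ g U := by
    intro i
    refine ⟨Scheme.OpenCover.glueMorphismsOfLocallyDirected (𝒰.pullback₁ ((D.obj i).hom ≫ f i))
      (fun U => el U i ≫ g U) ?_, fun U => ?_⟩
    · intro U V a
      change mmap D U.1.ι V.1.ι (S.homOfLE (leOfHom a)) (hr _) i ≫ el V i ≫ g V = _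
      rw [← Category.assoc, ← htr1, Category.assoc, hcomp]
    · exact Scheme.OpenCover.map_glueMorphismsOfLocallyDirected
        (𝒰.pullback₁ ((D.obj i).hom ≫ f i)) _ _ U
  choose e he using hglue
  have hE1 : ∀ i, e i ≫ q = (D.obj i).hom ≫ f i := by
    intro i
    apply Scheme.Cover.hom_ext (𝒰.pullback₁ ((D.obj i).hom ≫ f i))
    intro (U : S.affineOpens)
    change pullback.fst ((D.obj i).hom ≫ f i) U.1.ι ≫ e i ≫ q = pullback.fst _ _ ≫ _
    rw [← Category.assoc, he i U, Category.assoc, ← (hpb U).w, ← Category.assoc, (hl U).e_q,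
      pullback.condition]
  let 𝒢 : Y.OpenCover := Scheme.Cover.mkOfCovers S.affineOpens Yl g hcov hopen
  refine ⟨Y, q, e, ?_, ?_⟩
  · intro i
    apply Scheme.isPullback_of_openCover (e i) (D.obj i).hom q (f i) 𝒢
    intro (U : S.affineOpens)
    change IsPullback (pullback.snd (e i) (g U)) (pullback.fst (e i) (g U) ≫ (D.obj i).hom)
      (g U ≫ q) (f i)
    have hLeft : IsPullback (el U i) (pullback.fst ((D.obj i).hom ≫ f i) U.1.ι) (g U) (e i) := by
      refine IsPullback.of_right ?_ (he i U).symm (hpb U)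
      rw [(hl U).e_q, hE1]
      exact (IsPullback.of_hasPullback _ _).flip
    have hBig : IsPullback (el U i) (pullback.fst ((D.obj i).hom ≫ f i) U.1.ι ≫ (D.obj i).hom)
        (g U ≫ q) (f i) := by
      have := ((hl U).1 i).paste_vert (IsPullback.of_hasPullback (f i) U.1.ι).flip
      have e1 : cmap D U.1.ι i ≫ pullback.fst (f i) U.1.ι =
          pullback.fst ((D.obj i).hom ≫ f i) U.1.ι ≫ (D.obj i).hom := by simp [cmap]
      rw [e1, (hpb U).w] at this
      exact this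
    exact IsPullback.of_iso hBig hLeft.flip.isoPullback (Iso.refl _) (Iso.refl _) (Iso.refl _)
      (by simp) (by simp) (by simp) (by simp)
  · intro T i k x₀ x₁ hx v
    apply Scheme.Cover.hom_ext (𝒰.pullback₁ (x₀ ≫ f i))
    intro (U : S.affineOpens)
    change pullback.fst (x₀ ≫ f i) U.1.ι ≫ (D.φ x₀ x₁ hx v).1 ≫ e k =
      pullback.fst (x₀ ≫ f i) U.1.ι ≫ v.1 ≫ e i
    set s := pullback.fst (x₀ ≫ f i) U.1.ι with hs
    set b := pullback.snd (x₀ ≫ f i) U.1.ι with hb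
    have hsb : s ≫ x₀ ≫ f i = b ≫ U.1.ι := pullback.condition
    have hv2 : v.1 ≫ (D.obj i).hom = x₀ := v.2
    have hw2 : (D.φ x₀ x₁ hx v).1 ≫ (D.obj k).hom = x₁ := (D.φ x₀ x₁ hx v).2
    let a : pullback (x₀ ≫ f i) U.1.ι ⟶ pullback ((D.obj i).hom ≫ f i) U.1.ι :=
      pullback.lift (s ≫ v.1) b (by rw [Category.assoc, reassoc_of% hv2, hsb])
    let c : pullback (x₀ ≫ f i) U.1.ι ⟶ pullback ((D.obj k).hom ≫ f k) U.1.ι :=
      pullback.lift (s ≫ (D.φ x₀ x₁ hx v).1) b (by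
        rw [Category.assoc, reassoc_of% hw2]
        exact (congrArg (fun z => s ≫ z) hx).symm.trans hsb)
    have hx' : (s ≫ x₀) ≫ f i = (s ≫ x₁) ≫ f k := by
      simp only [Category.assoc]
      exact congrArg (fun z => s ≫ z) hx
    let v' : Lifts (D.obj i) (s ≫ x₀) := ⟨s ≫ v.1, by rw [Category.assoc, hv2]⟩
    have hnat : (D.φ (s ≫ x₀) (s ≫ x₁) hx' v').1 = s ≫ (D.φ x₀ x₁ hx v).1 :=
      D.φ_natural s x₀ x₁ hx (s ≫ x₀) (s ≫ x₁) rfl rfl hx' v v' rfl
    have key := (hl U).2 a c (s ≫ x₀) (s ≫ x₁) hx' v' (by simp [a, v']) (by simp [c, hnat])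
      (by simp [a, c])
    have e1 : s ≫ v.1 = a ≫ pullback.fst _ _ := by simp [a]
    have e2 : s ≫ (D.φ x₀ x₁ hx v).1 = c ≫ pullback.fst _ _ := by simp [c]
    rw [← Category.assoc, ← Category.assoc, e1, e2, Category.assoc, Category.assoc, he, he,
      ← Category.assoc, ← Category.assoc, key]

end Groth.Agent.Lib.Helper81.DescZ
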