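import Mathlib
import Groth.Prelude.Def_DescFam
import Groth.Agent.Lib.Helper38.PullDDFamFF
import Groth.Agent.Lib.Helper81.DescZ

/-!
# Refinement principle and base change to opens for effectiveness of descent data
-/

set_option autoImplicit false
set_option backward.isDefEq.respectTransparency false
open CategoryTheory CategoryTheory.Limits AlgebraicGeometry Opposite Desc
universe u
namespace Groth.Agent.Lib.Helper81.DescR

open Groth.Agent.Lib.Helper38.FpqcGlue Groth.Agent.Lib.Helper81.DescE Groth.Agent.Lib.Helper81.DescZ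

section refine

variable {S : Scheme.{u}} {ι κ : Type u} {U : ι → Scheme.{u}} {V : κ → Scheme.{u}}
  {uu : ∀ i, U i ⟶ S} {v : ∀ j, V j ⟶ S} {α : ι → κ} {g : ∀ i, U i ⟶ V (α i)}
  (w : ∀ i, g i ≫ v (α i) = uu i ≫ 𝟙 S)

/-- the comparison `pull (canonical) ⟶ canonical` -/
noncomputable def pullCan (Y : Over S) :
    (pullDDFam w).obj ((toDDFam v).obj Y) ⟶ (toDDFam uu).obj Y :=
  ⟨fun i => Over.homMk
      (pullback.lift (pullback.snd (pullback.fst (v (α i)) Y.hom) (g i))
        (pullback.fst (pullback.fst (v (α i)) Y.hom) (g i) ≫ pullback.snd _ _) (by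
          have := w i
          rw [Category.comp_id] at this
          rw [← this, ← Category.assoc, ← pullback.condition, Category.assoc, pullback.condition,
            Category.assoc]))
      (by simp [toDDFam, canonicalDDFam, pullDDFam, pullDDFamObj]), by
    intro T i i' x₀ x₁ h v₀ w₀ hw
    apply pullback.hom_ext
    · simp [pullDDFam, pullDDFamObj, liftsPullbackEquiv, toDDFam, canonicalDDFam]
    · simp [pullDDFam, pullDDFamObj, liftsPullbackEquiv, toDDFam, canonicalDDFam, hw]⟩

instance (Y : Over S) : IsIso (pullCan w Y) := by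
  apply isIso_of_components
  intro i
  have hw : g i ≫ v (α i) = uu i := by rw [w i, Category.comp_id]
  have : IsIso ((Over.forget _).map ((pullCan w Y).hom i)) := by
    let inv0 : pullback (uu i) Y.hom ⟶ pullback (pullback.fst (v (α i)) Y.hom) (g i) :=
      pullback.lift (pullback.lift (pullback.fst _ _ ≫ g i) (pullback.snd _ _)
        (by rw [Category.assoc, hw, pullback.condition])) (pullback.fst _ _) (by simp)
    refine ⟨inv0, ?_, ?_⟩
    · change pullback.lift (pullback.snd (pullback.fst (v (α i)) Y.hom) (g i))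
        (pullback.fst (pullback.fst (v (α i)) Y.hom) (g i) ≫ pullback.snd _ _) _ ≫ inv0 = 𝟙 _
      apply pullback.hom_ext
      · apply pullback.hom_ext
        · simp [inv0, pullback.condition]
        · simp [inv0]
      · simp [inv0]
    · change inv0 ≫ pullback.lift (pullback.snd (pullback.fst (v (α i)) Y.hom) (g i))
        (pullback.fst (pullback.fst (v (α i)) Y.hom) (g i) ≫ pullback.snd _ _) _ = 𝟙 _
      apply pullback.hom_ext <;> simp [inv0]
  exact isIso_of_reflects_iso _ (Over.forget _)

variable (H : ∀ j, Sieve.pullback (v j) (Sieve.ofArrows U uu) ∈ Scheme.fpqcTopology (V j))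

include H in
/-- Refinement principle: if the pullback of `D` to a refinement is effective then so is `D`. -/
theorem isEffective_of_pull (D : SchDDFam v) (h : ((pullDDFam w).obj D).IsEffective) :
    D.IsEffective := by
  obtain ⟨Y, ⟨ε⟩⟩ := h
  haveI := Groth.Agent.Lib.Helper38.PullDDFamFF.full w H
  haveI := Groth.Agent.Lib.Helper38.PullDDFamFF.faithful w H
  exact ⟨Y, ⟨(pullDDFam w).preimageIso (asIso (pullCan w Y) ≪≫ ε)⟩⟩

end refine

section basechange

variable {S : Scheme.{u}} {ι : Type u} {X : ι → Scheme.{u}} {f : ∀ i, X i ⟶ S}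

/-- base change of a descent datum along `j : V ⟶ S`. -/
noncomputable abbrev baseChange (D : SchDDFam f) {V : Scheme.{u}} (j : V ⟶ S) :
    SchDDFam (fun i => pullback.snd (f i) j) :=
  (pullDDFam (f := f) (f' := fun i => pullback.snd (f i) j) (α := fun i => i) (p := j)
    (p' := fun i => pullback.fst (f i) j) (fun _ => pullback.condition)).obj D

theorem exists_isLocSol_of_baseChange_isEffective (D : SchDDFam f) {V : Scheme.{u}} (j : V ⟶ S)
    (h : (baseChange D j).IsEffective) :
    ∃ (Y : Scheme.{u}) (q : Y ⟶ V) (e : ∀ i, pullback ((D.obj i).hom ≫ f i) j ⟶ Y),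
      IsLocSol D j q e := by
  obtain ⟨Y, q, e₀, hpb, hc⟩ := exists_isESol_of_isEffective _ h
  let κ : ∀ i, pullback ((D.obj i).hom ≫ f i) j ≅ pullback (D.obj i).hom (pullback.fst (f i) j) :=
    fun i => (isPullback_cmap D j i).isoPullback
  have κ1 : ∀ i, (κ i).hom ≫ pullback.fst _ _ = pullback.fst _ _ :=
    fun i => (isPullback_cmap D j i).isoPullback_hom_fst
  have κ2 : ∀ i, (κ i).hom ≫ pullback.snd _ _ = cmap D j i :=
    fun i => (isPullback_cmap D j i).isoPullback_hom_snd
  have hpb' : ∀ i, IsPullback (e₀ i) (pullback.snd (D.obj i).hom (pullback.fst (f i) j)) q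
      (pullback.snd (f i) j) := hpb
  refine ⟨Y, q, fun i => (κ i).hom ≫ e₀ i, ?_, ?_⟩
  · intro i
    refine IsPullback.of_iso (hpb' i) (κ i).symm (Iso.refl _) (Iso.refl _) (Iso.refl _) ?_ ?_ ?_ ?_
    · simp
    · simp [← κ2]
    · simp
    · simp
  · intro T i k a c x₀ x₁ hx v ha hc' hsnd
    have hv2 : v.1 ≫ (D.obj i).hom = x₀ := v.2
    have hw2 : (D.φ x₀ x₁ hx v).1 ≫ (D.obj k).hom = x₁ := (D.φ x₀ x₁ hx v).2
    have hy : (a ≫ cmap D j i) ≫ pullback.snd (f i) j = (c ≫ cmap D j k) ≫ pullback.snd (f k) j := by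
      simp [cmap, hsnd]
    let w₀ : Lifts ((baseChange D j).obj i) (a ≫ cmap D j i) :=
      ⟨a ≫ (κ i).hom, by
        change (a ≫ (κ i).hom) ≫ pullback.snd (D.obj i).hom (pullback.fst (f i) j) = _
        rw [Category.assoc, κ2]⟩
    have key := hc (a ≫ cmap D j i) (c ≫ cmap D j k) hy w₀
    have e1 : ((baseChange D j).φ (a ≫ cmap D j i) (c ≫ cmap D j k) hy w₀).1 = c ≫ (κ k).hom := by
      apply pullback.hom_ext
      · rw [Category.assoc, κ1, hc']
        simp only [baseChange, pullDDFam, pullDDFamObj, Equiv.trans_apply, liftsPullbackEquiv,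
          Equiv.coe_fn_mk, Equiv.coe_fn_symm_mk, pullback.lift_fst]
        apply phi_congr
        · simp [cmap, ← ha, hv2]
          rw [← hv2, ← ha, Category.assoc]
        · simp [cmap]
          rw [← hw2, ← hc', Category.assoc]
        · simp [w₀, κ1, ha]
      · rw [Category.assoc, κ2]
        exact ((baseChange D j).φ (a ≫ cmap D j i) (c ≫ cmap D j k) hy w₀).2
    rw [← Category.assoc, ← e1]
    exact key

end basechange

end Groth.Agent.Lib.Helper81.DescR
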