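import Mathlib
import Groth.Prelude.Def_DescFam
import Groth.Agent.Lib.Helper81.DescR
import Groth.Agent.Lib.Helper81.DescAff
import Groth.Agent.Lib.Helper81.ClosedDesc

/-!
# Reduction of effectiveness of fpqc descent data to the affine case (single covering morphism)
-/

set_option autoImplicit false
set_option backward.isDefEq.respectTransparency false
open CategoryTheory CategoryTheory.Limits AlgebraicGeometry Opposite Desc
universe u
namespace Groth.Agent.Lib.Helper81.DescMain

open Groth.Agent.Lib.Helper38.FpqcGlue Groth.Agent.Lib.Helper81.DescE Groth.Agent.Lib.Helper81.DescZ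
  Groth.Agent.Lib.Helper81.DescR Groth.Agent.Lib.Helper81.DescAff

/-- passing between the family form and the single form of effectiveness -/
theorem single_of_fam {X S : Scheme.{u}} (p : X ⟶ S) (D : SchDD p)
    (h : ((SchDDFam.ofSchDD.{u, u} p).obj D).IsEffective) :
    ∃ U : Over S, Nonempty ((toDD p).obj U ≅ D) := by
  obtain ⟨U, ⟨ε⟩⟩ := h
  exact ⟨U, ⟨(SchDDFam.toSchDD.{u, u} p).mapIso ε⟩⟩

theorem fam_of_single {X S : Scheme.{u}} (p : X ⟶ S) (D : SchDDFam (fun _ : PUnit.{u + 1} => p))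
    (h : ∃ U : Over S, Nonempty ((toDD p).obj U ≅ (SchDDFam.toSchDD.{u, u} p).obj D)) :
    D.IsEffective := by
  obtain ⟨U, ⟨ε⟩⟩ := h
  haveI : (SchDDFam.toSchDD.{u, u} p).Full :=
    inferInstanceAs ((SchDDFam.oneEquiv.{u, u} p).functor).Full
  haveI : (SchDDFam.toSchDD.{u, u} p).Faithful :=
    inferInstanceAs ((SchDDFam.oneEquiv.{u, u} p).functor).Faithful
  let ε' : (SchDDFam.toSchDD.{u, u} p).obj ((toDDFam (fun _ : PUnit.{u + 1} => p)).obj U) ≅
      (SchDDFam.toSchDD.{u, u} p).obj D := ε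
  exact ⟨U, ⟨(SchDDFam.toSchDD.{u, u} p).preimageIso ε'⟩⟩

/-- the affine case in iso form -/
theorem affine_case_iso {X S : Scheme.{u}} (p : X ⟶ S) [IsAffine X] [IsAffine S] [Flat p]
    [Surjective p] (D : SchDD p) [IsAffineHom D.obj.hom] :
    ∃ U : Over S, Nonempty ((toDD p).obj U ≅ D) := by
  haveI : IsAffine D.obj.left := isAffine_of_isAffineHom D.obj.hom
  obtain ⟨Y, q, e, hpb, hc⟩ := affine_case D
  apply single_of_fam
  exact isEffective_of_isESol ((SchDDFam.ofSchDD.{u, u} p).obj D) q (fun _ => e)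
    ⟨fun _ => hpb, fun T _ _ x₀ x₁ h v => hc x₀ x₁ h v⟩

theorem effective_of_affine_case (P : MorphismProperty Scheme.{u}) [P.IsStableUnderBaseChange]
    (h3 : ∀ (X S : Scheme.{u}) (p : X ⟶ S), IsAffine X → IsAffine S → Flat p → Surjective p →
      ∀ D : Desc.SchDD p, P D.obj.hom → ∃ U : Over S, Nonempty ((Desc.toDD p).obj U ≅ D))
    {X S : Scheme.{u}} (p : X ⟶ S) [Surjective p] [Flat p] [QuasiCompact p] (D : SchDD p)
    (hD : P D.obj.hom) : ∃ U : Over S, Nonempty ((toDD p).obj U ≅ D) := by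
  apply single_of_fam
  set Dfam := (SchDDFam.ofSchDD.{u, u} p).obj D with hDfam
  have hf : Presieve.ofArrows (fun _ : PUnit.{u + 1} => X) (fun _ => p) ∈
      Scheme.fpqcPrecoverage S := by
    rw [Presieve.ofArrows_pUnit]
    exact p.singleton_mem_fpqcPrecoverage
  have hf1 : Presieve.ofArrows (fun _ : PUnit.{u + 1} => X) (fun _ => p) ∈
      Scheme.qcPrecoverage S := hf.1
  have hqc : QuasiCompactCover
      (⟨PUnit.{u + 1}, fun _ => X, fun _ => p⟩ : PreZeroHypercover.{u} S) :=
    Scheme.presieve₀_mem_qcPrecoverage_iff.mp hf1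
  obtain ⟨Y, q, e, hE⟩ := exists_isESol_of_local hf Dfam (fun V => by
    apply exists_isLocSol_of_baseChange_isEffective
    haveI : IsAffine (V.1 : Scheme.{u}) := V.2
    obtain ⟨n, idx, Pk, π, qq, hP, hπ, hπq, hsurj⟩ :=
      Groth.Agent.Lib.Helper81.ClosedDesc.exists_finite_affine_refinement
        (f := fun _ : PUnit.{u + 1} => p) (fun _ => inferInstance) hqc V.1.ι
    haveI := hP
    let p' : ∐ Pk ⟶ (V.1 : Scheme.{u}) := Sigma.desc π
    let r : ∐ Pk ⟶ pullback p V.1.ι :=
      Sigma.desc (fun k => pullback.lift (qq k) (π k) (hπq k).symm)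
    have hr : r ≫ pullback.snd p V.1.ι = p' := by
      apply Sigma.hom_ext
      intro k
      simp [r, p']
    haveI : Flat p' := IsZariskiLocalAtSource.sigmaDesc (P := @Flat) hπ
    haveI : Surjective p' := by
      constructor
      intro x
      obtain ⟨k, y, hy⟩ := hsurj x
      refine ⟨(Sigma.ι Pk k).base y, ?_⟩
      rw [← hy, ← Scheme.Hom.comp_apply]
      simp [p']
    haveI : IsAffine (∐ Pk) := inferInstance
    haveI : QuasiCompact p' := inferInstance
    have hf' : Presieve.ofArrows (fun _ : PUnit.{u + 1} => ∐ Pk) (fun _ => p') ∈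
        Scheme.fpqcPrecoverage (V.1 : Scheme.{u}) := by
      rw [Presieve.ofArrows_pUnit]
      exact p'.singleton_mem_fpqcPrecoverage
    have w : ∀ i : PUnit.{u + 1}, (fun _ : PUnit.{u + 1} => r) i ≫
        (fun _ : PUnit.{u + 1} => pullback.snd p V.1.ι) i =
        (fun _ : PUnit.{u + 1} => p') i ≫ 𝟙 _ := fun _ => by
      simp [hr]
    have H : ∀ j : PUnit.{u + 1}, Sieve.pullback ((fun _ : PUnit.{u + 1} => pullback.snd p V.1.ι) j)
        (Sieve.ofArrows (fun _ : PUnit.{u + 1} => ∐ Pk) (fun _ => p')) ∈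
        Scheme.fpqcTopology (pullback p V.1.ι) := fun _ => pullback_ofArrows_mem _ hf' _
    refine isEffective_of_pull (uu := fun _ : PUnit.{u + 1} => p')
      (v := fun _ : PUnit.{u + 1} => pullback.snd p V.1.ι) (α := fun i => i)
      (g := fun _ => r) w H (baseChange Dfam V.1.ι) ?_
    apply fam_of_single
    apply h3 _ _ p' inferInstance V.2 inferInstance inferInstance
    change P (pullback.snd (pullback.snd D.obj.hom (pullback.fst p V.1.ι)) r)
    exact P.pullback_snd _ _ (P.pullback_snd _ _ hD))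
  exact isEffective_of_isESol Dfam q e hE

end Groth.Agent.Lib.Helper81.DescMain
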