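import Mathlib
import Groth.Prelude.Def_DescFam
import Groth.Agent.Lib.Helper81.DescMain
import Groth.Agent.S9839

/-!
# Effectiveness of descent data is local on the descent datum (stable open covers)
-/

set_option autoImplicit false
set_option backward.isDefEq.respectTransparency false
open CategoryTheory CategoryTheory.Limits AlgebraicGeometry Opposite Desc
universe u
namespace Groth.Agent.Lib.Helper81.DescLoc

open Groth.Agent.Lib.Helper38.FpqcGlue Groth.Agent.Lib.Helper81.DescE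

variable {X S : Scheme.{u}} {p : X ⟶ S}

/-- an open of the total space of a descent datum is stable under the gluing bijections -/
def Stable (D : SchDD p) (W : D.obj.left.Opens) : Prop :=
  ∀ ⦃T : Scheme.{u}⦄ (x₀ x₁ : T ⟶ X) (h : x₀ ≫ p = x₁ ≫ p) (v : Lifts D.obj x₀)
    (a : T ⟶ (W : Scheme.{u})), a ≫ W.ι = v.1 →
    ∃ c : T ⟶ (W : Scheme.{u}), c ≫ W.ι = (D.φ x₀ x₁ h v).1

lemma factors_iff {Z : Scheme.{u}} (W : Z.Opens) {T : Scheme.{u}} (t : T ⟶ Z) :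
    (∃ a : T ⟶ (W : Scheme.{u}), a ≫ W.ι = t) ↔ ∀ x : T, t x ∈ W := by
  constructor
  · rintro ⟨a, rfl⟩ x
    rw [Scheme.Hom.comp_apply]
    exact (a x).2
  · intro h
    refine ⟨IsOpenImmersion.lift W.ι t ?_, IsOpenImmersion.lift_fac _ _ _⟩
    rintro _ ⟨x, rfl⟩
    rw [Scheme.Opens.range_ι]
    exact h x

variable (D : SchDD p) (W : D.obj.left.Opens) (hW : Stable D W)

/-- a point of `W` over `x₀`, seen in `D.obj` -/
def up {T : Scheme.{u}} {x₀ : T ⟶ X} (v : Lifts (Over.mk (W.ι ≫ D.obj.hom)) x₀) : Lifts D.obj x₀ :=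
  ⟨v.1 ≫ W.ι, by rw [Category.assoc]; exact v.2⟩

include hW in
lemma exists_resMap {T : Scheme.{u}} (x₀ x₁ : T ⟶ X) (h : x₀ ≫ p = x₁ ≫ p)
    (v : Lifts (Over.mk (W.ι ≫ D.obj.hom)) x₀) :
    ∃ w : Lifts (Over.mk (W.ι ≫ D.obj.hom)) x₁, w.1 ≫ W.ι = (D.φ x₀ x₁ h (up D W v)).1 := by
  obtain ⟨c, hc⟩ := hW x₀ x₁ h (up D W v) v.1 rfl
  refine ⟨⟨c, ?_⟩, hc⟩
  change c ≫ W.ι ≫ D.obj.hom = _
  rw [← Category.assoc, hc]
  exact (D.φ x₀ x₁ h _).2

/-- the restricted gluing map -/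
noncomputable def resMap {T : Scheme.{u}} (x₀ x₁ : T ⟶ X) (h : x₀ ≫ p = x₁ ≫ p)
    (v : Lifts (Over.mk (W.ι ≫ D.obj.hom)) x₀) : Lifts (Over.mk (W.ι ≫ D.obj.hom)) x₁ :=
  (exists_resMap D W hW x₀ x₁ h v).choose

lemma resMap_spec {T : Scheme.{u}} (x₀ x₁ : T ⟶ X) (h : x₀ ≫ p = x₁ ≫ p)
    (v : Lifts (Over.mk (W.ι ≫ D.obj.hom)) x₀) :
    up D W (resMap D W hW x₀ x₁ h v) = D.φ x₀ x₁ h (up D W v) :=
  Subtype.ext (exists_resMap D W hW x₀ x₁ h v).choose_spec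

lemma up_injective {T : Scheme.{u}} {x₀ : T ⟶ X} :
    Function.Injective (up D W (x₀ := x₀)) := by
  intro a b hab
  apply Subtype.ext
  rw [← cancel_mono W.ι]
  exact congrArg Subtype.val hab

/-- the restriction of a descent datum to a stable open -/
noncomputable def restrict : SchDD p where
  obj := Over.mk (W.ι ≫ D.obj.hom)
  φ T x₀ x₁ h :=
    { toFun := resMap D W hW x₀ x₁ h
      invFun := resMap D W hW x₁ x₀ h.symm
      left_inv := fun v => by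
        apply up_injective D W
        rw [resMap_spec, resMap_spec, D.φ_comp, D.φ_self]
      right_inv := fun v => by
        apply up_injective D W
        rw [resMap_spec, resMap_spec, D.φ_comp, D.φ_self] }
  φ_natural T T' g x₀ x₁ h h' v v' hv' := by
    change (resMap D W hW (g ≫ x₀) (g ≫ x₁) h' v').1 = g ≫ (resMap D W hW x₀ x₁ h v).1
    rw [← cancel_mono W.ι, Category.assoc]
    have e1 := congrArg Subtype.val (resMap_spec D W hW (g ≫ x₀) (g ≫ x₁) h' v')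
    have e2 := congrArg Subtype.val (resMap_spec D W hW x₀ x₁ h v)
    change (resMap D W hW (g ≫ x₀) (g ≫ x₁) h' v').1 ≫ W.ι = _ at e1
    change (resMap D W hW x₀ x₁ h v).1 ≫ W.ι = _ at e2
    rw [e1, e2]
    exact D.φ_natural g x₀ x₁ h h' (up D W v) (up D W v') (by simp [up, hv'])
  φ_self T x v := by
    apply up_injective D W
    change up D W (resMap D W hW x x rfl v) = _
    rw [resMap_spec, D.φ_self]
  φ_comp T x₀ x₁ x₂ h₀₁ h₁₂ v := by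
    apply up_injective D W
    change up D W (resMap D W hW x₁ x₂ h₁₂ (resMap D W hW x₀ x₁ h₀₁ v)) =
      up D W (resMap D W hW x₀ x₂ _ v)
    rw [resMap_spec, resMap_spec, resMap_spec, D.φ_comp]

lemma restrict_spec {T : Scheme.{u}} (x₀ x₁ : T ⟶ X) (h : x₀ ≫ p = x₁ ≫ p)
    (v : Lifts (restrict D W hW).obj x₀) :
    ((restrict D W hW).φ x₀ x₁ h v).1 ≫ W.ι = (D.φ x₀ x₁ h (up D W v)).1 :=
  congrArg Subtype.val (resMap_spec D W hW x₀ x₁ h v)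

/-- the inclusion of the restricted datum -/
noncomputable def resIncl : restrict D W hW ⟶ D :=
  ⟨Over.homMk W.ι rfl, fun T x₀ x₁ h v w hw => by
    have hw' : w = up D W v := Subtype.ext hw
    rw [hw']
    exact (restrict_spec D W hW x₀ x₁ h v).symm⟩

/-- the restricted datum in family form -/
noncomputable abbrev RF : SchDDFam (fun _ : PUnit.{u + 1} => p) :=
  (SchDDFam.ofSchDD.{u, u} p).obj (restrict D W hW)

/-- `(Y, q, e)` solves the descent problem on the stable open `W` -/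
def IsSolOn {Y : Scheme.{u}} (q : Y ⟶ S) (e : (W : Scheme.{u}) ⟶ Y) : Prop :=
  IsESol (RF D W hW) q (fun _ => e)

variable {D W hW}

lemma IsSolOn.isPullback {Y : Scheme.{u}} {q : Y ⟶ S} {e : (W : Scheme.{u}) ⟶ Y}
    (h : IsSolOn D W hW q e) : IsPullback e (W.ι ≫ D.obj.hom) q p := h.1 ⟨⟩

lemma IsSolOn.compat {Y : Scheme.{u}} {q : Y ⟶ S} {e : (W : Scheme.{u}) ⟶ Y}
    (h : IsSolOn D W hW q e) {T : Scheme.{u}} (x₀ x₁ : T ⟶ X) (hx : x₀ ≫ p = x₁ ≫ p)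
    (v : Lifts (restrict D W hW).obj x₀) :
    ((restrict D W hW).φ x₀ x₁ hx v).1 ≫ e = v.1 ≫ e :=
  h.2 (i := ⟨⟩) (j := ⟨⟩) x₀ x₁ hx v

lemma IsSolOn.mk' {Y : Scheme.{u}} {q : Y ⟶ S} {e : (W : Scheme.{u}) ⟶ Y}
    (h1 : IsPullback e (W.ι ≫ D.obj.hom) q p)
    (h2 : ∀ {T : Scheme.{u}} (x₀ x₁ : T ⟶ X) (hx : x₀ ≫ p = x₁ ≫ p)
      (v : Lifts (restrict D W hW).obj x₀), ((restrict D W hW).φ x₀ x₁ hx v).1 ≫ e = v.1 ≫ e) :
    IsSolOn D W hW q e :=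
  ⟨fun _ => h1, fun _ _ _ x₀ x₁ hx v => h2 x₀ x₁ hx v⟩

variable [Surjective p] [Flat p] [QuasiCompact p]

lemma hf_single : Presieve.ofArrows (fun _ : PUnit.{u + 1} => X) (fun _ => p) ∈
    Scheme.fpqcPrecoverage S := by
  rw [Presieve.ofArrows_pUnit]
  exact p.singleton_mem_fpqcPrecoverage

lemma IsSolOn.mem_fpqc {Y : Scheme.{u}} {q : Y ⟶ S} {e : (W : Scheme.{u}) ⟶ Y}
    (h : IsSolOn D W hW q e) :
    Presieve.ofArrows (fun _ : PUnit.{u + 1} => (W : Scheme.{u})) (fun _ => e) ∈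
      Scheme.fpqcPrecoverage Y :=
  IsESol.mem_fpqc hf_single h

lemma IsSolOn.surjective {Y : Scheme.{u}} {q : Y ⟶ S} {e : (W : Scheme.{u}) ⟶ Y}
    (h : IsSolOn D W hW q e) : Function.Surjective e := by
  have : Surjective e := MorphismProperty.of_isPullback (P := @Surjective) h.isPullback.flip
    inferInstance
  exact this.surj

lemma IsSolOn.hom_ext {Y Z : Scheme.{u}} {q : Y ⟶ S} {e : (W : Scheme.{u}) ⟶ Y}
    (h : IsSolOn D W hW q e) {t t' : Y ⟶ Z} (ht : e ≫ t = e ≫ t') : t = t' :=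
  Groth.Agent.Lib.Helper81.DescZ.hom_ext_of_fpqc_family _ h.mem_fpqc (fun _ => ht)

lemma IsSolOn.desc {Y Z : Scheme.{u}} {q : Y ⟶ S} {e : (W : Scheme.{u}) ⟶ Y}
    (h : IsSolOn D W hW q e) (z : (W : Scheme.{u}) ⟶ Z)
    (hz : ∀ {T : Scheme.{u}} (x₀ x₁ : T ⟶ X) (hx : x₀ ≫ p = x₁ ≫ p)
      (v : Lifts (restrict D W hW).obj x₀), ((restrict D W hW).φ x₀ x₁ hx v).1 ≫ z = v.1 ≫ z) :
    ∃ t : Y ⟶ Z, e ≫ t = z := by
  obtain ⟨t, ht, -⟩ := IsESol.desc hf_single h (fun _ => z) (fun _ _ _ x₀ x₁ hx v => hz x₀ x₁ hx v)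
  exact ⟨t, ht ⟨⟩⟩

/-- two points of `W` with the same image in `Y` are related by the gluing bijection -/
lemma IsSolOn.eq_phi {Y : Scheme.{u}} {q : Y ⟶ S} {e : (W : Scheme.{u}) ⟶ Y}
    (h : IsSolOn D W hW q e) {T : Scheme.{u}} (a b : T ⟶ (W : Scheme.{u})) (hab : a ≫ e = b ≫ e) :
    ∃ hx : (a ≫ W.ι ≫ D.obj.hom) ≫ p = (b ≫ W.ι ≫ D.obj.hom) ≫ p,
      (D.φ _ _ hx ⟨a ≫ W.ι, by simp⟩).1 = b ≫ W.ι := by
  obtain ⟨hx, hb⟩ := IsESol.eq_phi h (i := ⟨⟩) (j := ⟨⟩) a b hab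
  have hx' : (a ≫ W.ι ≫ D.obj.hom) ≫ p = (b ≫ W.ι ≫ D.obj.hom) ≫ p := hx
  refine ⟨hx', ?_⟩
  have := restrict_spec D W hW (a ≫ W.ι ≫ D.obj.hom) (b ≫ W.ι ≫ D.obj.hom) hx' ⟨a, rfl⟩
  exact this.symm.trans (congrArg (· ≫ W.ι) hb)

/-- invariance of the composite `W ⟶ W' ⟶ Y'` -/
lemma IsSolOn.inv_of_le {W' : D.obj.left.Opens} {hW' : Stable D W'} {Y' : Scheme.{u}} {q' : Y' ⟶ S}
    {e' : (W' : Scheme.{u}) ⟶ Y'} (h' : IsSolOn D W' hW' q' e') (hle : W ≤ W')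
    {T : Scheme.{u}} (x₀ x₁ : T ⟶ X) (hx : x₀ ≫ p = x₁ ≫ p)
    (v : Lifts (restrict D W hW).obj x₀) :
    ((restrict D W hW).φ x₀ x₁ hx v).1 ≫ D.obj.left.homOfLE hle ≫ e' =
      v.1 ≫ D.obj.left.homOfLE hle ≫ e' := by
  let v' : Lifts (restrict D W' hW').obj x₀ := ⟨v.1 ≫ D.obj.left.homOfLE hle, by
    change (v.1 ≫ D.obj.left.homOfLE hle) ≫ W'.ι ≫ D.obj.hom = _
    rw [Category.assoc, Scheme.homOfLE_ι_assoc]
    exact v.2⟩
  have key := h'.compat x₀ x₁ hx v'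
  have e1 : ((restrict D W' hW').φ x₀ x₁ hx v').1 =
      ((restrict D W hW).φ x₀ x₁ hx v).1 ≫ D.obj.left.homOfLE hle := by
    rw [← cancel_mono W'.ι, restrict_spec, Category.assoc, Scheme.homOfLE_ι, restrict_spec]
    congr 2
    apply Subtype.ext
    simp [up, v']
  rw [e1, Category.assoc] at key
  rw [key, Category.assoc]

/-- saturation: a stable open of `W'` is saturated for `e'` -/
lemma IsSolOn.saturated {W' : D.obj.left.Opens} {hW' : Stable D W'} {Y' : Scheme.{u}} {q' : Y' ⟶ S}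
    {e' : (W' : Scheme.{u}) ⟶ Y'} (h' : IsSolOn D W' hW' q' e') (hW : Stable D W)
    {T : Scheme.{u}} (a b : T ⟶ (W' : Scheme.{u})) (hab : a ≫ e' = b ≫ e') (x : T)
    (hx : a x ∈ W'.ι ⁻¹ᵁ W) : b x ∈ W'.ι ⁻¹ᵁ W := by
  obtain ⟨hx₀, hφ⟩ := h'.eq_phi a b hab
  let T₁ : T.Opens := a ⁻¹ᵁ (W'.ι ⁻¹ᵁ W)
  have hfac : ∃ α : (T₁ : Scheme.{u}) ⟶ (W : Scheme.{u}), α ≫ W.ι = T₁.ι ≫ a ≫ W'.ι := by
    rw [factors_iff]
    intro y
    have : (T₁.ι y) ∈ T₁ := y.2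
    rw [Scheme.Hom.comp_apply, Scheme.Hom.comp_apply]
    exact this
  obtain ⟨α, hα⟩ := hfac
  have hx₁ : (T₁.ι ≫ a ≫ W'.ι ≫ D.obj.hom) ≫ p = (T₁.ι ≫ b ≫ W'.ι ≫ D.obj.hom) ≫ p := by
    rw [Category.assoc, hx₀]; simp only [Category.assoc]
  have hnat := D.φ_natural T₁.ι _ _ hx₀ hx₁ ⟨a ≫ W'.ι, by simp⟩
    ⟨T₁.ι ≫ a ≫ W'.ι, by simp⟩ rfl
  obtain ⟨c, hc⟩ := hW _ _ hx₁ ⟨T₁.ι ≫ a ≫ W'.ι, by simp⟩ α hα
  rw [hnat, hφ] at hc
  have hall := (factors_iff W (T₁.ι ≫ b ≫ W'.ι)).1 ⟨c, hc⟩ ⟨x, hx⟩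
  rw [Scheme.Hom.comp_apply, Scheme.Hom.comp_apply] at hall
  exact hall

lemma IsSolOn.exists_open {W' : D.obj.left.Opens} {hW' : Stable D W'} {Y' : Scheme.{u}} {q' : Y' ⟶ S}
    {e' : (W' : Scheme.{u}) ⟶ Y'} (h' : IsSolOn D W' hW' q' e') (hW : Stable D W) :
    ∃ U : Y'.Opens, e' ⁻¹ᵁ U = W'.ι ⁻¹ᵁ W := by
  obtain ⟨U, hU, -⟩ := Groth.Agent.S9839.result (fun _ : PUnit.{u + 1} => e') h'.mem_fpqc
    (fun _ => W'.ι ⁻¹ᵁ W) (by
      intro _ _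
      ext z
      constructor
      · intro hz
        exact h'.saturated hW _ _ pullback.condition z hz
      · intro hz
        exact h'.saturated hW _ _ pullback.condition.symm z hz)
  exact ⟨U, hU ⟨⟩⟩

lemma IsSolOn.of_open {W' : D.obj.left.Opens} {hW' : Stable D W'} {Y' : Scheme.{u}} {q' : Y' ⟶ S}
    {e' : (W' : Scheme.{u}) ⟶ Y'} (h' : IsSolOn D W' hW' q' e') (hW : Stable D W) (hle : W ≤ W')
    (U : Y'.Opens) (hU : e' ⁻¹ᵁ U = W'.ι ⁻¹ᵁ W) (e'' : (W : Scheme.{u}) ⟶ (U : Scheme.{u}))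
    (he'' : e'' ≫ U.ι = D.obj.left.homOfLE hle ≫ e') :
    IsSolOn D W hW (U.ι ≫ q') e'' := by
  apply IsSolOn.mk'
  · have hLeft : IsPullback e'' (D.obj.left.homOfLE hle) U.ι e' :=
      IsOpenImmersion.isPullback e'' (D.obj.left.homOfLE hle) U.ι e' he''.symm (by
        rw [Scheme.Opens.opensRange_ι, Scheme.opensRange_homOfLE, hU])
    have := hLeft.paste_vert h'.isPullback
    rwa [Scheme.homOfLE_ι_assoc] at this
  · intro T x₀ x₁ hx v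
    rw [← cancel_mono U.ι, Category.assoc, Category.assoc, he'']
    exact h'.inv_of_le hle x₀ x₁ hx v

lemma IsSolOn.trans_props {Y : Scheme.{u}} {q : Y ⟶ S} {e : (W : Scheme.{u}) ⟶ Y}
    (h : IsSolOn D W hW q e) {W' : D.obj.left.Opens} {hW' : Stable D W'} {Y' : Scheme.{u}}
    {q' : Y' ⟶ S} {e' : (W' : Scheme.{u}) ⟶ Y'} (h' : IsSolOn D W' hW' q' e') (hle : W ≤ W')
    (t : Y ⟶ Y') (ht : e ≫ t = D.obj.left.homOfLE hle ≫ e') :
    ∃ _ : IsOpenImmersion t, e' ⁻¹ᵁ t.opensRange = W'.ι ⁻¹ᵁ W ∧ t ≫ q' = q := by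
  obtain ⟨U, hU⟩ := h'.exists_open hW
  have hfac : ∃ e'' : (W : Scheme.{u}) ⟶ (U : Scheme.{u}),
      e'' ≫ U.ι = D.obj.left.homOfLE hle ≫ e' := by
    rw [factors_iff]
    intro x
    have : (D.obj.left.homOfLE hle x) ∈ e' ⁻¹ᵁ U := by
      rw [hU]
      change W'.ι (D.obj.left.homOfLE hle x) ∈ W
      rw [← Scheme.Hom.comp_apply, Scheme.homOfLE_ι]
      exact x.2
    simpa [Scheme.Hom.comp_apply] using this
  obtain ⟨e'', he''⟩ := hfac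
  have hsol := h'.of_open hW hle U hU e'' he''
  obtain ⟨s, hs⟩ := h.desc e'' (fun x₀ x₁ hx v => hsol.compat x₀ x₁ hx v)
  obtain ⟨s', hs'⟩ := hsol.desc e (fun x₀ x₁ hx v => h.compat x₀ x₁ hx v)
  have h1 : s ≫ s' = 𝟙 _ := h.hom_ext (by rw [← Category.assoc, hs, hs', Category.comp_id])
  have h2 : s' ≫ s = 𝟙 _ := hsol.hom_ext (by rw [← Category.assoc, hs', hs, Category.comp_id])
  have hiso : IsIso s := ⟨s', h1, h2⟩
  have hts : t = s ≫ U.ι := h.hom_ext (by rw [ht, ← Category.assoc, hs, he''])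
  subst hts
  refine ⟨inferInstance, ?_, ?_⟩
  · rw [Scheme.Hom.opensRange_comp_of_isIso, Scheme.Opens.opensRange_ι, hU]
  · apply h.hom_ext
    rw [← Category.assoc, ht, Category.assoc, h'.isPullback.w, h.isPullback.w]
    simp only [Category.assoc, Scheme.homOfLE_ι_assoc]

section glue

lemma glued_exists_ld {J : Type u} [Preorder J] (F : J ⥤ Scheme.{u})
    [∀ {i j} (f : i ⟶ j), IsOpenImmersion (F.map f)] [(F ⋙ Scheme.forget).IsLocallyDirected] :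
    ∃ (Y : Scheme.{u}) (g : ∀ i, F.obj i ⟶ Y), (∀ i, IsOpenImmersion (g i)) ∧
      (∀ {i j : J} (f : i ⟶ j), F.map f ≫ g j = g i) ∧ (∀ y : Y, ∃ i x, g i x = y) ∧
      (∀ {i j : J} (xi : F.obj i) (xj : F.obj j), g i xi = g j xj →
        ∃ (k : J) (fi : k ⟶ i) (fj : k ⟶ j) (x : F.obj k), F.map fi x = xi ∧ F.map fj x = xj) ∧
      (∀ {Z : Scheme.{u}} (z : ∀ i, F.obj i ⟶ Z), (∀ {i j : J} (f : i ⟶ j), F.map f ≫ z j = z i) →
        ∃ t : Y ⟶ Z, ∀ i, g i ≫ t = z i) := by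
  refine ⟨colimit F, colimit.ι F, fun i => inferInstance, fun f => colimit.w F f,
    fun y => Scheme.IsLocallyDirected.ι_jointly_surjective F y,
    fun xi xj h => (Scheme.IsLocallyDirected.ι_eq_ι_iff F).mp h, fun z hz => ?_⟩
  exact ⟨colimit.desc F ⟨_, ⟨z, fun i j f => by simpa using hz f⟩⟩, fun i => colimit.ι_desc _ _⟩

end glue

/-- good opens: stable, with a solution -/
def Good (D : SchDD p) (W : D.obj.left.Opens) : Prop :=
  ∃ hW : Stable D W, ∃ (Y : Scheme.{u}) (q : Y ⟶ S) (e : (W : Scheme.{u}) ⟶ Y), IsSolOn D W hW q e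

omit [Surjective p] [Flat p] [QuasiCompact p] in
lemma Stable.inf {W₁ W₂ : D.obj.left.Opens} (h₁ : Stable D W₁) (h₂ : Stable D W₂) :
    Stable D (W₁ ⊓ W₂) := by
  intro T x₀ x₁ h v a ha
  obtain ⟨c₁, hc₁⟩ := h₁ x₀ x₁ h v (a ≫ D.obj.left.homOfLE inf_le_left) (by simp [ha])
  obtain ⟨c₂, hc₂⟩ := h₂ x₀ x₁ h v (a ≫ D.obj.left.homOfLE inf_le_right) (by simp [ha])
  rw [factors_iff]
  intro x
  exact ⟨(factors_iff W₁ _).1 ⟨c₁, hc₁⟩ x, (factors_iff W₂ _).1 ⟨c₂, hc₂⟩ x⟩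

lemma Good.of_le {W' : D.obj.left.Opens} (h' : Good D W') (hW : Stable D W) (hle : W ≤ W') :
    Good D W := by
  obtain ⟨hW', Y', q', e', hsol'⟩ := h'
  obtain ⟨U, hU⟩ := hsol'.exists_open hW
  have hfac : ∃ e'' : (W : Scheme.{u}) ⟶ (U : Scheme.{u}),
      e'' ≫ U.ι = D.obj.left.homOfLE hle ≫ e' := by
    rw [factors_iff]
    intro x
    have : (D.obj.left.homOfLE hle x) ∈ e' ⁻¹ᵁ U := by
      rw [hU]
      change W'.ι (D.obj.left.homOfLE hle x) ∈ W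
      rw [← Scheme.Hom.comp_apply, Scheme.homOfLE_ι]
      exact x.2
    simpa [Scheme.Hom.comp_apply] using this
  obtain ⟨e'', he''⟩ := hfac
  exact ⟨hW, _, _, _, hsol'.of_open hW hle U hU e'' he''⟩

theorem effective_of_good_cover (D : SchDD p)
    (hcov : ∀ v : D.obj.left, ∃ W : D.obj.left.Opens, v ∈ W ∧ Good D W) :
    ∃ U : Over S, Nonempty ((toDD p).obj U ≅ D) := by
  let J := {W : D.obj.left.Opens // Good D W}
  have hG : ∀ W : J, Good D W.1 := fun W => W.2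
  choose hS Yc qc ec hc using hG
  have htr : ∀ {W W' : J} (h : W ≤ W'), ∃ t : Yc W ⟶ Yc W',
      ec W ≫ t = D.obj.left.homOfLE h ≫ ec W' := fun {W W'} h =>
    (hc W).desc _ (fun x₀ x₁ hx v => (hc W').inv_of_le h x₀ x₁ hx v)
  let tr : ∀ {W W' : J} (h : W ≤ W'), Yc W ⟶ Yc W' := fun h => (htr h).choose
  have htr1 : ∀ {W W' : J} (h : W ≤ W'), ec W ≫ tr h = D.obj.left.homOfLE h ≫ ec W' :=
    fun h => (htr h).choose_spec
  have hprops : ∀ {W W' : J} (h : W ≤ W'), ∃ _ : IsOpenImmersion (tr h),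
      ec W' ⁻¹ᵁ (tr h).opensRange = W'.1.ι ⁻¹ᵁ W.1 ∧ tr h ≫ qc W' = qc W :=
    fun h => (hc _).trans_props (hc _) h (tr h) (htr1 h)
  let F : J ⥤ Scheme.{u} :=
    { obj := Yc
      map := fun {W W'} a => tr (leOfHom a)
      map_id := fun W => by
        apply (hc W).hom_ext
        rw [htr1]
        simp
      map_comp := fun {W W' W''} a b => by
        apply (hc W).hom_ext
        rw [htr1, ← Category.assoc, htr1, Category.assoc, htr1, ← Category.assoc]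
        simp }
  haveI hFopen : ∀ {i j : J} (f : i ⟶ j), IsOpenImmersion (F.map f) := fun f =>
    (hprops (leOfHom f)).1
  have hsurj : ∀ W : J, Function.Surjective (ec W) := fun W => (hc W).surjective
  haveI : (F ⋙ Scheme.forget).IsLocallyDirected := by
    constructor
    intro W₁ W₂ W₃ f₁ f₂ y₁ y₂ hy
    change (tr (leOfHom f₁)) y₁ = (tr (leOfHom f₂)) y₂ at hy
    obtain ⟨w₁, rfl⟩ := hsurj W₁ y₁
    obtain ⟨w₂, rfl⟩ := hsurj W₂ y₂
    have e1 : (tr (leOfHom f₁)) (ec W₁ w₁) = ec W₃ (D.obj.left.homOfLE (leOfHom f₁) w₁) := by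
      rw [← Scheme.Hom.comp_apply, htr1, Scheme.Hom.comp_apply]
    have e2 : (tr (leOfHom f₂)) (ec W₂ w₂) = ec W₃ (D.obj.left.homOfLE (leOfHom f₂) w₂) := by
      rw [← Scheme.Hom.comp_apply, htr1, Scheme.Hom.comp_apply]
    rw [e1, e2] at hy
    -- `w₁` lies in `W₂`
    haveI := (hprops (leOfHom f₂)).1
    have hmem : D.obj.left.homOfLE (leOfHom f₁) w₁ ∈ ec W₃ ⁻¹ᵁ (tr (leOfHom f₂)).opensRange := by
      change ec W₃ _ ∈ Set.range _
      rw [hy]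
      exact ⟨ec W₂ w₂, e2⟩
    rw [(hprops (leOfHom f₂)).2.1] at hmem
    have hmem' : W₁.1.ι w₁ ∈ W₂.1 := by
      have : W₃.1.ι (D.obj.left.homOfLE (leOfHom f₁) w₁) ∈ W₂.1 := hmem
      rwa [← Scheme.Hom.comp_apply, Scheme.homOfLE_ι] at this
    let W₀ : J := ⟨W₁.1 ⊓ W₂.1, Good.of_le W₁.2 ((hS W₁).inf (hS W₂)) inf_le_left⟩
    have h01 : W₀ ≤ W₁ := (inf_le_left : W₁.1 ⊓ W₂.1 ≤ W₁.1)
    have h02 : W₀ ≤ W₂ := (inf_le_right : W₁.1 ⊓ W₂.1 ≤ W₂.1)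
    have hw0 : W₁.1.ι w₁ ∈ W₀.1 := ⟨w₁.2, hmem'⟩
    let w₀ : (W₀.1 : Scheme.{u}) := ⟨W₁.1.ι w₁, hw0⟩
    have hw01 : D.obj.left.homOfLE h01 w₀ = w₁ := by
      apply W₁.1.ι.isOpenEmbedding.injective
      rw [← Scheme.Hom.comp_apply, Scheme.homOfLE_ι]
      rfl
    refine ⟨W₀, homOfLE h01, homOfLE h02, ec W₀ w₀, ?_, ?_⟩
    · change (tr h01) (ec W₀ w₀) = ec W₁ w₁
      rw [← Scheme.Hom.comp_apply, htr1, Scheme.Hom.comp_apply, hw01]
    · change (tr h02) (ec W₀ w₀) = ec W₂ w₂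
      haveI := (hprops (leOfHom f₂)).1
      apply (tr (leOfHom f₂)).isOpenEmbedding.injective
      have e3 : ec W₀ ≫ tr h02 ≫ tr (leOfHom f₂) =
          D.obj.left.homOfLE (h02.trans (leOfHom f₂)) ≫ ec W₃ := by
        rw [← Category.assoc, htr1, Category.assoc, htr1, ← Category.assoc]
        simp
      rw [e2, ← hy, ← Scheme.Hom.comp_apply, ← Scheme.Hom.comp_apply, e3, Scheme.Hom.comp_apply]
      congr 1
      apply W₃.1.ι.isOpenEmbedding.injective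
      simp only [← Scheme.Hom.comp_apply, Scheme.homOfLE_ι]
      rfl
  obtain ⟨Y, g0, hgopen0, hgcomp0, hgsurj0, hgeq0, hgdesc0⟩ := glued_exists_ld F
  let g : ∀ W : J, Yc W ⟶ Y := g0
  have hgopen : ∀ W, IsOpenImmersion (g W) := hgopen0
  have hgcomp : ∀ {W W' : J} (h : W ≤ W'), tr h ≫ g W' = g W := fun h => hgcomp0 (homOfLE h)
  have hgsurj : ∀ y : Y, ∃ (W : J) (x : Yc W), g W x = y := hgsurj0
  have hgeq : ∀ {W W' : J} (x : Yc W) (x' : Yc W'), g W x = g W' x' →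
      ∃ (W₀ : J) (h : W₀ ≤ W) (h' : W₀ ≤ W') (x₀ : Yc W₀), tr h x₀ = x ∧ tr h' x₀ = x' := by
    intro W W' x x' hxx
    obtain ⟨W₀, f, f', x₀, h1, h2⟩ := hgeq0 x x' hxx
    exact ⟨W₀, leOfHom f, leOfHom f', x₀, h1, h2⟩
  obtain ⟨q, hq0⟩ := hgdesc0 (fun W => qc W) (fun f => (hprops (leOfHom f)).2.2)
  have hq : ∀ W : J, g W ≫ q = qc W := hq0
  -- the cover of `V` by the good opens
  have hcov' : TopologicalSpace.IsOpenCover (fun W : J => W.1) := by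
    rw [TopologicalSpace.IsOpenCover, eq_top_iff]
    intro v _
    obtain ⟨W, hv, hW⟩ := hcov v
    exact TopologicalSpace.Opens.mem_iSup.mpr ⟨⟨W, hW⟩, hv⟩
  let 𝒲 := D.obj.left.openCoverOfIsOpenCover (fun W : J => W.1) hcov'
  have hinf : ∀ W₁ W₂ : J, Good D (W₁.1 ⊓ W₂.1) := fun W₁ W₂ =>
    Good.of_le W₁.2 ((hS W₁).inf (hS W₂)) inf_le_left
  have hcompat : ∀ W₁ W₂ : J, pullback.fst (𝒲.f W₁) (𝒲.f W₂) ≫ ec W₁ ≫ g W₁ =
      pullback.snd (𝒲.f W₁) (𝒲.f W₂) ≫ ec W₂ ≫ g W₂ := by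
    intro W₁ W₂
    let W₀ : J := ⟨W₁.1 ⊓ W₂.1, hinf W₁ W₂⟩
    have h01 : W₀ ≤ W₁ := (inf_le_left : W₁.1 ⊓ W₂.1 ≤ W₁.1)
    have h02 : W₀ ≤ W₂ := (inf_le_right : W₁.1 ⊓ W₂.1 ≤ W₂.1)
    have hpb := isPullback_opens_inf W₁.1 W₂.1
    rw [← cancel_epi hpb.isoPullback.hom]
    change hpb.isoPullback.hom ≫ pullback.fst W₁.1.ι W₂.1.ι ≫ _ =
      hpb.isoPullback.hom ≫ pullback.snd W₁.1.ι W₂.1.ι ≫ _
    rw [hpb.isoPullback_hom_fst_assoc, hpb.isoPullback_hom_snd_assoc]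
    have e1 := htr1 h01
    have e2 := htr1 h02
    rw [← reassoc_of% e1, ← reassoc_of% e2, hgcomp, hgcomp]
  let e : D.obj.left ⟶ Y := 𝒲.glueMorphisms (fun W => ec W ≫ g W) hcompat
  have he : ∀ W : J, W.1.ι ≫ e = ec W ≫ g W := fun W =>
    Scheme.Cover.ι_glueMorphisms 𝒲 _ hcompat W
  have hE1 : e ≫ q = D.obj.hom ≫ p := by
    apply Scheme.Cover.hom_ext 𝒲
    intro (W : J)
    change W.1.ι ≫ e ≫ q = W.1.ι ≫ D.obj.hom ≫ p
    rw [reassoc_of% he, hq, (hc W).isPullback.w, Category.assoc]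
  apply Groth.Agent.Lib.Helper81.DescMain.single_of_fam
  refine isEffective_of_isESol _ q (fun _ => e) ⟨fun _ => ?_, fun T _ _ x₀ x₁ hx v => ?_⟩
  · -- cartesian
    let 𝒢 : Y.OpenCover := Scheme.Cover.mkOfCovers J Yc g hgsurj hgopen
    apply Scheme.isPullback_of_openCover e D.obj.hom q p 𝒢
    intro (W : J)
    change IsPullback (pullback.snd e (g W)) (pullback.fst e (g W) ≫ D.obj.hom) (g W ≫ q) p
    haveI := hgopen W
    have hLeft : IsPullback (ec W) W.1.ι (g W) e := by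
      apply IsOpenImmersion.isPullback (ec W) W.1.ι (g W) e (he W)
      rw [Scheme.Opens.opensRange_ι]
      ext v
      constructor
      · rintro ⟨y, hy⟩
        obtain ⟨W', hv', hW'⟩ := hcov v
        let W'' : J := ⟨W', hW'⟩
        let w' : (W''.1 : Scheme.{u}) := ⟨v, hv'⟩
        have hv : e v = g W'' (ec W'' w') := by
          have : v = W''.1.ι w' := rfl
          rw [this, ← Scheme.Hom.comp_apply, he, Scheme.Hom.comp_apply]
        obtain ⟨W₀, h0', h0, y₀, hy1, hy2⟩ := hgeq (ec W'' w') y (by rw [← hv, hy])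
        haveI := (hprops h0').1
        have hmem : w' ∈ ec W'' ⁻¹ᵁ (tr h0').opensRange := ⟨y₀, hy1⟩
        rw [(hprops h0').2.1] at hmem
        exact h0 hmem
      · intro hv
        let w : (W.1 : Scheme.{u}) := ⟨v, hv⟩
        refine ⟨ec W w, ?_⟩
        have : v = W.1.ι w := rfl
        rw [this, ← Scheme.Hom.comp_apply, ← Scheme.Hom.comp_apply, he]
    have hBig : IsPullback (ec W) (W.1.ι ≫ D.obj.hom) (g W ≫ q) p := by
      rw [hq]; exact (hc W).isPullback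
    exact IsPullback.of_iso hBig hLeft.flip.isoPullback (Iso.refl _) (Iso.refl _) (Iso.refl _)
      (by simp) (by simp) (by simp) (by simp)
  · -- compatibility
    have hv2 : v.1 ≫ D.obj.hom = x₀ := v.2
    have hcovT : TopologicalSpace.IsOpenCover (fun W : J => v.1 ⁻¹ᵁ W.1) := by
      rw [TopologicalSpace.IsOpenCover, eq_top_iff]
      intro t _
      obtain ⟨W, hv, hW⟩ := hcov (v.1 t)
      exact TopologicalSpace.Opens.mem_iSup.mpr ⟨⟨W, hW⟩, hv⟩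
    apply Scheme.Cover.hom_ext (T.openCoverOfIsOpenCover _ hcovT)
    intro (W : J)
    change (v.1 ⁻¹ᵁ W.1).ι ≫ (D.φ x₀ x₁ hx v).1 ≫ e = (v.1 ⁻¹ᵁ W.1).ι ≫ v.1 ≫ e
    set j := (v.1 ⁻¹ᵁ W.1).ι with hj
    obtain ⟨a, ha⟩ : ∃ a : ((v.1 ⁻¹ᵁ W.1 : T.Opens) : Scheme.{u}) ⟶ (W.1 : Scheme.{u}),
        a ≫ W.1.ι = j ≫ v.1 := by
      rw [factors_iff]
      intro t
      rw [Scheme.Hom.comp_apply]
      exact t.2
    have hx' : (j ≫ x₀) ≫ p = (j ≫ x₁) ≫ p := by rw [Category.assoc, hx, Category.assoc]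
    have hnat := D.φ_natural j x₀ x₁ hx hx' v ⟨j ≫ v.1, by rw [Category.assoc, hv2]⟩ rfl
    let a' : Lifts (restrict D W.1 (hS W)).obj (j ≫ x₀) := ⟨a, by
      change a ≫ W.1.ι ≫ D.obj.hom = _
      rw [reassoc_of% ha, hv2]⟩
    have hspec := restrict_spec D W.1 (hS W) (j ≫ x₀) (j ≫ x₁) hx' a'
    have hup : up D W.1 a' = ⟨j ≫ v.1, by rw [Category.assoc, hv2]⟩ := Subtype.ext ha
    rw [hup, hnat] at hspec
    have hcW := (hc W).compat (j ≫ x₀) (j ≫ x₁) hx' a'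
    rw [← Category.assoc, ← hspec, Category.assoc, he, ← Category.assoc, hcW, Category.assoc,
      ← he, ← Category.assoc]
    change (a ≫ W.1.ι) ≫ e = _
    rw [ha, Category.assoc]

omit [Surjective p] [Flat p] [QuasiCompact p] in
/-- the image of an open immersion of descent data with effective source is a good open -/
theorem good_of_hom (D D' : SchDD p) (j : D' ⟶ D) [IsOpenImmersion j.hom.left]
    (heff : ∃ U' : Over S, Nonempty ((toDD p).obj U' ≅ D')) : Good D j.hom.left.opensRange := by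
  set W := j.hom.left.opensRange with hWdef
  let k : D'.obj.left ≅ (W : Scheme.{u}) := j.hom.left.isoOpensRange
  have hk1 : k.hom ≫ W.ι = j.hom.left := j.hom.left.isoOpensRange_hom_ι
  have hk2 : k.inv ≫ j.hom.left = W.ι := by rw [← hk1, Iso.inv_hom_id_assoc]
  have hjw : j.hom.left ≫ D.obj.hom = D'.obj.hom := Over.w j.hom
  have hStable : Stable D W := by
    intro T x₀ x₁ h v a ha
    have hv2 : v.1 ≫ D.obj.hom = x₀ := v.2
    let v' : Lifts D'.obj x₀ := ⟨a ≫ k.inv, by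
      rw [← hjw, Category.assoc, reassoc_of% hk2, reassoc_of% ha, hv2]⟩
    have hcomm := j.comm x₀ x₁ h v' v (by simp [v', hk2, ha])
    exact ⟨(D'.φ x₀ x₁ h v').1 ≫ k.hom, by rw [Category.assoc, hk1, hcomm]⟩
  have heff' : ((SchDDFam.ofSchDD.{u, u} p).obj D').IsEffective :=
    Groth.Agent.Lib.Helper81.DescMain.fam_of_single p _ heff
  obtain ⟨Y, q, e₀, hpb, hcompat⟩ := exists_isESol_of_isEffective _ heff'
  have hpb' : IsPullback (e₀ ⟨⟩) D'.obj.hom q p := hpb ⟨⟩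
  refine ⟨hStable, Y, q, k.inv ≫ e₀ ⟨⟩, IsSolOn.mk' ?_ ?_⟩
  · refine IsPullback.of_iso hpb' k (Iso.refl _) (Iso.refl _) (Iso.refl _) ?_ ?_ ?_ ?_
    · simp
    · simp [reassoc_of% hk1, hjw]
    · simp
    · simp
  · intro T x₀ x₁ hx v
    have hv2 : v.1 ≫ W.ι ≫ D.obj.hom = x₀ := v.2
    let v' : Lifts D'.obj x₀ := ⟨v.1 ≫ k.inv, by
      rw [← hjw, Category.assoc, reassoc_of% hk2, hv2]⟩
    have hc' : (D'.φ x₀ x₁ hx v').1 ≫ e₀ ⟨⟩ = v'.1 ≫ e₀ ⟨⟩ :=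
      hcompat (i := ⟨⟩) (j := ⟨⟩) x₀ x₁ hx v'
    have e1 : ((restrict D W hStable).φ x₀ x₁ hx v).1 ≫ k.inv = (D'.φ x₀ x₁ hx v').1 := by
      rw [← cancel_mono j.hom.left, Category.assoc, hk2, restrict_spec]
      exact j.comm x₀ x₁ hx v' (up D W v) (by simp [up, v', hk2])
    rw [← Category.assoc, e1, hc', Category.assoc]

end Groth.Agent.Lib.Helper81.DescLoc
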