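import Mathlib
import Groth.Prelude.Def_DescFam
import Groth.Agent.Lib.Helper81.DescFin

set_option autoImplicit false
set_option backward.isDefEq.respectTransparency false
open CategoryTheory CategoryTheory.Limits AlgebraicGeometry Opposite Desc
universe u
namespace Groth.Agent.Lib.Helper81.DescFinB

open Groth.Agent.Lib.Helper81.DescFin Groth.Agent.Lib.Helper81.DescQA

/-- bound on the number of geometric points in the fibres -/
def FibBound {X Y : Scheme.{u}} (p : X ⟶ Y) (d : ℕ) : Prop :=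
  ∀ (k : Type u) [Field k] [IsAlgClosed k] (y : Spec (CommRingCat.of k) ⟶ Y),
    Set.encard {x : Spec (CommRingCat.of k) ⟶ X | x ≫ p = y} ≤ d

lemma FibBound.baseChange {X Y Y' : Scheme.{u}} {p : X ⟶ Y} {d : ℕ} (h : FibBound p d) (j : Y' ⟶ Y) :
    FibBound (pullback.snd p j) d := by
  intro k _ _ y
  refine le_trans ?_ (h k (y ≫ j))
  apply Set.encard_le_encard_of_injOn (f := fun x => x ≫ pullback.fst p j)
  · intro x hx
    change (x ≫ pullback.fst p j) ≫ p = y ≫ j
    rw [Category.assoc, pullback.condition, ← Category.assoc]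
    exact congrArg (fun z => z ≫ j) hx
  · intro x hx x' hx' hxx'
    apply pullback.hom_ext
    · exact hxx'
    · exact hx.trans hx'.symm

/-- a geometric point over a point of the fibre of a finite morphism -/
lemma exists_geom_point {T V : Scheme.{u}} (P : T ⟶ V) [IsFinite P] {k : Type u} [Field k]
    [IsAlgClosed k] (vb : Spec (CommRingCat.of k) ⟶ V) (z : T)
    (hz : P z = vb (IsLocalRing.closedPoint k)) :
    ∃ zb : Spec (CommRingCat.of k) ⟶ T, zb ≫ P = vb ∧ zb (IsLocalRing.closedPoint k) = z := by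
  obtain ⟨w, hw1, hw2⟩ := Scheme.Pullback.exists_preimage_pullback (f := P) (g := vb) z
    (IsLocalRing.closedPoint k) hz
  have hdisc : _root_.IsDiscrete ((pullback.snd P vb) ⁻¹' {IsLocalRing.closedPoint k}) :=
    (pullback.snd P vb).isDiscrete_preimage_singleton _
  have huniv : (pullback.snd P vb) ⁻¹' {IsLocalRing.closedPoint k} = Set.univ := by
    ext a
    simp only [Set.mem_preimage, Set.mem_singleton_iff, Set.mem_univ, iff_true]
    exact Subsingleton.elim _ _
  rw [huniv, isDiscrete_univ_iff] at hdisc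
  have hcl : IsClosed ({w} : Set ↥(pullback P vb)) := isClosed_discrete _
  refine ⟨pointOfClosedPoint (pullback.snd P vb) w hcl ≫ pullback.fst P vb, ?_, ?_⟩
  · rw [Category.assoc, pullback.condition, ← Category.assoc, pointOfClosedPoint_comp,
      Category.id_comp]
  · rw [Scheme.Hom.comp_apply, pointOfClosedPoint_apply, hw1]

lemma fibre_encard_le {X Y : Scheme.{u}} {p : X ⟶ Y} [IsFinite p] {d : ℕ} (h : FibBound p d)
    {V : Scheme.{u}} (w : V ⟶ Y) (v : V) :
    ((pullback.snd p w) ⁻¹' {v}).encard ≤ d := by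
  let k := AlgebraicClosure (V.residueField v)
  let vb : Spec (CommRingCat.of k) ⟶ V :=
    Spec.map (CommRingCat.ofHom (algebraMap (V.residueField v) k)) ≫ V.fromSpecResidueField v
  have hvb : vb (IsLocalRing.closedPoint k) = v := by
    simp only [vb, Scheme.Hom.comp_apply]
    exact Scheme.fromSpecResidueField_apply v _
  have hex : ∀ z : ((pullback.snd p w) ⁻¹' {v} : Set ↥(pullback p w)),
      ∃ zb : Spec (CommRingCat.of k) ⟶ pullback p w,
        zb ≫ pullback.snd p w = vb ∧ zb (IsLocalRing.closedPoint k) = z.1 := fun z =>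
    exists_geom_point (pullback.snd p w) vb z.1 (by rw [hvb]; exact z.2)
  choose zb hzb1 hzb2 using hex
  let e : ((pullback.snd p w) ⁻¹' {v} : Set ↥(pullback p w)) ↪
      ({x : Spec (CommRingCat.of k) ⟶ X | x ≫ p = vb ≫ w} : Set _) :=
    ⟨fun z => ⟨zb z ≫ pullback.fst p w, by
      change (zb z ≫ pullback.fst p w) ≫ p = vb ≫ w
      rw [Category.assoc, pullback.condition, ← Category.assoc, hzb1]⟩, by
      intro z z' hzz'
      have h1 : zb z ≫ pullback.fst p w = zb z' ≫ pullback.fst p w := congrArg Subtype.val hzz'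
      have h2 : zb z = zb z' := by
        apply pullback.hom_ext h1
        rw [hzb1, hzb1]
      apply Subtype.ext
      rw [← hzb2 z, ← hzb2 z', h2]⟩
  exact le_trans e.encard_le (h k (vb ≫ w))

lemma exists_fin_enum {α : Type*} (F : Set α) (hF : F.Finite) (hne : F.Nonempty) (d : ℕ)
    (hd : F.encard ≤ d) : ∃ f : Fin d → α, Set.range f = F := by
  classical
  haveI := hF.fintype
  have hcard : Fintype.card F ≤ Fintype.card (Fin d) := by
    rw [Fintype.card_fin]
    have : F.encard = (Fintype.card F : ℕ∞) := by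
      rw [Set.encard_eq_coe_toFinset_card, Set.toFinset_card]
    rw [this] at hd
    exact_mod_cast hd
  obtain ⟨e⟩ := Function.Embedding.nonempty_of_card_le hcard
  haveI : Nonempty F := hne.to_subtype
  refine ⟨fun i => (Function.invFun e i).1, ?_⟩
  ext a
  constructor
  · rintro ⟨i, rfl⟩
    exact (Function.invFun e i).2
  · intro ha
    refine ⟨e ⟨a, ha⟩, ?_⟩
    change (Function.invFun e (e ⟨a, ha⟩)).1 = a
    rw [Function.leftInverse_invFun e.injective]

theorem main_bounded {X Y : Scheme.{u}} (p : X ⟶ Y) [Surjective p] [IsFinite p] [Flat p]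
    [LocallyOfFinitePresentation p] (d : ℕ) (hfib : FibBound p d) (D : Desc.SchDD p)
    (hV : ∀ (y : Y) (v : Fin d → ↑(D.obj.left)), (∀ i, p (D.obj.hom (v i)) = y) →
      ∃ U : D.obj.left.Opens, IsAffineOpen U ∧ ∀ i, v i ∈ U) :
    ∃ W : Over Y, Nonempty ((Desc.toDD p).obj W ≅ D) := by
  apply effective_of_bc
  intro Y₀
  haveI : IsAffine (Y₀.1 : Scheme.{u}) := Y₀.2
  let D₀ := bc D Y₀.1.ι
  apply core_affine D₀
  intro v₀
  classical
  let g : D₀.obj.left ⟶ D.obj.left := pullback.fst D.obj.hom (pullback.fst p Y₀.1.ι)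
  haveI : IsOpenImmersion g :=
    inferInstanceAs (IsOpenImmersion (pullback.fst D.obj.hom (pullback.fst p Y₀.1.ι)))
  have hfin := orbit_finite D₀ v₀
  have hg : g ≫ D.obj.hom ≫ p = D₀.obj.hom ≫ pullback.snd p Y₀.1.ι ≫ Y₀.1.ι := by
    have c1 : g ≫ D.obj.hom = D₀.obj.hom ≫ pullback.fst p Y₀.1.ι := pullback.condition
    rw [reassoc_of% c1, pullback.condition]
  set F₀ := psi D₀ '' (pullback.snd (pullback.snd p Y₀.1.ι)
    (D₀.obj.hom ≫ pullback.snd p Y₀.1.ι) ⁻¹' {v₀}) with hF₀
  have hF₀card : F₀.encard ≤ d :=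
    le_trans (Set.encard_image_le _ _)
      (fibre_encard_le (hfib.baseChange Y₀.1.ι) (D₀.obj.hom ≫ pullback.snd p Y₀.1.ι) v₀)
  have hF₀ne : F₀.Nonempty := by
    refine ⟨v₀, (pullback.lift D₀.obj.hom (𝟙 D₀.obj.left) (by simp) : D₀.obj.left ⟶ T1 D₀) v₀, ?_, ?_⟩
    · rw [Set.mem_preimage, ← Scheme.Hom.comp_apply, pullback.lift_snd]
      rfl
    · rw [← Scheme.Hom.comp_apply, delta_psi]
      rfl
  obtain ⟨f, hf⟩ := exists_fin_enum (g '' F₀) (hfin.image _) (hF₀ne.image _) d
    (le_trans (Set.encard_image_le _ _) hF₀card)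
  obtain ⟨U, hUaff, hU⟩ := hV (Y₀.1.ι (pullback.snd p Y₀.1.ι (D₀.obj.hom v₀))) f (by
    intro i
    have hi : f i ∈ g '' F₀ := hf ▸ ⟨i, rfl⟩
    obtain ⟨w, ⟨z, hz, rfl⟩, hw⟩ := hi
    rw [← hw]
    have e1 := congrArg (fun m => m (psi D₀ z)) hg
    simp only [Scheme.Hom.comp_apply] at e1
    rw [e1, orbit_over D₀ z, hz])
  haveI : IsAffine (U : Scheme.{u}) := hUaff
  refine ⟨g ⁻¹ᵁ U, ⟨U, hUaff, g ∣_ U, inferInstance⟩, fun z hz => ?_⟩
  have hmem : g (psi D₀ z) ∈ g '' F₀ :=
    ⟨psi D₀ z, ⟨z, Set.mem_preimage.mpr (Set.mem_singleton_iff.mpr hz), rfl⟩, rfl⟩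
  rw [← hf] at hmem
  obtain ⟨i, hi⟩ := hmem
  change g (psi D₀ z) ∈ U
  rw [← hi]
  exact hU i

end Groth.Agent.Lib.Helper81.DescFinB
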