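import Mathlib
import Groth.Prelude.Def_DescFam
import Groth.Agent.Lib.Helper81.DescMain

/-!
# Reduction to the affine case, keeping a property of the covering morphism
-/

set_option autoImplicit false
set_option backward.isDefEq.respectTransparency false
open CategoryTheory CategoryTheory.Limits AlgebraicGeometry Opposite Desc
universe u
namespace Groth.Agent.Lib.Helper81.DescMain2

open Groth.Agent.Lib.Helper38.FpqcGlue Groth.Agent.Lib.Helper81.DescE Groth.Agent.Lib.Helper81.DescZ
  Groth.Agent.Lib.Helper81.DescR Groth.Agent.Lib.Helper81.DescAff Groth.Agent.Lib.Helper81.DescMain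

lemma exists_finite_affine_refinement' {S : Scheme.{u}} {ι : Type u} {X : ι → Scheme.{u}}
    {f : ∀ i, X i ⟶ S} (Q : MorphismProperty Scheme.{u}) [Q.IsStableUnderBaseChange]
    [IsZariskiLocalAtSource Q] (hflat : ∀ i, Flat (f i)) (hQ : ∀ i, Q (f i))
    (hqc : QuasiCompactCover (⟨ι, X, f⟩ : PreZeroHypercover.{u} S))
    {U : Scheme.{u}} [IsAffine U] (u : U ⟶ S) :
    ∃ (n : ℕ) (idx : Fin n → ι) (P : Fin n → Scheme.{u}) (π : ∀ k, P k ⟶ U)
      (q : ∀ k, P k ⟶ X (idx k)), (∀ k, IsAffine (P k)) ∧ (∀ k, Flat (π k)) ∧ (∀ k, Q (π k)) ∧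
      (∀ k, π k ≫ u = q k ≫ f (idx k)) ∧ (∀ x : U, ∃ k, x ∈ Set.range (π k)) := by
  let E : PreZeroHypercover.{u} S := ⟨ι, X, f⟩
  have hE : QuasiCompactCover (E.pullback₁ u) := inferInstance
  have key : ∃ (n : ℕ) (idx : Fin n → ι) (V : ∀ k, (pullback u (f (idx k))).Opens),
      (∀ k, IsAffineOpen (V k)) ∧
      ⋃ k, (pullback.fst u (f (idx k))) '' (V k) = ((⊤ : U.Opens) : Set U) :=
    QuasiCompactCover.exists_isAffineOpen_of_isCompact
      (E.pullback₁ u) (U := ⊤) isCompact_univ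
  obtain ⟨n, idx, V, hV, hcov⟩ := key
  refine ⟨n, idx, fun k => (V k : Scheme.{u}), fun k => (V k).ι ≫ pullback.fst u (f (idx k)),
    fun k => (V k).ι ≫ pullback.snd u (f (idx k)), fun k => hV k, fun k => ?_, fun k => ?_,
    fun k => ?_, fun x => ?_⟩
  · have := hflat (idx k)
    infer_instance
  · exact IsZariskiLocalAtSource.comp (Q.pullback_fst _ _ (hQ (idx k))) _
  · rw [Category.assoc, Category.assoc, pullback.condition]
  · have hx : x ∈ ((⊤ : U.Opens) : Set U) := trivial
    rw [← hcov] at hx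
    simp only [Set.mem_iUnion, Set.mem_image] at hx
    obtain ⟨k, y, hy, rfl⟩ := hx
    refine ⟨k, ⟨y, hy⟩, ?_⟩
    rfl

theorem effective_of_affine_case' (P Q : MorphismProperty Scheme.{u}) [P.IsStableUnderBaseChange]
    [Q.IsStableUnderBaseChange] [IsZariskiLocalAtSource Q]
    (h3 : ∀ (X S : Scheme.{u}) (p : X ⟶ S), IsAffine X → IsAffine S → Flat p → Surjective p → Q p →
      ∀ D : Desc.SchDD p, P D.obj.hom → ∃ U : Over S, Nonempty ((Desc.toDD p).obj U ≅ D))
    {X S : Scheme.{u}} (p : X ⟶ S) [Surjective p] [Flat p] (hQp : Q p)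
    (hf : Presieve.ofArrows (fun _ : PUnit.{u + 1} => X) (fun _ => p) ∈ Scheme.fpqcPrecoverage S)
    (D : SchDD p) (hD : P D.obj.hom) : ∃ U : Over S, Nonempty ((toDD p).obj U ≅ D) := by
  apply single_of_fam
  set Dfam := (SchDDFam.ofSchDD.{u, u} p).obj D with hDfam
  have hf1 : Presieve.ofArrows (fun _ : PUnit.{u + 1} => X) (fun _ => p) ∈
      Scheme.qcPrecoverage S := hf.1
  have hqc : QuasiCompactCover
      (⟨PUnit.{u + 1}, fun _ => X, fun _ => p⟩ : PreZeroHypercover.{u} S) :=
    Scheme.presieve₀_mem_qcPrecoverage_iff.mp hf1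
  obtain ⟨Y, q, e, hE⟩ := exists_isESol_of_local hf Dfam (fun V => by
    apply exists_isLocSol_of_baseChange_isEffective
    haveI : IsAffine (V.1 : Scheme.{u}) := V.2
    obtain ⟨n, idx, Pk, π, qq, hP, hπ, hπQ, hπq, hsurj⟩ :=
      exists_finite_affine_refinement' Q
        (f := fun _ : PUnit.{u + 1} => p) (fun _ => inferInstance) (fun _ => hQp) hqc V.1.ι
    haveI := hP
    let p' : ∐ Pk ⟶ (V.1 : Scheme.{u}) := Sigma.desc π
    let r : ∐ Pk ⟶ pullback p V.1.ι :=
      Sigma.desc (fun k => pullback.lift (qq k) (π k) (hπq k).symm)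
    have hr : r ≫ pullback.snd p V.1.ι = p' := by
      apply Sigma.hom_ext
      intro k
      simp [r, p']
    haveI : Flat p' := IsZariskiLocalAtSource.sigmaDesc (P := @Flat) hπ
    have hQp' : Q p' := IsZariskiLocalAtSource.sigmaDesc (P := Q) hπQ
    haveI : Surjective p' := by
      constructor
      intro x
      obtain ⟨k, y, hy⟩ := hsurj x
      refine ⟨(Sigma.ι Pk k).base y, ?_⟩
      rw [← hy, ← Scheme.Hom.comp_apply]
      simp [p']
    haveI : IsAffine (∐ Pk) := inferInstance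
    haveI : QuasiCompact p' := inferInstance
    have hf' : Presieve.ofArrows (fun _ : PUnit.{u + 1} => ∐ Pk) (fun _ => p') ∈
        Scheme.fpqcPrecoverage (V.1 : Scheme.{u}) := by
      rw [Presieve.ofArrows_pUnit]
      exact p'.singleton_mem_fpqcPrecoverage
    have w : ∀ i : PUnit.{u + 1}, (fun _ : PUnit.{u + 1} => r) i ≫
        (fun _ : PUnit.{u + 1} => pullback.snd p V.1.ι) i =
        (fun _ : PUnit.{u + 1} => p') i ≫ 𝟙 _ := fun _ => by
      simp [hr]
    have H : ∀ j : PUnit.{u + 1}, Sieve.pullback ((fun _ : PUnit.{u + 1} => pullback.snd p V.1.ι) j)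
        (Sieve.ofArrows (fun _ : PUnit.{u + 1} => ∐ Pk) (fun _ => p')) ∈
        Scheme.fpqcTopology (pullback p V.1.ι) := fun _ => pullback_ofArrows_mem _ hf' _
    refine isEffective_of_pull (uu := fun _ : PUnit.{u + 1} => p')
      (v := fun _ : PUnit.{u + 1} => pullback.snd p V.1.ι) (α := fun i => i)
      (g := fun _ => r) w H (baseChange Dfam V.1.ι) ?_
    apply fam_of_single
    apply h3 _ _ p' inferInstance V.2 inferInstance inferInstance hQp'
    change P (pullback.snd (pullback.snd D.obj.hom (pullback.fst p V.1.ι)) r)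
    exact P.pullback_snd _ _ (P.pullback_snd _ _ hD))
  exact isEffective_of_isESol Dfam q e hE

end Groth.Agent.Lib.Helper81.DescMain2
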