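import Mathlib
import Groth.Prelude.Def_DescFam
import Groth.Agent.Lib.Helper81.DescSig
import Groth.Agent.Lib.Helper81.DescZ

/-!
# Refinement: descending a family datum to a datum relative to a single morphism
-/

set_option autoImplicit false
set_option backward.isDefEq.respectTransparency false
open CategoryTheory CategoryTheory.Limits AlgebraicGeometry Opposite Desc
universe u
namespace Groth.Agent.Lib.Helper81.DescRef

open Groth.Agent.Lib.Helper38.FpqcGlue Groth.Agent.Lib.Helper81.DescE Groth.Agent.Lib.Helper81.DescZ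
  Groth.Agent.Lib.Helper81.DescSig

section RF

variable {S : Scheme.{u}} {ι : Type u} {U : ι → Scheme.{u}} {u : ∀ i, U i ⟶ S}
  {Y : Scheme.{u}} (a : Y ⟶ S) (𝔤 : ∀ i, U i ⟶ Y) (hw : ∀ i, 𝔤 i ≫ a = u i) (D : SchDDFam u)
  (hcov : Presieve.ofArrows U 𝔤 ∈ Scheme.fpqcPrecoverage Y)
  {W' : Scheme.{u}} (q : W' ⟶ Y) (e : ∀ i, (D.obj i).left ⟶ W')
  (hpb : ∀ i, IsPullback (e i) (D.obj i).hom q (𝔤 i))
  (hc : ∀ ⦃T : Scheme.{u}⦄ ⦃i j : ι⦄ (x : T ⟶ U j) (w : T ⟶ (D.obj i).left)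
    (_ : (w ≫ (D.obj i).hom) ≫ 𝔤 i = x ≫ 𝔤 j) (hcd : (w ≫ (D.obj i).hom) ≫ u i = x ≫ u j),
    act D x w hcd ≫ e j = w ≫ e i)

include hw in
lemma cond_of_G {T : Scheme.{u}} {i j : ι} (x₀ : T ⟶ U i) (x₁ : T ⟶ U j)
    (h : x₀ ≫ 𝔤 i = x₁ ≫ 𝔤 j) : x₀ ≫ u i = x₁ ≫ u j := by
  rw [← hw, ← hw, ← Category.assoc, h, Category.assoc]

include hpb in
lemma G_of_e {T : Scheme.{u}} {i j : ι} (w : T ⟶ (D.obj i).left) (w' : T ⟶ (D.obj j).left)
    (h : w ≫ e i = w' ≫ e j) : (w ≫ (D.obj i).hom) ≫ 𝔤 i = (w' ≫ (D.obj j).hom) ≫ 𝔤 j := by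
  rw [Category.assoc, ← (hpb i).w, ← Category.assoc, h, Category.assoc, (hpb j).w, Category.assoc]

include hpb hc in
lemma eq_act {T : Scheme.{u}} {i j : ι} (w : T ⟶ (D.obj i).left) (w' : T ⟶ (D.obj j).left)
    (h : w ≫ e i = w' ≫ e j)
    (hcd : (w ≫ (D.obj i).hom) ≫ u i = (w' ≫ (D.obj j).hom) ≫ u j) :
    w' = act D (w' ≫ (D.obj j).hom) w hcd := by
  apply (hpb j).hom_ext
  · rw [hc _ _ (G_of_e 𝔤 D q e hpb w w' h) hcd]; exact h.symm
  · rw [act_hom]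

include hw hpb hc in
lemma val_indep {T : Scheme.{u}} {i' k' i k : ι} (x : T ⟶ U i') (x' : T ⟶ U k')
    (w : T ⟶ (D.obj i).left) (w' : T ⟶ (D.obj k).left) (hx : x ≫ 𝔤 i' = x' ≫ 𝔤 k')
    (hww : w ≫ e i = w' ≫ e k) (hcd : (w ≫ (D.obj i).hom) ≫ u i = x ≫ u i')
    (hcd' : (w' ≫ (D.obj k).hom) ≫ u k = x' ≫ u k') :
    act D x w hcd ≫ e i' = act D x' w' hcd' ≫ e k' := by
  have hcd0 : (w ≫ (D.obj i).hom) ≫ u i = (w' ≫ (D.obj k).hom) ≫ u k :=
    cond_of_G a 𝔤 hw _ _ (G_of_e 𝔤 D q e hpb w w' hww)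
  have hw' := eq_act 𝔤 D q e hpb hc w w' hww hcd0
  have hcd'' : (w ≫ (D.obj i).hom) ≫ u i = x' ≫ u k' := hcd0.trans hcd'
  have e1 : act D x' w' hcd' = act D x' w hcd'' :=
    (act_congr D rfl hw' hcd' (by rw [act_hom]; exact hcd')).trans
      (act_comp D _ x' w hcd0 hcd'' _)
  have hcd3 : (act D x w hcd ≫ (D.obj i').hom) ≫ u i' = x' ≫ u k' := by
    rw [act_hom]; exact cond_of_G a 𝔤 hw _ _ hx
  have e2 : act D x' w hcd'' = act D x' (act D x w hcd) hcd3 :=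
    (act_comp D x x' w hcd hcd'' hcd3).symm
  rw [e1, e2]
  exact (hc x' (act D x w hcd) (by rw [act_hom]; exact hx) hcd3).symm

include hcov hpb in
lemma e_mem : Presieve.ofArrows (fun i => (D.obj i).left) e ∈ Scheme.fpqcPrecoverage W' :=
  Precoverage.mem_coverings_of_isPullback 𝔤 hcov q e (fun i => (D.obj i).hom) hpb

/-- the covering sieve of `Y ×_S W'` -/
noncomputable def RR : Sieve (pullback a (q ≫ a)) :=
  Sieve.pullback (pullback.fst a (q ≫ a)) (Sieve.ofArrows U 𝔤) ⊓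
    Sieve.pullback (pullback.snd a (q ≫ a)) (Sieve.ofArrows (fun i => (D.obj i).left) e)

include hcov hpb in
lemma RR_mem : RR a 𝔤 D q e ∈ Scheme.fpqcTopology (pullback a (q ≫ a)) :=
  Scheme.fpqcTopology.intersection_covering (pullback_ofArrows_mem 𝔤 hcov _)
    (pullback_ofArrows_mem e (e_mem 𝔤 D hcov q e hpb) _)

lemma RR_iff {T : Scheme.{u}} (t : T ⟶ pullback a (q ≫ a)) :
    RR a 𝔤 D q e t ↔ (∃ (i' : ι) (x : T ⟶ U i'), t ≫ pullback.fst a (q ≫ a) = x ≫ 𝔤 i') ∧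
      ∃ (i : ι) (w : T ⟶ (D.obj i).left), t ≫ pullback.snd a (q ≫ a) = w ≫ e i := by
  rw [RR, Sieve.inter_apply, mem_pullback_ofArrows_iff, mem_pullback_ofArrows_iff]

include hw hpb in
lemma cond_of_t {T : Scheme.{u}} (t : T ⟶ pullback a (q ≫ a)) {i' i : ι} (x : T ⟶ U i')
    (w : T ⟶ (D.obj i).left) (hx : t ≫ pullback.fst a (q ≫ a) = x ≫ 𝔤 i')
    (hww : t ≫ pullback.snd a (q ≫ a) = w ≫ e i) : (w ≫ (D.obj i).hom) ≫ u i = x ≫ u i' := by
  have h1 : (w ≫ (D.obj i).hom) ≫ u i = (w ≫ e i) ≫ q ≫ a := by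
    rw [← hw, Category.assoc, Category.assoc, ← reassoc_of% (hpb i).w]
  have h2 : x ≫ u i' = (x ≫ 𝔤 i') ≫ a := by rw [← hw, Category.assoc]
  rw [h1, h2, ← hx, ← hww, Category.assoc, Category.assoc, pullback.condition]

include hw hcov hpb hc in
theorem exists_psi : ∃ ψ : pullback a (q ≫ a) ⟶ W',
    ∀ ⦃T : Scheme.{u}⦄ ⦃i' i : ι⦄ (x : T ⟶ U i') (w : T ⟶ (D.obj i).left)
      (hcd : (w ≫ (D.obj i).hom) ≫ u i = x ≫ u i')
      (hcond : (x ≫ 𝔤 i') ≫ a = (w ≫ e i) ≫ q ≫ a),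
      pullback.lift (x ≫ 𝔤 i') (w ≫ e i) hcond ≫ ψ = act D x w hcd ≫ e i' := by
  have key : ∀ {T : Scheme.{u}} (t : T ⟶ pullback a (q ≫ a)), RR a 𝔤 D q e t →
      ∃ (i' : ι) (x : T ⟶ U i') (i : ι) (w : T ⟶ (D.obj i).left),
        t ≫ pullback.fst a (q ≫ a) = x ≫ 𝔤 i' ∧ t ≫ pullback.snd a (q ≫ a) = w ≫ e i := by
    intro T t ht
    obtain ⟨⟨i', x, hx⟩, ⟨i, w, hww⟩⟩ := (RR_iff a 𝔤 D q e t).mp ht
    exact ⟨i', x, i, w, hx, hww⟩
  choose ci' cx ci cw chx chw using @key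
  obtain ⟨ψ, hψ, -⟩ := existsUnique_glue (Z := W') _ (RR_mem a 𝔤 D hcov q e hpb)
    (fun T t ht => act D (cx t ht) (cw t ht)
      (cond_of_t a 𝔤 hw D q e hpb t _ _ (chx t ht) (chw t ht)) ≫ e (ci' t ht))
    (by
      intro T T' g t ht
      rw [← Category.assoc, act_natural]
      apply val_indep a 𝔤 hw D q e hpb hc
      · rw [← chx, Category.assoc, Category.assoc, chx t ht]
      · rw [← chw, Category.assoc, Category.assoc, chw t ht])
  refine ⟨ψ, ?_⟩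
  intro T i' i x w hcd hcond
  have ht : RR a 𝔤 D q e (pullback.lift (x ≫ 𝔤 i') (w ≫ e i) hcond) :=
    (RR_iff a 𝔤 D q e _).mpr ⟨⟨i', x, pullback.lift_fst _ _ _⟩, ⟨i, w, pullback.lift_snd _ _ _⟩⟩
  rw [hψ _ ht]
  apply val_indep a 𝔤 hw D q e hpb hc
  · rw [← chx _ ht, pullback.lift_fst]
  · rw [← chw _ ht, pullback.lift_snd]

section RF2

variable (ψ : pullback a (q ≫ a) ⟶ W')
  (hψ : ∀ ⦃T : Scheme.{u}⦄ ⦃i' i : ι⦄ (x : T ⟶ U i') (w : T ⟶ (D.obj i).left)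
      (hcd : (w ≫ (D.obj i).hom) ≫ u i = x ≫ u i')
      (hcond : (x ≫ 𝔤 i') ≫ a = (w ≫ e i) ≫ q ≫ a),
      pullback.lift (x ≫ 𝔤 i') (w ≫ e i) hcond ≫ ψ = act D x w hcd ≫ e i')

include hw hcov hpb hψ in
lemma psi_h1 : ψ ≫ q = pullback.fst a (q ≫ a) := by
  apply hom_ext_of_mem_fpqc _ (RR_mem a 𝔤 D hcov q e hpb)
  intro T t ht
  obtain ⟨⟨i', x, hx⟩, ⟨i, w, hww⟩⟩ := (RR_iff a 𝔤 D q e t).mp ht
  have hcd := cond_of_t a 𝔤 hw D q e hpb t x w hx hww
  have hcond : (x ≫ 𝔤 i') ≫ a = (w ≫ e i) ≫ q ≫ a := by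
    rw [← hx, ← hww, Category.assoc, Category.assoc, pullback.condition]
  have ht' : t = pullback.lift (x ≫ 𝔤 i') (w ≫ e i) hcond := by
    apply pullback.hom_ext <;> simp [hx, hww]
  rw [ht', ← Category.assoc, hψ x w hcd hcond, pullback.lift_fst, Category.assoc, (hpb i').w,
    act_hom_assoc]

include hcov hpb hψ in
lemma psi_h2 : pullback.lift (f := a) (g := q ≫ a) q (𝟙 W') (by simp) ≫ ψ = 𝟙 _ := by
  apply hom_ext_of_fpqc_family e (e_mem 𝔤 D hcov q e hpb)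
  intro i
  have hcond : ((D.obj i).hom ≫ 𝔤 i) ≫ a = (𝟙 (D.obj i).left ≫ e i) ≫ q ≫ a := by
    rw [Category.id_comp, ← (hpb i).w, Category.assoc]
  have e1 : e i ≫ pullback.lift (f := a) (g := q ≫ a) q (𝟙 W') (by simp) =
      pullback.lift ((D.obj i).hom ≫ 𝔤 i) (𝟙 (D.obj i).left ≫ e i) hcond := by
    apply pullback.hom_ext <;> simp [(hpb i).w]
  rw [← Category.assoc, e1, hψ (D.obj i).hom (𝟙 _) (by simp) hcond, act_self D _ _ (by simp)]
  simp

/-- covering sieve of the triple product -/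
noncomputable def RR2 : Sieve (pullback a (pullback.fst a (q ≫ a) ≫ a)) :=
  Sieve.pullback (pullback.fst a (pullback.fst a (q ≫ a) ≫ a)) (Sieve.ofArrows U 𝔤) ⊓
    Sieve.pullback (pullback.snd a (pullback.fst a (q ≫ a) ≫ a)) (RR a 𝔤 D q e)

include hw hcov hpb hψ in
lemma psi_h3 (h1 : ψ ≫ q = pullback.fst a (q ≫ a)) :
    pullback.lift (pullback.fst a (pullback.fst a (q ≫ a) ≫ a))
        (pullback.snd a (pullback.fst a (q ≫ a) ≫ a) ≫ ψ)
        (by rw [Category.assoc, reassoc_of% h1]; exact pullback.condition) ≫ ψ =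
      pullback.lift (pullback.fst a (pullback.fst a (q ≫ a) ≫ a))
        (pullback.snd a (pullback.fst a (q ≫ a) ≫ a) ≫ pullback.snd a (q ≫ a))
        (by rw [Category.assoc, ← pullback.condition]; exact pullback.condition) ≫ ψ := by
  have hR2 : RR2 a 𝔤 D q e ∈ Scheme.fpqcTopology _ :=
    Scheme.fpqcTopology.intersection_covering (pullback_ofArrows_mem 𝔤 hcov _)
      (Scheme.fpqcTopology.pullback_stable _ (RR_mem a 𝔤 D hcov q e hpb))
  apply hom_ext_of_mem_fpqc _ hR2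
  intro T t ht
  rw [RR2, Sieve.inter_apply, mem_pullback_ofArrows_iff] at ht
  obtain ⟨⟨k, x₂, hx₂⟩, ht2⟩ := ht
  have ht2' : RR a 𝔤 D q e (t ≫ pullback.snd a (pullback.fst a (q ≫ a) ≫ a)) := ht2
  obtain ⟨⟨j, x₁, hx₁⟩, ⟨i, w, hww⟩⟩ := (RR_iff a 𝔤 D q e _).mp ht2'
  have hcd1 := cond_of_t a 𝔤 hw D q e hpb _ x₁ w hx₁ hww
  have hc0 : pullback.fst a (q ≫ a) ≫ a = pullback.snd a (q ≫ a) ≫ q ≫ a := pullback.condition
  have hcond1 : (x₁ ≫ 𝔤 j) ≫ a = (w ≫ e i) ≫ q ≫ a := by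
    have := congrArg (fun m => (t ≫ pullback.snd a (pullback.fst a (q ≫ a) ≫ a)) ≫ m) hc0
    simp only [← Category.assoc] at this
    rw [hx₁, hww] at this
    simpa only [Category.assoc] using this
  have hts : t ≫ pullback.snd a (pullback.fst a (q ≫ a) ≫ a) =
      pullback.lift (x₁ ≫ 𝔤 j) (w ≫ e i) hcond1 := by
    apply pullback.hom_ext
    · rw [pullback.lift_fst]; exact hx₁
    · rw [pullback.lift_snd]; exact hww
  have h12 : x₂ ≫ u k = x₁ ≫ u j := by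
    have h2 : x₂ ≫ u k = (x₂ ≫ 𝔤 k) ≫ a := by rw [← hw, Category.assoc]
    have h3 : x₁ ≫ u j = (x₁ ≫ 𝔤 j) ≫ a := by rw [← hw, Category.assoc]
    have hc2 : pullback.fst a (pullback.fst a (q ≫ a) ≫ a) ≫ a =
        pullback.snd a (pullback.fst a (q ≫ a) ≫ a) ≫ pullback.fst a (q ≫ a) ≫ a :=
      pullback.condition
    have := congrArg (fun m => t ≫ m) hc2
    simp only [← Category.assoc] at this
    rw [hx₂, hx₁] at this
    rw [h2, h3]
    exact this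
  have hcd2 : (w ≫ (D.obj i).hom) ≫ u i = x₂ ≫ u k := hcd1.trans h12.symm
  have hcd12 : (act D x₁ w hcd1 ≫ (D.obj j).hom) ≫ u j = x₂ ≫ u k := by
    rw [act_hom]; exact h12.symm
  have hcondA : (x₂ ≫ 𝔤 k) ≫ a = ((act D x₁ w hcd1) ≫ e j) ≫ q ≫ a := by
    rw [Category.assoc, Category.assoc, reassoc_of% (hpb j).w, act_hom_assoc, hw, hw]
    exact h12
  have hcondB : (x₂ ≫ 𝔤 k) ≫ a = (w ≫ e i) ≫ q ≫ a := by
    rw [Category.assoc, Category.assoc, reassoc_of% (hpb i).w, hw, hw, ← Category.assoc]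
    exact hcd2.symm
  have e1 : t ≫ pullback.lift (pullback.fst a (pullback.fst a (q ≫ a) ≫ a))
        (pullback.snd a (pullback.fst a (q ≫ a) ≫ a) ≫ ψ)
        (by rw [Category.assoc, reassoc_of% h1]; exact pullback.condition) =
      pullback.lift (x₂ ≫ 𝔤 k) (act D x₁ w hcd1 ≫ e j) hcondA := by
    apply pullback.hom_ext
    · rw [Category.assoc, pullback.lift_fst, pullback.lift_fst]; exact hx₂
    · rw [Category.assoc, pullback.lift_snd, pullback.lift_snd, ← Category.assoc, hts,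
        hψ x₁ w hcd1 hcond1]
  have e2 : t ≫ pullback.lift (pullback.fst a (pullback.fst a (q ≫ a) ≫ a))
        (pullback.snd a (pullback.fst a (q ≫ a) ≫ a) ≫ pullback.snd a (q ≫ a))
        (by rw [Category.assoc, ← pullback.condition]; exact pullback.condition) =
      pullback.lift (x₂ ≫ 𝔤 k) (w ≫ e i) hcondB := by
    apply pullback.hom_ext
    · rw [Category.assoc, pullback.lift_fst, pullback.lift_fst]; exact hx₂
    · rw [Category.assoc, pullback.lift_snd, pullback.lift_snd, ← Category.assoc, hts,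
        pullback.lift_snd]
  refine ((Category.assoc _ _ _).symm.trans ?_).trans (Category.assoc _ _ _)
  rw [e1, e2, hψ x₂ (act D x₁ w hcd1) hcd12 hcondA, hψ x₂ w hcd2 hcondB]
  congr 1
  exact act_comp D x₁ x₂ w hcd1 hcd2 hcd12

/-- the descended datum relative to `a` -/
noncomputable def refDD (h1 : ψ ≫ q = pullback.fst a (q ≫ a))
    (h2 : pullback.lift (f := a) (g := q ≫ a) q (𝟙 W') (by simp) ≫ ψ = 𝟙 _)
    (h3 : pullback.lift (pullback.fst a (pullback.fst a (q ≫ a) ≫ a))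
        (pullback.snd a (pullback.fst a (q ≫ a) ≫ a) ≫ ψ)
        (by rw [Category.assoc, reassoc_of% h1]; exact pullback.condition) ≫ ψ =
      pullback.lift (pullback.fst a (pullback.fst a (q ≫ a) ≫ a))
        (pullback.snd a (pullback.fst a (q ≫ a) ≫ a) ≫ pullback.snd a (q ≫ a))
        (by rw [Category.assoc, ← pullback.condition]; exact pullback.condition) ≫ ψ) :
    SchDD a :=
  ofAction a (Over.mk q) ψ h1 h2 h3

end RF2

section RF3

variable (ψ : pullback a (q ≫ a) ⟶ W')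
  (hψ : ∀ ⦃T : Scheme.{u}⦄ ⦃i' i : ι⦄ (x : T ⟶ U i') (w : T ⟶ (D.obj i).left)
      (hcd : (w ≫ (D.obj i).hom) ≫ u i = x ≫ u i')
      (hcond : (x ≫ 𝔤 i') ≫ a = (w ≫ e i) ≫ q ≫ a),
      pullback.lift (x ≫ 𝔤 i') (w ≫ e i) hcond ≫ ψ = act D x w hcd ≫ e i')
  (h1 : ψ ≫ q = pullback.fst a (q ≫ a))
  (h2 : pullback.lift (f := a) (g := q ≫ a) q (𝟙 W') (by simp) ≫ ψ = 𝟙 _)
  (h3 : pullback.lift (pullback.fst a (pullback.fst a (q ≫ a) ≫ a))
        (pullback.snd a (pullback.fst a (q ≫ a) ≫ a) ≫ ψ)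
        (by rw [Category.assoc, reassoc_of% h1]; exact pullback.condition) ≫ ψ =
      pullback.lift (pullback.fst a (pullback.fst a (q ≫ a) ≫ a))
        (pullback.snd a (pullback.fst a (q ≫ a) ≫ a) ≫ pullback.snd a (q ≫ a))
        (by rw [Category.assoc, ← pullback.condition]; exact pullback.condition) ≫ ψ)

include hw in
lemma ref_w (i : ι) : 𝔤 i ≫ (fun _ : PUnit.{u + 1} => a) PUnit.unit = u i ≫ 𝟙 S :=
  (hw i).trans (Category.comp_id _).symm

/-- the pullback of the descended datum to the family -/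
noncomputable abbrev refPulled : SchDDFam u :=
  (pullDDFam (f := fun _ : PUnit.{u + 1} => a) (f' := u) (α := fun _ => PUnit.unit)
    (p := 𝟙 S) (p' := 𝔤) (ref_w a 𝔤 hw)).obj
    ((SchDDFam.ofSchDD.{u, u} a).obj (refDD a q ψ h1 h2 h3))

include hψ in
/-- the comparison morphism -/
noncomputable def refHom : D ⟶ refPulled a 𝔤 hw q ψ h1 h2 h3 :=
  ⟨fun i => Over.homMk (pullback.lift (f := q) (g := 𝔤 i) (e i) (D.obj i).hom (hpb i).w)
      (pullback.lift_snd _ _ _), by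
    intro T i j x₀ x₁ h v w' hw'
    have h' : (x₀ ≫ 𝔤 i) ≫ a = (x₁ ≫ 𝔤 j) ≫ a := by
      rw [Category.assoc, Category.assoc, hw, hw]; exact h
    have hv2 : v.1 ≫ (D.obj i).hom = x₀ := v.2
    have key : ∀ (z : Lifts (refDD a q ψ h1 h2 h3).obj (x₀ ≫ 𝔤 i)), z.1 = v.1 ≫ e i →
        ((refDD a q ψ h1 h2 h3).φ _ _ h' z).1 = (D.φ x₀ x₁ h v).1 ≫ e j := by
      rintro ⟨z, hz⟩ rfl
      have hcd : (v.1 ≫ (D.obj i).hom) ≫ u i = x₁ ≫ u j := by rw [hv2]; exact h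
      change pullback.lift _ _ _ ≫ ψ = _
      rw [hψ x₁ v.1 hcd, phi_eq_act]
    apply pullback.hom_ext
    · have e0 := key (liftsPullbackEquiv (refDD a q ψ h1 h2 h3).obj (𝔤 i) x₀ w') (by
        change w'.1 ≫ pullback.fst _ _ = _
        rw [hw', Category.assoc]
        congr 1
        exact pullback.lift_fst _ _ _)
      refine (pullback.lift_fst _ _ _).trans (e0.trans ?_)
      rw [Category.assoc]
      congr 1
      exact (pullback.lift_fst _ _ _).symm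
    · have e2 := ((refPulled a 𝔤 hw q ψ h1 h2 h3).φ x₀ x₁ h w').2
      have e3 := (D.φ x₀ x₁ h v).2
      refine e2.trans (e3.symm.trans ?_)
      rw [Category.assoc]
      congr 1
      exact (pullback.lift_snd _ _ _).symm⟩

include hψ in
lemma isIso_refHom : IsIso (refHom a 𝔤 hw D q e hpb ψ hψ h1 h2 h3) := by
  apply isIso_of_components
  intro i
  have : IsIso ((Over.forget (U i)).map ((refHom a 𝔤 hw D q e hpb ψ hψ h1 h2 h3).hom i)) := by
    have : (Over.forget (U i)).map ((refHom a 𝔤 hw D q e hpb ψ hψ h1 h2 h3).hom i) =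
        (hpb i).isoPullback.hom := by
      apply pullback.hom_ext
      · exact (pullback.lift_fst _ _ _).trans ((hpb i).isoPullback_hom_fst).symm
      · exact (pullback.lift_snd _ _ _).trans ((hpb i).isoPullback_hom_snd).symm
    rw [this]
    infer_instance
  exact isIso_of_reflects_iso _ (Over.forget _)

end RF3

include hw hcov hpb hc in
/-- descending a family datum along a covering of `Y` -/
theorem exists_refDD : ∃ E' : SchDD a, Nonempty (D ≅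
    (pullDDFam (f := fun _ : PUnit.{u + 1} => a) (f' := u) (α := fun _ => PUnit.unit)
      (p := 𝟙 S) (p' := 𝔤) (ref_w a 𝔤 hw)).obj ((SchDDFam.ofSchDD.{u, u} a).obj E')) := by
  obtain ⟨ψ, hψ⟩ := exists_psi a 𝔤 hw D hcov q e hpb hc
  have h1 := psi_h1 a 𝔤 hw D hcov q e hpb ψ hψ
  have h2 := psi_h2 a 𝔤 D hcov q e hpb ψ hψ
  have h3 := psi_h3 a 𝔤 hw D hcov q e hpb ψ hψ h1
  haveI := isIso_refHom a 𝔤 hw D q e hpb ψ hψ h1 h2 h3
  exact ⟨refDD a q ψ h1 h2 h3, ⟨asIso (refHom a 𝔤 hw D q e hpb ψ hψ h1 h2 h3)⟩⟩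

end RF

section PF

variable {S : Scheme.{u}} {ι ι' ι'' : Type u} {X : ι → Scheme.{u}} {X' : ι' → Scheme.{u}}
  {X'' : ι'' → Scheme.{u}} {f : ∀ i, X i ⟶ S} {f' : ∀ j, X' j ⟶ S} {f'' : ∀ k, X'' k ⟶ S}
  {α₁ : ι' → ι} {p₁ : ∀ j, X' j ⟶ X (α₁ j)} (w₁ : ∀ j, p₁ j ≫ f (α₁ j) = f' j ≫ 𝟙 S)
  {α₂ : ι'' → ι'} {p₂ : ∀ k, X'' k ⟶ X' (α₂ k)} (w₂ : ∀ k, p₂ k ≫ f' (α₂ k) = f'' k ≫ 𝟙 S)
  (w₁₂ : ∀ k, (p₂ k ≫ p₁ (α₂ k)) ≫ f (α₁ (α₂ k)) = f'' k ≫ 𝟙 S)
  (E : SchDDFam f)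

/-- pulling back twice is pulling back along the composite (comparison morphism) -/
noncomputable def pullPullHom : (pullDDFam w₂).obj ((pullDDFam w₁).obj E) ⟶
    (pullDDFam (α := fun k => α₁ (α₂ k)) (p' := fun k => p₂ k ≫ p₁ (α₂ k)) w₁₂).obj E :=
  ⟨fun k => Over.homMk (pullbackLeftPullbackSndIso (E.obj (α₁ (α₂ k))).hom (p₁ (α₂ k)) (p₂ k)).hom
      (pullbackLeftPullbackSndIso_hom_snd _ _ _), by
    intro T k k' x₀ x₁ h v w' hw'
    apply pullback.hom_ext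
    · refine (pullback.lift_fst _ _ _).trans ?_
      rw [Category.assoc]
      refine Eq.trans ?_ (congrArg (fun m => _ ≫ m)
        (pullbackLeftPullbackSndIso_hom_fst (E.obj (α₁ (α₂ k'))).hom (p₁ (α₂ k')) (p₂ k')).symm)
      refine Eq.trans ?_ (Category.assoc _ _ _)
      refine Eq.trans ?_ (congrArg (fun m => m ≫ _) (pullback.lift_fst _ _ _).symm)
      refine Eq.trans ?_ (pullback.lift_fst _ _ _).symm
      apply phi_congr E _ _ (Category.assoc _ _ _) (Category.assoc _ _ _)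
      change w'.1 ≫ pullback.fst _ _ = (v.1 ≫ pullback.fst _ _) ≫ pullback.fst _ _
      rw [hw', Category.assoc, Category.assoc]
      congr 1
      exact pullbackLeftPullbackSndIso_hom_fst _ _ _
    · have e2 := ((pullDDFam (α := fun k => α₁ (α₂ k)) (p' := fun k => p₂ k ≫ p₁ (α₂ k))
        w₁₂).obj E |>.φ x₀ x₁ h w').2
      have e3 := (((pullDDFam w₂).obj ((pullDDFam w₁).obj E)).φ x₀ x₁ h v).2
      refine e2.trans (e3.symm.trans ?_)
      rw [Category.assoc]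
      congr 1
      exact (pullbackLeftPullbackSndIso_hom_snd _ _ _).symm⟩

instance : IsIso (pullPullHom w₁ w₂ w₁₂ E) := by
  apply isIso_of_components
  intro k
  have : IsIso ((Over.forget (X'' k)).map ((pullPullHom w₁ w₂ w₁₂ E).hom k)) := by
    change IsIso (pullbackLeftPullbackSndIso (E.obj (α₁ (α₂ k))).hom (p₁ (α₂ k)) (p₂ k)).hom
    infer_instance
  exact isIso_of_reflects_iso _ (Over.forget _)

end PF

end Groth.Agent.Lib.Helper81.DescRef
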