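import Mathlib
import Groth.Prelude.Def_DescFam
import Groth.Agent.Lib.Helper81.DescZ

/-!
# Effectiveness of descent data is local on the base for a basis of opens
-/

set_option autoImplicit false
set_option backward.isDefEq.respectTransparency false
open CategoryTheory CategoryTheory.Limits AlgebraicGeometry Opposite Desc
universe u
namespace Groth.Agent.Lib.Helper81.DescZB

open Groth.Agent.Lib.Helper38.FpqcGlue Groth.Agent.Lib.Helper81.DescE Groth.Agent.Lib.Helper81.DescZ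

/-- the open cover given by a basis of opens -/
def basisCover {S : Scheme.{u}} (B : Set S.Opens) (hB : TopologicalSpace.Opens.IsBasis B) :
    S.OpenCover where
  I₀ := B
  X U := U.1
  f U := U.1.ι
  mem₀ := by
    rw [Scheme.presieve₀_mem_precoverage_iff]
    refine ⟨fun x => ?_, inferInstance⟩
    obtain ⟨O, hO, hx, -⟩ := TopologicalSpace.Opens.isBasis_iff_nbhd.mp hB
      (TopologicalSpace.Opens.mem_top x)
    exact ⟨⟨O, hO⟩, by simpa using hx⟩

instance {S : Scheme.{u}} (B : Set S.Opens) (hB : TopologicalSpace.Opens.IsBasis B) :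
    Preorder (basisCover B hB).I₀ := inferInstanceAs <| Preorder B

noncomputable instance {S : Scheme.{u}} (B : Set S.Opens) (hB : TopologicalSpace.Opens.IsBasis B) :
    Scheme.Cover.LocallyDirected (basisCover B hB) :=
  .ofIsBasisOpensRange (by intros; simp [basisCover]) <| by
    convert hB
    ext O
    simp [basisCover]

variable {S : Scheme.{u}} {ι : Type u} {X : ι → Scheme.{u}} {f : ∀ i, X i ⟶ S}
variable (hf : Presieve.ofArrows X f ∈ Scheme.fpqcPrecoverage S)

lemma glued_existsB {S : Scheme.{u}} (B : Set S.Opens) (hB : TopologicalSpace.Opens.IsBasis B)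
    (d : Scheme.Cover.RelativeGluingData (basisCover B hB)) :
    ∃ (Z : Scheme.{u}) (c : Z ⟶ S) (g : ∀ U : B, d.functor.obj U ⟶ Z),
      (∀ U : B, IsPullback (d.natTrans.app U) (g U) (U.1.ι) c) ∧
      (∀ (U V : B) (a : U ⟶ V), d.functor.map a ≫ g V = g U) ∧
      (∀ U, IsOpenImmersion (g U)) ∧ (∀ z : Z, ∃ U y, g U y = z) := by
  refine ⟨d.glued, d.toBase, fun U => colimit.ι d.functor U,
    fun U => d.isPullback_natTrans_ι_toBase U, fun U V a => colimit.w d.functor a, ?_, ?_⟩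
  · intro U
    exact inferInstanceAs (IsOpenImmersion (d.cover.f U))
  · intro z
    obtain ⟨U, y, hy⟩ := d.cover.exists_eq z
    exact ⟨U, y, hy⟩

include hf in
theorem exists_isESol_of_basis (B : Set S.Opens) (hB : TopologicalSpace.Opens.IsBasis B) (D : SchDDFam f)
    (H : ∀ V : B, ∃ (Y : Scheme.{u}) (q : Y ⟶ (V.1 : Scheme.{u}))
      (e : ∀ i, pullback ((D.obj i).hom ≫ f i) V.1.ι ⟶ Y), IsLocSol D V.1.ι q e) :
    ∃ (Y : Scheme.{u}) (q : Y ⟶ S) (e : ∀ i, (D.obj i).left ⟶ Y), IsESol D q e := by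
  choose Yl ql el hl using H
  let 𝒰 := basisCover B hB
  have hr : ∀ {U V : B} (hUV : U ≤ V), S.homOfLE hUV ≫ V.1.ι = U.1.ι :=
    fun hUV => by simp
  have htr : ∀ {U V : B} (hUV : U ≤ V), ∃! t : Yl U ⟶ Yl V,
      ∀ i, el U i ≫ t = mmap D U.1.ι V.1.ι (S.homOfLE hUV) (hr hUV) i ≫ el V i :=
    fun hUV => (hl _).trans_exists hf (hl _) _ _
  let tr : ∀ {U V : B} (hUV : U ≤ V), Yl U ⟶ Yl V := fun hUV => (htr hUV).exists.choose
  have htr1 : ∀ {U V : B} (hUV : U ≤ V) (i : ι),
      el U i ≫ tr hUV = mmap D U.1.ι V.1.ι (S.homOfLE hUV) (hr hUV) i ≫ el V i :=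
    fun hUV => (htr hUV).exists.choose_spec
  have htr2 : ∀ {U V : B} (hUV : U ≤ V) (t : Yl U ⟶ Yl V),
      (∀ i, el U i ≫ t = mmap D U.1.ι V.1.ι (S.homOfLE hUV) (hr hUV) i ≫ el V i) → t = tr hUV :=
    fun hUV t ht => (htr hUV).unique ht (htr1 hUV)
  have htrq : ∀ {U V : B} (hUV : U ≤ V), tr hUV ≫ ql V = ql U ≫ S.homOfLE hUV :=
    fun hUV => (hl _).trans_q hf (hl _) _ _ _ (htr1 hUV)
  let F : 𝒰.I₀ ⥤ Scheme.{u} :=
    { obj := Yl
      map := fun {U V} a => tr (leOfHom a)
      map_id := fun U => by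
        symm
        apply htr2
        intro i
        have : mmap D U.1.ι U.1.ι (S.homOfLE (le_refl U)) (hr _) i = 𝟙 _ := by
          apply pullback.hom_ext <;> simp [mmap]
        rw [this]; simp
      map_comp := fun {U V W} a b => by
        symm
        apply htr2
        intro i
        rw [← Category.assoc, htr1, Category.assoc, htr1, ← Category.assoc, mmap_comp]
        congr 1
        apply pullback.hom_ext <;> simp [mmap] }
  let α : F ⟶ 𝒰.functorOfLocallyDirected :=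
    { app := fun U => ql U
      naturality := fun U V a => htrq (leOfHom a) }
  have hα : α.Equifibered := by
    intro U V a
    change IsPullback (tr (leOfHom a)) (ql U) (ql V) (S.homOfLE (leOfHom a))
    let e'' : ∀ i, pullback ((D.obj i).hom ≫ f i) U.1.ι ⟶ pullback (ql V) (S.homOfLE (leOfHom a)) :=
      fun i => pullback.lift (mmap D U.1.ι V.1.ι (S.homOfLE (leOfHom a)) (hr _) i ≫ el V i)
        (pullback.snd _ _) (by rw [Category.assoc, (hl V).e_q]; simp [mmap])
    have hP : IsLocSol D U.1.ι (pullback.snd (ql V) (S.homOfLE (leOfHom a))) e'' :=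
      (hl V).pullback _ (hr _) e'' (fun i => by simp [e'']) (fun i => by simp [e''])
    let t₀ : Yl U ⟶ pullback (ql V) (S.homOfLE (leOfHom a)) :=
      pullback.lift (tr (leOfHom a)) (ql U) (htrq _)
    have ht₀ : ∀ i, el U i ≫ t₀ = e'' i := by
      intro i
      apply pullback.hom_ext
      · simp [t₀, e'', htr1]
      · simp [t₀, e'', (hl U).e_q]
    have : IsIso t₀ := (hl U).isIso_of_two hf hP t₀ ht₀
    exact IsPullback.of_iso_pullback ⟨htrq _⟩ (asIso t₀) (by simp [t₀]) (by simp [t₀])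
  obtain ⟨Y, q, g, hpb0, hcomp0, hopen, hcov⟩ := glued_existsB (S := S) B hB ⟨F, α, hα⟩
  have hpb : ∀ U : B, IsPullback (ql U) (g U) (U.1.ι) q := hpb0
  have hcomp : ∀ {U V : B} (hUV : U ≤ V), tr hUV ≫ g V = g U :=
    fun hUV => hcomp0 _ _ (homOfLE hUV)
  -- the global maps
  have hglue : ∀ i, ∃ ei : (D.obj i).left ⟶ Y, ∀ U : B,
      pullback.fst ((D.obj i).hom ≫ f i) U.1.ι ≫ ei = el U i ≫ g U := by
    intro i
    refine ⟨Scheme.OpenCover.glueMorphismsOfLocallyDirected (𝒰.pullback₁ ((D.obj i).hom ≫ f i))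
      (fun U => el U i ≫ g U) ?_, fun U => ?_⟩
    · intro U V a
      change mmap D U.1.ι V.1.ι (S.homOfLE (leOfHom a)) (hr _) i ≫ el V i ≫ g V = _
      rw [← Category.assoc, ← htr1, Category.assoc, hcomp]
    · exact Scheme.OpenCover.map_glueMorphismsOfLocallyDirected
        (𝒰.pullback₁ ((D.obj i).hom ≫ f i)) _ _ U
  choose e he using hglue
  have hE1 : ∀ i, e i ≫ q = (D.obj i).hom ≫ f i := by
    intro i
    apply Scheme.Cover.hom_ext (𝒰.pullback₁ ((D.obj i).hom ≫ f i))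
    intro (U : B)
    change pullback.fst ((D.obj i).hom ≫ f i) U.1.ι ≫ e i ≫ q = pullback.fst _ _ ≫ _
    rw [← Category.assoc, he i U, Category.assoc, ← (hpb U).w, ← Category.assoc, (hl U).e_q,
      pullback.condition]
  let 𝒢 : Y.OpenCover := Scheme.Cover.mkOfCovers B Yl g hcov hopen
  refine ⟨Y, q, e, ?_, ?_⟩
  · intro i
    apply Scheme.isPullback_of_openCover (e i) (D.obj i).hom q (f i) 𝒢
    intro (U : B)
    change IsPullback (pullback.snd (e i) (g U)) (pullback.fst (e i) (g U) ≫ (D.obj i).hom)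
      (g U ≫ q) (f i)
    have hLeft : IsPullback (el U i) (pullback.fst ((D.obj i).hom ≫ f i) U.1.ι) (g U) (e i) := by
      refine IsPullback.of_right ?_ (he i U).symm (hpb U)
      rw [(hl U).e_q, hE1]
      exact (IsPullback.of_hasPullback _ _).flip
    have hBig : IsPullback (el U i) (pullback.fst ((D.obj i).hom ≫ f i) U.1.ι ≫ (D.obj i).hom)
        (g U ≫ q) (f i) := by
      have := ((hl U).1 i).paste_vert (IsPullback.of_hasPullback (f i) U.1.ι).flip
      have e1 : cmap D U.1.ι i ≫ pullback.fst (f i) U.1.ι =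
          pullback.fst ((D.obj i).hom ≫ f i) U.1.ι ≫ (D.obj i).hom := by simp [cmap]
      rw [e1, (hpb U).w] at this
      exact this
    exact IsPullback.of_iso hBig hLeft.flip.isoPullback (Iso.refl _) (Iso.refl _) (Iso.refl _)
      (by simp) (by simp) (by simp) (by simp)
  · intro T i k x₀ x₁ hx v
    apply Scheme.Cover.hom_ext (𝒰.pullback₁ (x₀ ≫ f i))
    intro (U : B)
    change pullback.fst (x₀ ≫ f i) U.1.ι ≫ (D.φ x₀ x₁ hx v).1 ≫ e k =
      pullback.fst (x₀ ≫ f i) U.1.ι ≫ v.1 ≫ e i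
    set s := pullback.fst (x₀ ≫ f i) U.1.ι with hs
    set b := pullback.snd (x₀ ≫ f i) U.1.ι with hb
    have hsb : s ≫ x₀ ≫ f i = b ≫ U.1.ι := pullback.condition
    have hv2 : v.1 ≫ (D.obj i).hom = x₀ := v.2
    have hw2 : (D.φ x₀ x₁ hx v).1 ≫ (D.obj k).hom = x₁ := (D.φ x₀ x₁ hx v).2
    let a : pullback (x₀ ≫ f i) U.1.ι ⟶ pullback ((D.obj i).hom ≫ f i) U.1.ι :=
      pullback.lift (s ≫ v.1) b (by rw [Category.assoc, reassoc_of% hv2, hsb])
    let c : pullback (x₀ ≫ f i) U.1.ι ⟶ pullback ((D.obj k).hom ≫ f k) U.1.ι :=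
      pullback.lift (s ≫ (D.φ x₀ x₁ hx v).1) b (by
        rw [Category.assoc, reassoc_of% hw2]
        exact (congrArg (fun z => s ≫ z) hx).symm.trans hsb)
    have hx' : (s ≫ x₀) ≫ f i = (s ≫ x₁) ≫ f k := by
      simp only [Category.assoc]
      exact congrArg (fun z => s ≫ z) hx
    let v' : Lifts (D.obj i) (s ≫ x₀) := ⟨s ≫ v.1, by rw [Category.assoc, hv2]⟩
    have hnat : (D.φ (s ≫ x₀) (s ≫ x₁) hx' v').1 = s ≫ (D.φ x₀ x₁ hx v).1 :=
      D.φ_natural s x₀ x₁ hx (s ≫ x₀) (s ≫ x₁) rfl rfl hx' v v' rfl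
    have key := (hl U).2 a c (s ≫ x₀) (s ≫ x₁) hx' v' (by simp [a, v']) (by simp [c, hnat])
      (by simp [a, c])
    have e1 : s ≫ v.1 = a ≫ pullback.fst _ _ := by simp [a]
    have e2 : s ≫ (D.φ x₀ x₁ hx v).1 = c ≫ pullback.fst _ _ := by simp [c]
    rw [← Category.assoc, ← Category.assoc, e1, e2, Category.assoc, Category.assoc, he, he,
      ← Category.assoc, ← Category.assoc, key]


end Groth.Agent.Lib.Helper81.DescZB
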