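import Mathlib
import Groth.Prelude.Def_DescFam
import Groth.Agent.Lib.Helper81.DescZB
import Groth.Agent.Lib.Helper81.DescR

/-!
# Descent data relative to a Zariski covering are effective
-/

set_option autoImplicit false
set_option backward.isDefEq.respectTransparency false
open CategoryTheory CategoryTheory.Limits AlgebraicGeometry Opposite Desc
universe u
namespace Groth.Agent.Lib.Helper81.DescZar

open Groth.Agent.Lib.Helper38.FpqcGlue Groth.Agent.Lib.Helper81.DescE Groth.Agent.Lib.Helper81.DescZ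
  Groth.Agent.Lib.Helper81.DescR Groth.Agent.Lib.Helper81.DescZB

/-- trivial descent: descent data relative to the identity are effective -/
lemma effective_id {S : Scheme.{u}} (E : SchDDFam (fun _ : PUnit.{u + 1} => 𝟙 S)) :
    E.IsEffective := by
  apply isEffective_of_isESol E (E.obj PUnit.unit).hom (fun _ => 𝟙 _)
  refine ⟨fun _ => ?_, ?_⟩
  · exact IsPullback.of_horiz_isIso ⟨by simp⟩
  · intro T i j x₀ x₁ h v
    have hx : x₀ = x₁ := by simpa using h
    subst hx
    cases i; cases j
    rw [E.φ_self]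

/-- if one member of the family has a section, every descent datum is effective -/
lemma effective_of_section {S : Scheme.{u}} {ι : Type u} {X : ι → Scheme.{u}} (f : ∀ i, X i ⟶ S)
    (i₀ : ι) (s : S ⟶ X i₀) (hs : s ≫ f i₀ = 𝟙 S) (D : SchDDFam f) : D.IsEffective := by
  have w : ∀ _ : PUnit.{u + 1}, s ≫ f i₀ = 𝟙 S ≫ 𝟙 S := fun _ => by simp [hs]
  refine isEffective_of_pull (uu := fun _ : PUnit.{u + 1} => 𝟙 S) (v := f) (α := fun _ => i₀)
    (g := fun _ => s) w ?_ D (effective_id _)
  intro j
  have : Sieve.ofArrows (fun _ : PUnit.{u + 1} => S) (fun _ => 𝟙 S) = ⊤ := by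
    rw [← Sieve.id_mem_iff_eq_top]
    exact Sieve.ofArrows_mk _ _ PUnit.unit
  rw [this, Sieve.pullback_top]
  exact Scheme.fpqcTopology.top_mem _

/-- descent data relative to a Zariski covering are effective -/
theorem exists_isESol_zariski {S : Scheme.{u}} {ι : Type u} {X : ι → Scheme.{u}} (f : ∀ i, X i ⟶ S)
    [∀ i, IsOpenImmersion (f i)] (hsurj : ∀ x : S, ∃ i, x ∈ Set.range (f i).base)
    (D : SchDDFam f) :
    ∃ (Y : Scheme.{u}) (q : Y ⟶ S) (e : ∀ i, (D.obj i).left ⟶ Y), IsESol D q e := by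
  have hf : Presieve.ofArrows X f ∈ Scheme.fpqcPrecoverage S := by
    apply Scheme.zariskiPrecoverage_le_fpqcPrecoverage
    rw [Scheme.zariskiPrecoverage, Scheme.ofArrows_mem_precoverage_iff]
    exact ⟨hsurj, inferInstance⟩
  let B : Set S.Opens := {O | ∃ i, O ≤ (f i).opensRange}
  have hB : TopologicalSpace.Opens.IsBasis B := by
    rw [TopologicalSpace.Opens.isBasis_iff_nbhd]
    intro O x hx
    obtain ⟨i, hi⟩ := hsurj x
    exact ⟨O ⊓ (f i).opensRange, ⟨i, inf_le_right⟩, ⟨hx, hi⟩, inf_le_left⟩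
  apply exists_isESol_of_basis hf B hB D
  rintro ⟨O, i, hO⟩
  apply exists_isLocSol_of_baseChange_isEffective
  let s₀ : (O : Scheme.{u}) ⟶ X i := IsOpenImmersion.lift (f i) O.ι (by
    rw [Scheme.Opens.range_ι]
    exact hO)
  let s : (O : Scheme.{u}) ⟶ pullback (f i) O.ι := pullback.lift s₀ (𝟙 _) (by simp [s₀])
  exact effective_of_section _ i s (by simp [s]) _

end Groth.Agent.Lib.Helper81.DescZar
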