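import Mathlib

/-!
# Affine communication for "locally essentially of finite type" (helper81)

Namespace `Groth.Agent.Lib.Helper81.EssFT`.
-/

set_option autoImplicit false
universe u

open AlgebraicGeometry CategoryTheory Limits TopologicalSpace

namespace Groth.Agent.Lib.Helper81.EssFT

/-- restriction to an (equal to a) basic open of an affine open is essentially of finite type. -/
lemma essFiniteType_res {X : Scheme.{u}} {U V : X.Opens} (hU : IsAffineOpen U) (a : Γ(X, U))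
    (e : V = X.basicOpen a) (i : V ⟶ U) : (X.presheaf.map i.op).hom.EssFiniteType := by
  letI := (X.presheaf.map i.op).hom.toAlgebra
  haveI := hU.isLocalization_of_eq_basicOpen a i e
  have := RingHom.EssFiniteType.holdsForLocalization (R := Γ(X, U)) (S := Γ(X, V))
    (Submonoid.powers a)
  exact this

/-- The affine communication step: if `f` is essentially of finite type on the pair of affine opens
`V₁ ≤ f⁻¹ U₁`, then for every affine open `U` and `x ∈ V₁` with `f x ∈ U` there is an affine open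
neighbourhood `V` of `x` with `V ≤ f⁻¹ U` and `Γ(U) → Γ(V)` essentially of finite type. -/
lemma communicate {X Y : Scheme.{u}} (f : X ⟶ Y) {U₁ : Y.Opens} (hU₁ : IsAffineOpen U₁)
    {V₁ : X.Opens} (hV₁ : IsAffineOpen V₁) (e₁ : V₁ ≤ f ⁻¹ᵁ U₁)
    (h₁ : (f.appLE U₁ V₁ e₁).hom.EssFiniteType) {U : Y.Opens} (hU : IsAffineOpen U) (x : X)
    (hxV₁ : x ∈ V₁) (hxU : f x ∈ U) :
    ∃ (V : X.Opens) (_ : IsAffineOpen V) (e : V ≤ f ⁻¹ᵁ U), x ∈ V ∧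
      (f.appLE U V e).hom.EssFiniteType := by
  obtain ⟨a, a₁, haa₁, hfx⟩ := exists_basicOpen_le_affine_inter hU hU₁ (f x) ⟨hxU, e₁ hxV₁⟩
  set D := Y.basicOpen a₁ with hD
  set b := (f.appLE U₁ V₁ e₁).hom a₁ with hb
  have hDU : D ≤ U := haa₁ ▸ Y.basicOpen_le a
  have hDU₁ : D ≤ U₁ := Y.basicOpen_le a₁
  have hV₂V₁ : X.basicOpen b ≤ V₁ := X.basicOpen_le b
  have hV₂ : X.basicOpen b = V₁ ⊓ f ⁻¹ᵁ D := by
    rw [hb, hD, Scheme.preimage_basicOpen, Scheme.Hom.appLE]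
    exact Scheme.basicOpen_res _ _ _
  have hV₂D : X.basicOpen b ≤ f ⁻¹ᵁ D := hV₂ ▸ inf_le_right
  refine ⟨X.basicOpen b, hV₁.basicOpen b, hV₂D.trans (f.preimage_mono hDU), ?_, ?_⟩
  · rw [hV₂]
    exact ⟨hxV₁, haa₁ ▸ hfx⟩
  · have h2 : (f.appLE U₁ (X.basicOpen b) (hV₂V₁.trans e₁)).hom.EssFiniteType := by
      rw [← Scheme.Hom.appLE_map f e₁ (homOfLE hV₂V₁).op]
      exact h₁.comp (essFiniteType_res hV₁ b rfl _)
    have h3 : (f.appLE D (X.basicOpen b) hV₂D).hom.EssFiniteType := by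
      rw [← Scheme.Hom.map_appLE f hV₂D (homOfLE hDU₁).op] at h2
      exact RingHom.EssFiniteType.of_comp _ h2
    rw [← Scheme.Hom.map_appLE f hV₂D (homOfLE hDU).op]
    exact (essFiniteType_res hU a haa₁.symm _).comp h3

lemma pointwise_of_cover {X Y : Scheme.{u}} (f : X ⟶ Y)
    (h : ∃ S : Set Y.affineOpens, (⋃ U ∈ S, ((U : Y.Opens) : Set ↥Y)) = Set.univ ∧
      ∀ U ∈ S, ∃ T : Set X.affineOpens, (⋃ V ∈ T, ((V : X.Opens) : Set ↥X)) = ((f ⁻¹ᵁ (U : Y.Opens)) : Set ↥X) ∧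
        ∀ V ∈ T, ∃ e : (V : X.Opens) ≤ f ⁻¹ᵁ (U : Y.Opens), (f.appLE (U : Y.Opens) (V : X.Opens) e).hom.EssFiniteType)
    (U : Y.affineOpens) (x : X) (hx : f x ∈ U.1) :
    ∃ (V : X.Opens) (_ : IsAffineOpen V) (e : V ≤ f ⁻¹ᵁ U.1), x ∈ V ∧
      (f.appLE U.1 V e).hom.EssFiniteType := by
  obtain ⟨S, hS, hS'⟩ := h
  have hfx : f x ∈ (⋃ U ∈ S, ((U : Y.Opens) : Set ↥Y)) := hS ▸ Set.mem_univ _
  simp only [Set.mem_iUnion] at hfx
  obtain ⟨U₁, hU₁, hfxU₁⟩ := hfx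
  obtain ⟨T, hT, hT'⟩ := hS' U₁ hU₁
  have hxU₁ : x ∈ ((f ⁻¹ᵁ U₁.1 : X.Opens) : Set X) := hfxU₁
  rw [← hT] at hxU₁
  simp only [Set.mem_iUnion] at hxU₁
  obtain ⟨V₁, hV₁, hxV₁⟩ := hxU₁
  obtain ⟨e₁, h₁⟩ := hT' V₁ hV₁
  exact communicate f U₁.2 V₁.2 e₁ h₁ U.2 x hxV₁ hx

lemma cover_of_pointwise {X Y : Scheme.{u}} (f : X ⟶ Y) (U : Y.affineOpens)
    (h : ∀ x : X, f x ∈ U.1 → ∃ (V : X.Opens) (_ : IsAffineOpen V) (e : V ≤ f ⁻¹ᵁ U.1), x ∈ V ∧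
      (f.appLE U.1 V e).hom.EssFiniteType) :
    ∃ T : Set X.affineOpens, (⋃ V ∈ T, ((V : X.Opens) : Set ↥X)) = ((f ⁻¹ᵁ (U : Y.Opens)) : Set ↥X) ∧
        ∀ V ∈ T, ∃ e : (V : X.Opens) ≤ f ⁻¹ᵁ (U : Y.Opens), (f.appLE (U : Y.Opens) (V : X.Opens) e).hom.EssFiniteType := by
  refine ⟨{W | ∃ e : W.1 ≤ f ⁻¹ᵁ U.1, (f.appLE U.1 W.1 e).hom.EssFiniteType}, ?_,
    fun W hW => hW⟩
  apply Set.Subset.antisymm
  · intro x hx
    simp only [Set.mem_iUnion] at hx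
    obtain ⟨W, ⟨e, -⟩, hxW⟩ := hx
    exact e hxW
  · intro x hx
    obtain ⟨V, hV, e, hxV, hft⟩ := h x hx
    simp only [Set.mem_iUnion]
    exact ⟨⟨V, hV⟩, ⟨e, hft⟩, hxV⟩

end Groth.Agent.Lib.Helper81.EssFT
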