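import Mathlib

set_option autoImplicit false
universe u
open TensorProduct

namespace Groth.Agent.Lib.Helper81.GalSplit

variable (k K : Type u) [Field k] [Field K] [Algebra k K]

/-- `a ⊗ b ↦ a * σ b` -/
noncomputable def mσ (σ : K ≃ₐ[k] K) : K ⊗[k] K →ₐ[K] K :=
  Algebra.TensorProduct.lift (AlgHom.id K K) (σ : K →ₐ[k] K) (fun _ _ => Commute.all _ _)

@[simp] lemma mσ_tmul (σ : K ≃ₐ[k] K) (a b : K) : mσ k K σ (a ⊗ₜ b) = a * σ b := by
  simp [mσ]

/-- `K ⊗ K → ∏_σ K` -/
noncomputable def Phi : K ⊗[k] K →ₐ[K] ((K ≃ₐ[k] K) → K) := AlgHom.pi (mσ k K)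

lemma Phi_apply (x : K ⊗[k] K) (σ : K ≃ₐ[k] K) : Phi k K x σ = mσ k K σ x := rfl

variable [FiniteDimensional k K]

theorem Phi_surjective : Function.Surjective (Phi k K) := by
  classical
  haveI : Fintype (K ≃ₐ[k] K) := Fintype.ofFinite _
  by_contra hns
  have hlt : LinearMap.range (Phi k K).toLinearMap < ⊤ := by
    rw [lt_top_iff_ne_top, Ne, LinearMap.range_eq_top]
    exact hns
  obtain ⟨f, hf0, hf⟩ := Submodule.exists_le_ker_of_lt_top _ hlt
  have key : ∀ b : K, ∑ σ : K ≃ₐ[k] K, σ b * f (fun j => if σ = j then 1 else 0) = 0 := by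
    intro b
    have h1 : f (Phi k K ((1 : K) ⊗ₜ[k] b)) = 0 := hf ⟨(1 : K) ⊗ₜ[k] b, rfl⟩
    rw [LinearMap.pi_apply_eq_sum_univ] at h1
    simpa [Phi_apply, smul_eq_mul] using h1
  have hlin := linearIndependent_toLinearMap k K K
  have hinj : Function.Injective (fun τ : K ≃ₐ[k] K => (τ : K →ₐ[k] K)) := by
    intro a b hab
    ext y
    exact congrArg (fun g : K →ₐ[k] K => g y) hab
  have hlin' := hlin.comp _ hinj
  rw [Fintype.linearIndependent_iff] at hlin'
  have hd := hlin' (fun σ => f (fun j => if σ = j then 1 else 0)) (by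
    ext b
    have := key b
    simpa [mul_comm] using this)
  apply hf0
  ext σ
  have h2 : (Pi.single σ (1 : K) : (K ≃ₐ[k] K) → K) = fun j => if σ = j then 1 else 0 := by
    ext j
    by_cases hj : σ = j
    · subst hj; simp
    · rw [if_neg hj, Pi.single_apply, if_neg (Ne.symm hj)]
  simpa [h2] using hd σ

variable [IsGalois k K]

theorem Phi_bijective : Function.Bijective (Phi k K) := by
  classical
  haveI : Fintype (K ≃ₐ[k] K) := Fintype.ofFinite _
  have hfr : Module.finrank K (K ⊗[k] K) = Module.finrank K ((K ≃ₐ[k] K) → K) := by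
    rw [Module.finrank_baseChange, Module.finrank_fintype_fun_eq_card, ← Nat.card_eq_fintype_card,
      IsGalois.card_aut_eq_finrank]
  have := LinearMap.injective_iff_surjective_of_finrank_eq_finrank hfr (f := (Phi k K).toLinearMap)
  exact ⟨this.mpr (Phi_surjective k K), Phi_surjective k K⟩

lemma mσ_eq (σ : K ≃ₐ[k] K) : (mσ k K σ).toRingHom =
    (Pi.evalRingHom (fun _ : K ≃ₐ[k] K => K) σ).comp (Phi k K).toRingHom := rfl

theorem mσ_flat (σ : K ≃ₐ[k] K) : (mσ k K σ).toRingHom.Flat := by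
  rw [mσ_eq]
  refine RingHom.Flat.comp (RingHom.Flat.of_bijective (Phi_bijective k K)) ?_
  rw [RingHom.Flat]
  letI : Algebra ((K ≃ₐ[k] K) → K) K := (Pi.evalRingHom (fun _ : K ≃ₐ[k] K => K) σ).toAlgebra
  haveI : Module.Projective ((K ≃ₐ[k] K) → K) K := Module.projective_of_isSemisimpleRing _ _
  infer_instance

theorem exists_mem_range_comap (p : PrimeSpectrum (K ⊗[k] K)) :
    ∃ σ : K ≃ₐ[k] K, p ∈ Set.range (PrimeSpectrum.comap (mσ k K σ).toRingHom) := by
  have h1 := PrimeSpectrum.iUnion_range_comap_comp_evalRingHom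
    (R := fun _ : K ≃ₐ[k] K => K) (Phi k K).toRingHom
  have h2 : p ∈ Set.range (PrimeSpectrum.comap (Phi k K).toRingHom) := by
    let e := RingEquiv.ofBijective (Phi k K).toRingHom (Phi_bijective k K)
    refine ⟨PrimeSpectrum.comap e.symm.toRingHom p, ?_⟩
    have : (Phi k K).toRingHom = e.toRingHom := rfl
    rw [this, ← PrimeSpectrum.comap_comp_apply]
    simp
  rw [← h1] at h2
  obtain ⟨σ, hσ⟩ := Set.mem_iUnion.mp h2
  exact ⟨σ, hσ⟩

end Groth.Agent.Lib.Helper81.GalSplit
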