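import Mathlib
import Groth.Agent.Lib.Helper81.GalSplit
import Groth.Agent.Lib.Helper81.DescZ

set_option autoImplicit false
universe u
open AlgebraicGeometry CategoryTheory Limits TensorProduct

namespace Groth.Agent.Lib.Helper81.GalSplitSch
open Groth.Agent.Lib.Helper81.GalSplit

variable (k K : Type u) [Field k] [Field K] [Algebra k K]

noncomputable abbrev e : Spec (CommRingCat.of K) ⟶ Spec (CommRingCat.of k) :=
  Spec.map (CommRingCat.ofHom (algebraMap k K))

noncomputable abbrev Q : Scheme.{u} := Spec (CommRingCat.of (K ⊗[k] K))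

noncomputable def p₁ : Q k K ⟶ Spec (CommRingCat.of K) :=
  Spec.map (CommRingCat.ofHom (S := K ⊗[k] K) Algebra.TensorProduct.includeLeftRingHom)

noncomputable def p₂ : Q k K ⟶ Spec (CommRingCat.of K) :=
  Spec.map (CommRingCat.ofHom (S := K ⊗[k] K) Algebra.TensorProduct.includeRight.toRingHom)

lemma isPullback : IsPullback (p₁ k K) (p₂ k K) (e k K) (e k K) :=
  isPullback_SpecMap_of_isPushout _ _ _ _ (CommRingCat.isPushout_tensorProduct k K K)

noncomputable def d (σ : K ≃ₐ[k] K) : Spec (CommRingCat.of K) ⟶ Q k K :=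
  Spec.map (CommRingCat.ofHom (mσ k K σ).toRingHom)

lemma d_p₁ (σ : K ≃ₐ[k] K) : d k K σ ≫ p₁ k K = 𝟙 _ := by
  rw [d, p₁, ← Spec.map_comp, ← CommRingCat.ofHom_comp]
  have : (mσ k K σ).toRingHom.comp Algebra.TensorProduct.includeLeftRingHom = RingHom.id K := by
    ext a; simp
  rw [this]
  exact Spec.map_id _

lemma d_p₂ (σ : K ≃ₐ[k] K) :
    d k K σ ≫ p₂ k K = Spec.map (CommRingCat.ofHom (σ : K →ₐ[k] K).toRingHom) := by
  rw [d, p₂, ← Spec.map_comp, ← CommRingCat.ofHom_comp]
  congr 2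
  ext a; simp

variable [FiniteDimensional k K] [IsGalois k K]

lemma d_mem : Presieve.ofArrows (fun _ : K ≃ₐ[k] K => Spec (CommRingCat.of K)) (d k K) ∈
    Scheme.fpqcPrecoverage (Q k K) := by
  let 𝒰 : (Q k K).Cover (Scheme.precoverage @Flat) :=
    { I₀ := K ≃ₐ[k] K
      X := fun _ => Spec (CommRingCat.of K)
      f := d k K
      mem₀ := by
        rw [Scheme.presieve₀_mem_precoverage_iff]
        refine ⟨fun x => ?_, fun σ => ?_⟩
        · obtain ⟨σ, y, hy⟩ := exists_mem_range_comap k K x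
          exact ⟨σ, y, hy⟩
        · exact (HasRingHomProperty.Spec_iff (P := @Flat)).mpr (mσ_flat k K σ) }
  haveI : Finite 𝒰.I₀ := inferInstanceAs (Finite (K ≃ₐ[k] K))
  haveI : ∀ i, QuasiCompact (𝒰.f i) := fun i => inferInstanceAs (QuasiCompact (d k K i))
  haveI : QuasiCompactCover 𝒰.toPreZeroHypercover := .of_finite
  exact (Scheme.Cover.ofQuasiCompactCover 𝒰).mem₀

end Groth.Agent.Lib.Helper81.GalSplitSch
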