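import Mathlib
open CategoryTheory AlgebraicGeometry Limits TopologicalSpace Topology Opposite
universe u
namespace Groth.Agent.Lib.Helper81.LargestOpen

section
variable (Q P : MorphismProperty Scheme.{u}) [Q.IsStableUnderBaseChange]
  [Q.IsStableUnderComposition]
  (hoi : ∀ {A B : Scheme.{u}} (j : A ⟶ B), IsOpenImmersion j → Q j)
  (hom : ∀ {A B : Scheme.{u}} (g : A ⟶ B), Q g → IsOpenMap g)
  [P.IsLocalAtSource (Scheme.precoverage Q)]

include hoi in
lemma descent {A B Y : Scheme.{u}} (h : A ⟶ B) (hQ : Q h) (hs : Function.Surjective h)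
    (f : B ⟶ Y) (hP : P (h ≫ f)) : P f := by
  let 𝒰 : Scheme.Cover.{u} (Scheme.precoverage Q) B :=
    { I₀ := PUnit
      X := fun _ => A
      f := fun _ => h
      mem₀ := by
        rw [Scheme.presieve₀_mem_precoverage_iff]
        exact ⟨fun x => ⟨PUnit.unit, hs x⟩, fun _ => hQ⟩ }
  exact MorphismProperty.IsLocalAtSource.of_zeroHypercover (P := P) 𝒰 (fun _ => hP)

include hoi in
lemma precomp {A B Y : Scheme.{u}} (g : A ⟶ B) (hQ : Q g) (f : B ⟶ Y) (hP : P f) : P (g ≫ f) := by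
  let 𝒰 : Scheme.Cover.{u} (Scheme.precoverage Q) B :=
    { I₀ := ULift Bool
      X := fun b => if b.down then A else B
      f := fun b => match b with
        | ⟨true⟩ => g
        | ⟨false⟩ => 𝟙 B
      mem₀ := by
        rw [Scheme.presieve₀_mem_precoverage_iff]
        refine ⟨fun x => ⟨⟨false⟩, x, rfl⟩, ?_⟩
        rintro ⟨_ | _⟩
        · exact hoi (𝟙 B) inferInstance
        · exact hQ }
  exact (MorphismProperty.IsLocalAtSource.iff_of_zeroHypercover (P := P) 𝒰).mp hP ⟨true⟩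

include hoi hom in
theorem generic {X Y : Scheme.{u}} (f : X ⟶ Y) :
    ∃ W : X.Opens, (P (W.ι ≫ f) ∧ ∀ W' : X.Opens, P (W'.ι ≫ f) → W' ≤ W) ∧
      ∀ (X' : Scheme.{u}) (g : X' ⟶ X), Q g → ∀ (V : X'.Opens),
        (P (V.ι ≫ g ≫ f) ∧ ∀ V' : X'.Opens, P (V'.ι ≫ g ≫ f) → V' ≤ V) → V = g ⁻¹ᵁ W := by
  let S : Set X.Opens := {W' | P (W'.ι ≫ f)}
  let W : X.Opens := sSup S
  have hW : P (W.ι ≫ f) := by
    let 𝒰 : Scheme.Cover.{u} (Scheme.precoverage Q) (W : Scheme.{u}) :=
      { I₀ := S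
        X := fun W' => (W'.1 : Scheme.{u})
        f := fun W' => X.homOfLE (le_sSup W'.2)
        mem₀ := by
          rw [Scheme.presieve₀_mem_precoverage_iff]
          refine ⟨fun x => ?_, fun _ => hoi _ inferInstance⟩
          obtain ⟨W', hW', hx⟩ := Opens.mem_sSup.mp x.2
          refine ⟨⟨W', hW'⟩, ⟨x.1, hx⟩, ?_⟩
          apply Subtype.ext
          exact Scheme.homOfLE_apply (le_sSup hW' : W' ≤ W) ⟨x.1, hx⟩ }
    refine MorphismProperty.IsLocalAtSource.of_zeroHypercover (P := P) 𝒰 (fun W' => ?_)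
    change P (X.homOfLE (le_sSup W'.2 : W'.1 ≤ W) ≫ W.ι ≫ f)
    rw [← Category.assoc, Scheme.homOfLE_ι]
    exact W'.2
  have hmax : ∀ W' : X.Opens, P (W'.ι ≫ f) → W' ≤ W := fun W' h => le_sSup h
  refine ⟨W, ⟨hW, hmax⟩, ?_⟩
  intro X' g hg V ⟨hV, hVmax⟩
  apply le_antisymm
  · -- g(V) ≤ W
    let gV : X.Opens := ⟨g '' V, hom g hg _ V.2⟩
    have hrange : Set.range (V.ι ≫ g) ⊆ Set.range gV.ι := by
      rw [Scheme.Opens.range_ι]
      rintro _ ⟨x, rfl⟩
      exact ⟨x.1, x.2, rfl⟩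
    let h : (V : Scheme.{u}) ⟶ gV := IsOpenImmersion.lift gV.ι (V.ι ≫ g) hrange
    have hh : h ≫ gV.ι = V.ι ≫ g := IsOpenImmersion.lift_fac _ _ _
    have hQh : Q h := by
      have h1 : Q (h ≫ gV.ι) := by
        rw [hh]
        exact Q.comp_mem _ _ (hoi _ inferInstance) hg
      exact MorphismProperty.of_postcomp (W := Q) (W' := MorphismProperty.monomorphisms _) h gV.ι
        (MorphismProperty.monomorphisms.infer_property _) h1
    have hsurj : Function.Surjective h := by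
      rintro ⟨y, x, hx, rfl⟩
      refine ⟨⟨x, hx⟩, ?_⟩
      apply Subtype.ext
      change (h ≫ gV.ι) ⟨x, hx⟩ = _
      rw [hh]
      rfl
    have hP : P (gV.ι ≫ f) := by
      apply descent Q P hoi h hQh hsurj
      rw [← Category.assoc, hh, Category.assoc]
      exact hV
    intro x hx
    exact hmax gV hP ⟨x, hx, rfl⟩
  · apply hVmax
    have : (g ⁻¹ᵁ W).ι ≫ g = (g ∣_ W) ≫ W.ι := (morphismRestrict_ι g W).symm
    rw [← Category.assoc, this, Category.assoc]
    apply precomp Q P hoi _ _ _ hW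
    exact Q.of_isPullback (isPullback_morphismRestrict g W).flip hg
end


end Groth.Agent.Lib.Helper81.LargestOpen
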