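import Mathlib
import Groth.Agent.S9347

/-!
# Maximal points (generic points of irreducible components) in quasi-separated schemes

* `exists_open_disjoint_of_maximal`: a maximal point not in a quasi-compact open `W` has an open
  neighbourhood disjoint from `W`.
* `exists_disjoint_affine_nhds`: pairwise distinct maximal points outside a quasi-compact open `Q₀`
  have pairwise disjoint affine open neighbourhoods, all disjoint from `Q₀`.
-/

open CategoryTheory AlgebraicGeometry Limits TopologicalSpace Topology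
universe u

namespace Groth.Agent.Lib.Helper81.MaxPts

/-- A maximal point not lying in a quasi-compact open `W` of a quasi-separated scheme has an open
neighbourhood disjoint from `W`. -/
theorem exists_open_disjoint_of_maximal (X : Scheme.{u}) [QuasiSeparatedSpace X] (η : X)
    (hη : closure ({η} : Set X) ∈ irreducibleComponents (X : Type u))
    (W : X.Opens) (hW : IsCompact (W : Set X)) (hηW : η ∉ W) :
    ∃ V : X.Opens, η ∈ V ∧ V ⊓ W = ⊥ := by
  haveI : CompactSpace W := isCompact_iff_compactSpace.mp hW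
  haveI : CompactSpace (W : Scheme.{u}) := ‹CompactSpace W›
  have hnot : η ∉ Set.range W.ι.base := by
    rw [Scheme.Opens.range_ι]; exact hηW
  obtain ⟨V, hηV, hV⟩ := Groth.Agent.S9347.result W.ι η hη hnot
  refine ⟨V, hηV, ?_⟩
  rw [eq_bot_iff]
  intro x ⟨hxV, hxW⟩
  have : (⟨x, hxW⟩ : W) ∈ W.ι ⁻¹ᵁ V := hxV
  rw [hV] at this
  exact this

/-- Two distinct maximal points: neither lies in the closure of the other. -/
theorem notMem_closure_of_maximal {X : Type*} [TopologicalSpace X] [T0Space X] (η η' : X)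
    (hη : closure ({η} : Set X) ∈ irreducibleComponents X) (hne : η ≠ η') :
    η ∉ closure ({η'} : Set X) := by
  intro h
  have h1 : closure ({η} : Set X) ⊆ closure {η'} := (isClosed_closure.closure_subset_iff).mpr
    (Set.singleton_subset_iff.mpr h)
  have h2 : closure ({η'} : Set X) ⊆ closure {η} :=
    hη.le_of_ge isIrreducible_singleton.closure h1
  have h3 : η' ⤳ η := specializes_iff_closure_subset.mpr h1
  have h4 : η ⤳ η' := specializes_iff_closure_subset.mpr h2
  exact hne (h4.antisymm h3).eq

open scoped Function in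
/-- Pairwise distinct maximal points outside a quasi-compact open `Q₀` of a quasi-separated scheme
have pairwise disjoint affine open neighbourhoods, all disjoint from `Q₀`. -/
theorem exists_disjoint_affine_nhds (X : Scheme.{u}) [QuasiSeparatedSpace X] {n : ℕ}
    (η : Fin n → X) (hη : ∀ i, closure ({η i} : Set X) ∈ irreducibleComponents (X : Type u))
    (hinj : Function.Injective η) (Q₀ : X.Opens) (hQ₀ : IsCompact (Q₀ : Set X))
    (hηQ : ∀ i, η i ∉ Q₀) :
    ∃ U : Fin n → X.Opens, (∀ i, IsAffineOpen (U i) ∧ η i ∈ U i) ∧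
      (∀ i j, i ≠ j → Disjoint (U i) (U j)) ∧ ∀ i, U i ⊓ Q₀ = ⊥ := by
  classical
  -- step 1: affine nbhds avoiding the closures of the other points
  have step1 : ∀ i, ∃ V : X.Opens, IsAffineOpen V ∧ η i ∈ V ∧
      ∀ j, j ≠ i → ∀ y ∈ V, y ∉ closure ({η j} : Set X) := by
    intro i
    have hcl : IsClosed (⋃ j ∈ (Finset.univ.erase i : Finset (Fin n)), closure ({η j} : Set X)) :=
      (Finset.univ.erase i).finite_toSet.isClosed_biUnion fun j _ => isClosed_closure
    let O : X.Opens := ⟨_, hcl.isOpen_compl⟩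
    have hO : η i ∈ O := by
      intro hmem
      obtain ⟨j, hj, hmem⟩ := Set.mem_iUnion₂.mp hmem
      have hji : j ≠ i := (Finset.mem_erase.mp hj).1
      exact notMem_closure_of_maximal (η i) (η j) (hη i) (fun e => hji (hinj e).symm) hmem
    obtain ⟨V, hV, hηV, hVO⟩ := exists_isAffineOpen_mem_and_subset (X := X) hO
    refine ⟨V, hV, hηV, ?_⟩
    intro j hji y hy hycl
    exact hVO hy (Set.mem_iUnion₂.mpr ⟨j, Finset.mem_erase.mpr ⟨hji, Finset.mem_univ _⟩, hycl⟩)
  choose V hV hηV hVavoid using step1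
  -- step 2
  have step2 : ∀ i, ∃ U : X.Opens, IsAffineOpen U ∧ η i ∈ U ∧ U ≤ V i ∧ U ⊓ Q₀ = ⊥ ∧
      ∀ j, j ≠ i → U ⊓ V j = ⊥ := by
    intro i
    let W : X.Opens := Q₀ ⊔ ⨆ j ∈ (Finset.univ.erase i : Finset (Fin n)), V j
    have hWc : IsCompact (W : Set X) := by
      have : (W : Set X) = (Q₀ : Set X) ∪ ⋃ j ∈ (Finset.univ.erase i : Finset (Fin n)),
          (V j : Set X) := by
        simp [W]
      rw [this]
      exact hQ₀.union ((Finset.univ.erase i).finite_toSet.isCompact_biUnion
        fun j _ => (hV j).isCompact)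
    have hηW : η i ∉ W := by
      intro hmem
      have hmem' : η i ∈ (Q₀ : Set X) ∪ ⋃ j ∈ (Finset.univ.erase i : Finset (Fin n)),
          (V j : Set X) := by
        have : (W : Set X) = (Q₀ : Set X) ∪ ⋃ j ∈ (Finset.univ.erase i : Finset (Fin n)),
            (V j : Set X) := by
          simp [W]
        rw [← this]; exact hmem
      rcases hmem' with h | h
      · exact hηQ i h
      · obtain ⟨j, hj, hmem⟩ := Set.mem_iUnion₂.mp h
        have hji : j ≠ i := (Finset.mem_erase.mp hj).1
        exact hVavoid j i hji.symm (η i) hmem (subset_closure rfl)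
    obtain ⟨O', hηO', hO'W⟩ := exists_open_disjoint_of_maximal X (η i) (hη i) W hWc hηW
    obtain ⟨U, hU, hηU, hUle⟩ := exists_isAffineOpen_mem_and_subset (X := X)
      (show η i ∈ O' ⊓ V i from ⟨hηO', hηV i⟩)
    have hUW : U ⊓ W = ⊥ := by
      rw [eq_bot_iff, ← hO'W]
      exact inf_le_inf_right _ (fun y hy => (hUle hy).1)
    refine ⟨U, hU, hηU, fun y hy => (hUle hy).2, ?_, ?_⟩
    · rw [eq_bot_iff, ← hUW]
      exact inf_le_inf_left _ le_sup_left
    · intro j hji
      rw [eq_bot_iff, ← hUW]
      refine inf_le_inf_left _ (le_trans ?_ le_sup_right)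
      exact le_iSup₂_of_le j (Finset.mem_erase.mpr ⟨hji, Finset.mem_univ _⟩) le_rfl
  choose U hU hηU hUV hUQ hUVj using step2
  refine ⟨U, fun i => ⟨hU i, hηU i⟩, ?_, hUQ⟩
  intro i j hij
  rw [disjoint_iff, eq_bot_iff, ← hUVj i j hij.symm]
  exact inf_le_inf_left _ (hUV j)

end Groth.Agent.Lib.Helper81.MaxPts
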