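import Mathlib

/-!
# Helper81: formal lemmas on the Néron mapping property with respect to opens `S₀ ≤ S₁` of a scheme `S`

* `bijective_map_iff` : for `L ⊣ F`, `F` bijective on `Hom(Z, N)` iff precomposition with the counit is.
* `bijective_precomp_iff` : transport of bijectivity of precomposition through an adjunction.
* `Θ` : the iso `(Z|S₁)|S₀ ≅ Z|S₀` over `Z`.
* `nmp_trans`, `nmp_cancel` : the two transitivity statements.
-/

set_option autoImplicit false
universe u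
open CategoryTheory Limits AlgebraicGeometry

namespace Groth.Agent.Lib.Helper81.NeronFormal

section Adj
universe v₁ v₂ u₁ u₂
variable {C : Type u₁} {D : Type u₂} [Category.{v₁} C] [Category.{v₂} D] {L : D ⥤ C} {F : C ⥤ D} (adj : L ⊣ F)

lemma map_eq_homEquiv (Z N : C) (γ : Z ⟶ N) :
    F.map γ = adj.homEquiv (F.obj Z) N (adj.counit.app Z ≫ γ) := by
  rw [Adjunction.homEquiv_unit, Functor.map_comp, ← Category.assoc, adj.right_triangle_components,
    Category.id_comp]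

lemma bijective_map_iff (Z N : C) :
    Function.Bijective (fun γ : Z ⟶ N => F.map γ) ↔
      Function.Bijective (fun γ : Z ⟶ N => adj.counit.app Z ≫ γ) := by
  have h : (fun γ : Z ⟶ N => F.map γ) =
      (adj.homEquiv (F.obj Z) N) ∘ (fun γ : Z ⟶ N => adj.counit.app Z ≫ γ) := by
    funext γ; exact map_eq_homEquiv adj Z N γ
  rw [h]
  exact Equiv.comp_bijective _ _

include adj in
lemma bijective_precomp_iff {X X' : D} (j : X' ⟶ X) (N : C) :
    Function.Bijective (fun h : X ⟶ F.obj N => j ≫ h) ↔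
      Function.Bijective (fun k : L.obj X ⟶ N => L.map j ≫ k) := by
  have h : (fun h : X ⟶ F.obj N => j ≫ h) ∘ (adj.homEquiv X N) =
      (adj.homEquiv X' N) ∘ (fun k : L.obj X ⟶ N => L.map j ≫ k) := by
    funext k
    simp only [Function.comp_apply]
    rw [Adjunction.homEquiv_naturality_left]
  rw [← Equiv.comp_bijective _ (adj.homEquiv X' N), ← h, Equiv.bijective_comp]

end Adj

section Sch
variable {S : Scheme.{u}} (S₀ S₁ : S.Opens) (h01 : S₀ ≤ S₁) (Z : Over S)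

/-- `(Z|S₁)|S₀` as an object over `S` -/
noncomputable abbrev A : Over S :=
  (Over.map S₁.ι).obj ((Over.map (S₁.ι ⁻¹ᵁ S₀).ι).obj
    ((Over.pullback (S₁.ι ⁻¹ᵁ S₀).ι).obj ((Over.pullback S₁.ι).obj Z)))

/-- `Z|S₀` as an object over `S` -/
noncomputable abbrev B : Over S := (Over.map S₀.ι).obj ((Over.pullback S₀.ι).obj Z)

noncomputable abbrev uA : A S₀ S₁ Z ⟶ Z :=
  (Over.map S₁.ι).map ((Over.mapPullbackAdj (S₁.ι ⁻¹ᵁ S₀).ι).counit.app ((Over.pullback S₁.ι).obj Z)) ≫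
    (Over.mapPullbackAdj S₁.ι).counit.app Z

noncomputable abbrev uB : B S₀ Z ⟶ Z := (Over.mapPullbackAdj S₀.ι).counit.app Z

lemma uA_left : (uA S₀ S₁ Z).left =
    pullback.fst (pullback.snd Z.hom S₁.ι) (S₁.ι ⁻¹ᵁ S₀).ι ≫ pullback.fst Z.hom S₁.ι := by
  simp [uA]

lemma uB_left : (uB S₀ Z).left = pullback.fst Z.hom S₀.ι := by
  simp [uB]

instance : IsOpenImmersion (uA S₀ S₁ Z).left := by
  rw [uA_left]; infer_instance

instance : IsOpenImmersion (uB S₀ Z).left := by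
  rw [uB_left]; infer_instance

include h01 in
lemma range_eq : Set.range (uA S₀ S₁ Z).left = Set.range (uB S₀ Z).left := by
  rw [uA_left, uB_left, Scheme.Pullback.range_fst, Scheme.Hom.comp_base, TopCat.coe_comp, Set.range_comp,
    Scheme.Pullback.range_fst, Scheme.Opens.range_ι, Scheme.Opens.range_ι]
  ext z
  constructor
  · rintro ⟨w, hw, rfl⟩
    change Z.hom (pullback.fst Z.hom S₁.ι w) ∈ S₀
    have h1 : Z.hom (pullback.fst Z.hom S₁.ι w) = S₁.ι (pullback.snd Z.hom S₁.ι w) := by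
      rw [← Scheme.Hom.comp_apply, ← Scheme.Hom.comp_apply, pullback.condition]
    rw [h1]
    exact hw
  · intro hz
    change Z.hom z ∈ S₀ at hz
    have hz1 : z ∈ Set.range (pullback.fst Z.hom S₁.ι) := by
      rw [Scheme.Pullback.range_fst, Scheme.Opens.range_ι]
      exact h01 hz
    obtain ⟨w, rfl⟩ := hz1
    refine ⟨w, ?_, rfl⟩
    change S₁.ι (pullback.snd Z.hom S₁.ι w) ∈ S₀
    have h1 : Z.hom (pullback.fst Z.hom S₁.ι w) = S₁.ι (pullback.snd Z.hom S₁.ι w) := by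
      rw [← Scheme.Hom.comp_apply, ← Scheme.Hom.comp_apply, pullback.condition]
    rw [← h1]
    exact hz

/-- the comparison iso over `Z` -/
noncomputable def Θ : A S₀ S₁ Z ≅ B S₀ Z :=
  Over.isoMk (IsOpenImmersion.isoOfRangeEq (uA S₀ S₁ Z).left (uB S₀ Z).left (range_eq S₀ S₁ h01 Z)) (by
    rw [← Over.w (uB S₀ Z), ← Category.assoc, IsOpenImmersion.isoOfRangeEq_hom_fac, Over.w])

lemma Θ_hom_uB : (Θ S₀ S₁ h01 Z).hom ≫ uB S₀ Z = uA S₀ S₁ Z := by
  ext
  rw [Over.comp_left]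
  exact IsOpenImmersion.isoOfRangeEq_hom_fac (uA S₀ S₁ Z).left (uB S₀ Z).left (range_eq S₀ S₁ h01 Z)


include h01 in
theorem core (N : Over S)
    (hW : Function.Bijective (fun g : (Over.pullback S₁.ι).obj Z ⟶ (Over.pullback S₁.ι).obj N =>
      (Over.pullback (S₁.ι ⁻¹ᵁ S₀).ι).map g)) :
    Function.Bijective (fun g : Z ⟶ N => (Over.pullback S₀.ι).map g) ↔
      Function.Bijective (fun g : Z ⟶ N => (Over.pullback S₁.ι).map g) := by
  rw [bijective_map_iff (Over.mapPullbackAdj (S₁.ι ⁻¹ᵁ S₀).ι),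
    bijective_precomp_iff (Over.mapPullbackAdj S₁.ι)] at hW
  rw [bijective_map_iff (Over.mapPullbackAdj S₀.ι), bijective_map_iff (Over.mapPullbackAdj S₁.ι)]
  have h1 : (fun γ : Z ⟶ N => uA S₀ S₁ Z ≫ γ) =
      (fun k : B S₀ Z ⟶ N => (Θ S₀ S₁ h01 Z).hom ≫ k) ∘ (fun γ : Z ⟶ N => uB S₀ Z ≫ γ) := by
    funext γ
    simp only [Function.comp_apply]
    rw [← Category.assoc, Θ_hom_uB]
  have h2 : Function.Bijective (fun k : B S₀ Z ⟶ N => (Θ S₀ S₁ h01 Z).hom ≫ k) := by
    rw [Function.bijective_iff_has_inverse]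
    refine ⟨fun k => (Θ S₀ S₁ h01 Z).inv ≫ k, fun k => ?_, fun k => ?_⟩
    · simp only [Iso.inv_hom_id_assoc]
    · simp only [Iso.hom_inv_id_assoc]
  have h3 : Function.Bijective (fun γ : Z ⟶ N => uA S₀ S₁ Z ≫ γ) ↔
      Function.Bijective (fun γ : Z ⟶ N => uB S₀ Z ≫ γ) := by
    rw [h1]
    exact Function.Bijective.of_comp_iff' h2 _
  have h4 : (fun γ : Z ⟶ N => uA S₀ S₁ Z ≫ γ) =
      (fun k => (Over.map S₁.ι).map ((Over.mapPullbackAdj (S₁.ι ⁻¹ᵁ S₀).ι).counit.app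
        ((Over.pullback S₁.ι).obj Z)) ≫ k) ∘
      (fun γ : Z ⟶ N => (Over.mapPullbackAdj S₁.ι).counit.app Z ≫ γ) := by
    funext γ
    simp only [Function.comp_apply, uA, Category.assoc]
  rw [← h3, h4]
  exact Function.Bijective.of_comp_iff' hW _

end Sch

end Groth.Agent.Lib.Helper81.NeronFormal
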