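import Mathlib
import Groth.Prelude.Def_QuotSh
import Groth.Agent.Lib.Helper40.QuotShApi
import Groth.Agent.Lib.Helper40.QuotShEff
import Groth.Agent.Lib.Helper40.QuotSection

set_option autoImplicit false
universe u
open CategoryTheory CategoryTheory.Limits AlgebraicGeometry Opposite

namespace Groth.Agent.Lib.Helper81.QuotPts
open Groth.Agent.Lib.Helper40.QuotShApi

/-- an fpqc covering presieve contains a `u`-small fpqc covering family -/
lemma exists_small_family {Y : Scheme.{u}} (R : Presieve Y) (hR : R ∈ Scheme.fpqcPrecoverage Y) :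
    ∃ (ι : Type u) (X : ι → Scheme.{u}) (f : ∀ i, X i ⟶ Y),
      Presieve.ofArrows X f ∈ Scheme.fpqcPrecoverage Y ∧ ∀ i, R (f i) := by
  unfold Scheme.fpqcPrecoverage at hR
  rw [Scheme.mem_propQCPrecoverage_iff_exists_quasiCompactCover] at hR
  obtain ⟨𝒰, hqc, rfl⟩ := hR
  let 𝒱 := 𝒰.qculift
  refine ⟨𝒱.I₀, 𝒱.X, 𝒱.f, (Scheme.Cover.ofQuasiCompactCover 𝒱).mem₀, ?_⟩
  rintro (i | i)
  · exact ⟨_⟩
  · exact ⟨_⟩

variable (K : Precoverage Scheme.{u}) {S : Scheme.{u}}

/-- evaluation at the universal element -/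
noncomputable def ev {V : Over S} {F : QuotSh.Sh K S} (σ : QuotSh.rep K V ⟶ F) :
    F.obj.obj (op V) :=
  uliftYonedaEquiv.{u + 1} (X := V) (F := F.obj)
    (show uliftYoneda.{u + 1}.obj V ⟶ F.obj from toSheafify (QuotSh.J K S) (yo V) ≫ σ.hom)

lemma ev_injective {V : Over S} {F : QuotSh.Sh K S} (σ σ' : QuotSh.rep K V ⟶ F)
    (h : ev K σ = ev K σ') : σ = σ' := by
  apply Sheaf.hom_ext
  apply sheafify_hom_ext _ _ _ F.property
  exact (uliftYonedaEquiv.{u + 1} (X := V) (F := F.obj)).injective h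

lemma ev_repMap_comp {V W : Over S} {F : QuotSh.Sh K S} (g : W ⟶ V) (σ : QuotSh.rep K V ⟶ F) :
    ev K (QuotSh.repMap K g ≫ σ) = F.obj.map g.op (ev K σ) := by
  unfold ev
  rw [uliftYonedaEquiv_naturality]
  congr 1
  change toSheafify (QuotSh.J K S) (yo W) ≫ sheafifyMap (QuotSh.J K S) (yoMap g) ≫ σ.hom =
    yoMap g ≫ toSheafify (QuotSh.J K S) (yo V) ≫ σ.hom
  rw [← Category.assoc, ← toSheafify_naturality, Category.assoc]

/-- the point of `rep U` given by `u : W ⟶ U` -/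
noncomputable def pt {W U : Over S} (u : W ⟶ U) : (QuotSh.rep K U).obj.obj (op W) :=
  (toSheafify (QuotSh.J K S) (yo U)).app (op W) (ULift.up u)

lemma ev_repMap {W U : Over S} {F : QuotSh.Sh K S} (u : W ⟶ U) (φ : QuotSh.rep K U ⟶ F) :
    ev K (QuotSh.repMap K u ≫ φ) = φ.hom.app (op W) (pt K u) := by
  unfold ev pt
  have e : (show uliftYoneda.{u + 1}.obj W ⟶ F.obj from
      toSheafify (QuotSh.J K S) (yo W) ≫ (QuotSh.repMap K u ≫ φ).hom) =
      (show uliftYoneda.{u + 1}.obj W ⟶ F.obj from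
        yoMap u ≫ toSheafify (QuotSh.J K S) (yo U) ≫ φ.hom) := by
    change toSheafify (QuotSh.J K S) (yo W) ≫ sheafifyMap (QuotSh.J K S) (yoMap u) ≫ φ.hom =
      yoMap u ≫ toSheafify (QuotSh.J K S) (yo U) ≫ φ.hom
    rw [← Category.assoc, ← toSheafify_naturality, Category.assoc]
  rw [e]
  change φ.hom.app (op W) ((toSheafify (QuotSh.J K S) (yo U)).app (op W)
    ((yoMap u).app (op W) (ULift.up (𝟙 W)))) = _
  congr 2

variable {R U : Over S} (s t : R ⟶ U)

/-- the sieve of local lifts of a section of the quotient sheaf -/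
def liftS {T : Over S} (σ : QuotSh.rep K T ⟶ QuotSh.quot K s t) : Sieve T where
  arrows T' g := ∃ u : T' ⟶ U, QuotSh.repMap K g ≫ σ = QuotSh.repMap K u ≫ QuotSh.quotπ K s t
  downward_closed := by
    rintro T' T'' g ⟨u, hu⟩ h
    refine ⟨h ≫ u, ?_⟩
    rw [repMap_comp, repMap_comp, Category.assoc, Category.assoc, hu]

theorem liftS_mem {T : Over S} (σ : QuotSh.rep K T ⟶ QuotSh.quot K s t) :
    liftS K s t σ ∈ QuotSh.J K S T := by
  haveI : Sheaf.IsLocallySurjective (QuotSh.quotπ K s t) :=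
    (Sheaf.isLocallySurjective_iff_epi _).mpr inferInstance
  haveI : Presheaf.IsLocallySurjective (QuotSh.J K S) (QuotSh.quotπ K s t).hom := this
  let γ : yo U ⟶ (QuotSh.quot K s t).obj :=
    toSheafify (QuotSh.J K S) (yo U) ≫ (QuotSh.quotπ K s t).hom
  haveI : Presheaf.IsLocallySurjective (QuotSh.J K S) γ := inferInstance
  refine GrothendieckTopology.superset_covering _ ?_
    (Presheaf.imageSieve_mem (QuotSh.J K S) γ (ev K σ))
  rintro T' g ⟨⟨u⟩, hu⟩
  refine ⟨u, ?_⟩
  apply ev_injective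
  rw [ev_repMap_comp, ev_repMap]
  exact hu.symm

theorem eqvSieve_mem {T : Over S} (a b : T ⟶ U)
    (h : QuotSh.repMap K a ≫ QuotSh.quotπ K s t = QuotSh.repMap K b ≫ QuotSh.quotπ K s t) :
    eqvSieve s t a b ∈ QuotSh.J K S T := by
  have h1 : (QuotSh.quotπ K s t).hom.app (op T) (pt K a) =
      (QuotSh.quotπ K s t).hom.app (op T) (pt K b) := by
    rw [← ev_repMap, ← ev_repMap, h]
  have h2 := congrArg ((quotIso K s t).hom.hom.app (op T)) h1
  have e1 : (QuotSh.quotπ K s t).hom ≫ (quotIso K s t).hom.hom =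
      sheafifyMap (QuotSh.J K S) (Qπ s t) :=
    congrArg (fun f => f.hom) (quotπ_quotIso_hom K s t)
  have e3 : toSheafify (QuotSh.J K S) (yo U) ≫ (QuotSh.quotπ K s t).hom ≫
      (quotIso K s t).hom.hom = Qπ s t ≫ toSheafify (QuotSh.J K S) (Q s t) := by
    rw [e1, ← toSheafify_naturality]
  have key : ∀ c : T ⟶ U, (quotIso K s t).hom.hom.app (op T)
      ((QuotSh.quotπ K s t).hom.app (op T) (pt K c)) =
      (toSheafify (QuotSh.J K S) (Q s t)).app (op T)
        (ULift.up (Quot.mk (PRel s t T) c) : ULift.{u + 1} (Quot (PRel s t T))) := by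
    intro c
    exact congrFun (congrArg (fun f => (ConcreteCategory.hom (f.app (op T)) : _ → _)) e3)
      (ULift.up c)
  rw [key, key] at h2
  rw [← equalizerSieve_Q]
  exact Presheaf.equalizerSieve_mem (QuotSh.J K S) (toSheafify (QuotSh.J K S) (Q s t)) _ _ h2

/-- points of `U` with the same image in the quotient sheaf of an equivalence relation are
related (subcanonical topology) -/
theorem pRel_of_eq [(QuotSh.J K S).Subcanonical] [IsEquivalenceRelation s t] {T : Over S}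
    (a b : T ⟶ U)
    (h : QuotSh.repMap K a ≫ QuotSh.quotπ K s t = QuotSh.repMap K b ≫ QuotSh.quotπ K s t) :
    PRel s t T a b := by
  have hSv := eqvSieve_mem K s t a b h
  have hex : ∀ ⦃T' : Over S⦄ (g : T' ⟶ T), eqvSieve s t a b g → PRel s t T' (g ≫ a) (g ≫ b) :=
    fun T' g hg => (eqvGen_pRel_iff s t _ _).mp hg
  choose ρ hρ1 hρ2 using hex
  have hR : Presieve.IsSheaf (QuotSh.J K S) (yoneda.obj R) :=
    GrothendieckTopology.Subcanonical.isSheaf_of_isRepresentable _
  have hU : Presieve.IsSheaf (QuotSh.J K S) (yoneda.obj U) :=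
    GrothendieckTopology.Subcanonical.isSheaf_of_isRepresentable _
  let x : Presieve.FamilyOfElements (yoneda.obj R) (eqvSieve s t a b).arrows :=
    fun T' g hg => ρ g hg
  have hx : x.Compatible := by
    intro Y₁ Y₂ Z g₁ g₂ f₁ f₂ h₁ h₂ hcomm
    show g₁ ≫ ρ f₁ h₁ = g₂ ≫ ρ f₂ h₂
    apply pRel_unique s t
    · rw [Category.assoc, Category.assoc, hρ1, hρ1, ← Category.assoc, ← Category.assoc, hcomm]
    · rw [Category.assoc, Category.assoc, hρ2, hρ2, ← Category.assoc, ← Category.assoc, hcomm]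
  let r : T ⟶ R := (hR _ hSv).amalgamate x hx
  have hr : ∀ ⦃T' : Over S⦄ (g : T' ⟶ T) (hg : eqvSieve s t a b g), g ≫ r = ρ g hg :=
    fun T' g hg => (hR _ hSv).valid_glue hx g hg
  refine ⟨r, ?_, ?_⟩
  · apply (hU _ hSv).isSeparatedFor.ext
    intro T' g hg
    show g ≫ r ≫ s = g ≫ a
    rw [← Category.assoc, hr g hg, hρ1]
  · apply (hU _ hSv).isSeparatedFor.ext
    intro T' g hg
    show g ≫ r ≫ t = g ≫ b
    rw [← Category.assoc, hr g hg, hρ2]

lemma eq_of_pRel {T : Over S} {a b : T ⟶ U} (h : PRel s t T a b) :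
    QuotSh.repMap K a ≫ QuotSh.quotπ K s t = QuotSh.repMap K b ≫ QuotSh.quotπ K s t := by
  obtain ⟨r, rfl, rfl⟩ := h
  rw [repMap_comp, repMap_comp, Category.assoc, Category.assoc, QuotSh.quot_condition]

/-- maps out of `rep T` agreeing on a covering sieve are equal -/
lemma hom_ext_of_sieve {T : Over S} {F : QuotSh.Sh K S} (α β : QuotSh.rep K T ⟶ F)
    (Sv : Sieve T) (hSv : Sv ∈ QuotSh.J K S T)
    (h : ∀ ⦃T' : Over S⦄ (g : T' ⟶ T), Sv g → QuotSh.repMap K g ≫ α = QuotSh.repMap K g ≫ β) :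
    α = β := by
  apply ev_injective
  have hsep := ((isSheaf_iff_isSheaf_of_type _ _).mp F.property).isSeparated
  apply (hsep _ hSv).ext
  intro T' g hg
  have := congrArg (ev K) (h g hg)
  rw [ev_repMap_comp, ev_repMap_comp] at this
  exact this

end Groth.Agent.Lib.Helper81.QuotPts
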