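import Mathlib
import Groth.Agent.Lib.Helper81.ClosedDesc2

set_option autoImplicit false
set_option backward.isDefEq.respectTransparency false
universe u
open CategoryTheory CategoryTheory.Limits AlgebraicGeometry

namespace Groth.Agent.Lib.Helper81.ReprLocal
open Desc Groth.Agent.Lib.Helper81.ClosedDesc Groth.Agent.Lib.Helper81.ClosedDesc2

/-- fpqc-local subfunctors of `h_X` which are representable by morphisms in `𝒞` locally on an
fpqc covering family of `X` are representable by a morphism in `𝒞`. -/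
def ReprPrinciple (𝒞 : MorphismProperty Scheme.{u}) : Prop :=
  ∀ {X : Scheme.{u}} {ι : Type u} {Xi : ι → Scheme.{u}} (f : ∀ i, Xi i ⟶ X)
    (_ : Presieve.ofArrows Xi f ∈ Scheme.fpqcPrecoverage X)
    (PP : ∀ ⦃T : Scheme.{u}⦄, (T ⟶ X) → Prop)
    (_ : ∀ ⦃T T' : Scheme.{u}⦄ (a : T' ⟶ T) (x : T ⟶ X), PP x → PP (a ≫ x))
    (_ : ∀ ⦃T : Scheme.{u}⦄ (x : T ⟶ X) {κ : Type u} {W : κ → Scheme.{u}} (b : ∀ k, W k ⟶ T),
        Presieve.ofArrows W b ∈ Scheme.fpqcPrecoverage T → (∀ k, PP (b k ≫ x)) → PP x)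
    {Z : ι → Scheme.{u}} (c : ∀ i, Z i ⟶ Xi i) (_ : ∀ i, 𝒞 (c i))
    (_ : ∀ i ⦃T : Scheme.{u}⦄ (y : T ⟶ Xi i), (∃ z : T ⟶ Z i, z ≫ c i = y) ↔ PP (y ≫ f i)),
    ∃ (Z₀ : Scheme.{u}) (c₀ : Z₀ ⟶ X), 𝒞 c₀ ∧
      ∀ ⦃T : Scheme.{u}⦄ (x : T ⟶ X), (∃ z : T ⟶ Z₀, z ≫ c₀ = x) ↔ PP x

section
variable {X : Scheme.{u}} {ι : Type u} {Xi : ι → Scheme.{u}} (f : ∀ i, Xi i ⟶ X)
    (PP : ∀ ⦃T : Scheme.{u}⦄, (T ⟶ X) → Prop)
    {Z : ι → Scheme.{u}} (c : ∀ i, Z i ⟶ Xi i) [∀ i, Mono (c i)]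
    (hc : ∀ i ⦃T : Scheme.{u}⦄ (y : T ⟶ Xi i), (∃ z : T ⟶ Z i, z ≫ c i = y) ↔ PP (y ≫ f i))

omit [∀ i, Mono (c i)] in
lemma lifts_subsingleton [∀ i, Mono (c i)] (i : ι) {T : Scheme.{u}} (x : T ⟶ Xi i) :
    Subsingleton (Lifts (Over.mk (c i)) x) :=
  ⟨fun a b => Subtype.ext ((cancel_mono (c i)).1 (a.2.trans b.2.symm))⟩

omit [∀ i, Mono (c i)] in
lemma lifts_comp_eq {i : ι} {T : Scheme.{u}} {x : T ⟶ Xi i} (v : Lifts (Over.mk (c i)) x) :
    v.1 ≫ c i = x := v.2

/-- the descent datum of monomorphisms defined by a subfunctor -/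
noncomputable def ddOfMono : SchDDFam f where
  obj i := Over.mk (c i)
  φ T i j x₀ x₁ h :=
    haveI := lifts_subsingleton c i x₀
    haveI := lifts_subsingleton c j x₁
    equivOfSubsingletonOfSubsingleton
      (fun v => ⟨((hc j x₁).2 (h ▸ (hc i x₀).1 ⟨v.1, v.2⟩)).choose,
        ((hc j x₁).2 (h ▸ (hc i x₀).1 ⟨v.1, v.2⟩)).choose_spec⟩)
      (fun v => ⟨((hc i x₀).2 (h.symm ▸ (hc j x₁).1 ⟨v.1, v.2⟩)).choose,
        ((hc i x₀).2 (h.symm ▸ (hc j x₁).1 ⟨v.1, v.2⟩)).choose_spec⟩)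
  φ_natural T T' g i j x₀ x₁ h y₀ y₁ h0 h1 h' v v' hv := by
    apply (cancel_mono (c j)).1
    rw [Category.assoc]
    rw [lifts_comp_eq c, lifts_comp_eq c]
    exact h1.symm
  φ_self T i x v := (lifts_subsingleton c i x).elim _ _
  φ_comp T i j k x₀ x₁ x₂ h₀₁ h₁₂ v := (lifts_subsingleton c k x₂).elim _ _

end

theorem reprPrinciple_isClosedImmersion : ReprPrinciple (@IsClosedImmersion : MorphismProperty Scheme.{u}) := by
  intro X ι Xi f hf PP hcomp hloc Z c h𝒞 hc
  haveI : ∀ i, IsClosedImmersion (c i) := h𝒞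
  haveI : ∀ i, Mono (c i) := fun i => inferInstance
  let D := ddOfMono f PP c hc
  have hf1 : Presieve.ofArrows Xi f ∈ Scheme.qcPrecoverage X := hf.1
  have hf2 : Presieve.ofArrows Xi f ∈ Scheme.precoverage @Flat X := hf.2
  have hflat : ∀ i, Flat (f i) := ((Scheme.ofArrows_mem_precoverage_iff _).1 hf2).2
  have hqc : QuasiCompactCover (⟨ι, Xi, f⟩ : PreZeroHypercover.{u} X) :=
    Scheme.presieve₀_mem_qcPrecoverage_iff.mp hf1
  obtain ⟨Z₀, c₀, hc₀, hZ⟩ := exists_repr D hflat hqc (fun i => h𝒞 i)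
  refine ⟨Z₀, c₀, hc₀, fun T x => ?_⟩
  rw [hZ T x]
  constructor
  · intro hQ
    apply hloc x (fun i => pullback.fst x (f i))
      (Precoverage.mem_coverings_of_isPullback f hf x _ (fun i => pullback.snd x (f i))
        (fun i => IsPullback.of_hasPullback x (f i)))
    intro i
    have h1 : InZ D i (pullback.snd x (f i)) :=
      hQ i _ (pullback.fst x (f i)) (pullback.snd x (f i)) pullback.condition.symm
    obtain ⟨z, hz⟩ := (inZ_iff_exists D _).1 h1
    rw [pullback.condition]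
    exact (hc i _).1 ⟨z, hz⟩
  · intro hPP i T' a y hy
    rw [inZ_iff_exists]
    apply (hc i y).2
    rw [hy]
    exact hcomp a x hPP

/-- (copied from helper30's `AlgSpFpqc`) A subset of an affine scheme is open as soon as its
preimages under a finite jointly surjective family of flat maps from affine schemes are open. -/
theorem isOpen_of_flat_finite_family {V : Scheme.{u}} [IsAffine V] {m : ℕ} (W : Fin m → Scheme.{u})
    (hW : ∀ j, IsAffine (W j)) (c : ∀ j, W j ⟶ V) (hc : ∀ j, Flat (c j))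
    (hsurj : ∀ v : V, ∃ j, v ∈ Set.range (c j)) (A : Set V)
    (hA : ∀ j, IsOpen ((c j) ⁻¹' A)) : IsOpen A := by
  let c' : ∐ W ⟶ V := Sigma.desc c
  have hc'f : Flat c' := IsZariskiLocalAtSource.sigmaDesc (P := @Flat) hc
  have hc's : Surjective c' := ⟨fun v => by
    obtain ⟨j, w, hw⟩ := hsurj v
    refine ⟨Sigma.ι W j w, ?_⟩
    rw [← Scheme.Hom.comp_apply, Sigma.ι_desc]
    exact hw⟩
  have hc'q : QuasiCompact c' := inferInstance
  have hq : Topology.IsQuotientMap c'.base := Flat.isQuotientMap_of_surjective c'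
  rw [← hq.isOpen_preimage]
  have e : c' ⁻¹' A = ⋃ j, (Sigma.ι W j) '' ((c j) ⁻¹' A) := by
    ext x
    simp only [Set.mem_preimage, Set.mem_iUnion, Set.mem_image]
    constructor
    · intro hx
      obtain ⟨j, w, rfl⟩ := (sigmaOpenCover W).exists_eq x
      refine ⟨j, w, ?_, rfl⟩
      have : c' ((Sigma.ι W j) w) = (c j) w := by
        rw [← Scheme.Hom.comp_apply, Sigma.ι_desc]
      rw [← this]
      exact hx
    · rintro ⟨j, w, hw, rfl⟩
      have : c' ((Sigma.ι W j) w) = (c j) w := by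
        rw [← Scheme.Hom.comp_apply, Sigma.ι_desc]
      rw [this]
      exact hw
  change IsOpen (c' ⁻¹' A)
  rw [e]
  exact isOpen_iUnion fun j => (Sigma.ι W j).isOpenEmbedding.isOpenMap _ (hA j)

/-- a subset is open if its preimages under an fpqc covering family are open -/
theorem isOpen_of_fpqc_family {X : Scheme.{u}} {ι : Type u} {Xi : ι → Scheme.{u}}
    (f : ∀ i, Xi i ⟶ X) (hf : Presieve.ofArrows Xi f ∈ Scheme.fpqcPrecoverage X) (A : Set X)
    (hA : ∀ i, IsOpen ((f i) ⁻¹' A)) : IsOpen A := by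
  have hf1 : Presieve.ofArrows Xi f ∈ Scheme.qcPrecoverage X := hf.1
  have hf2 : Presieve.ofArrows Xi f ∈ Scheme.precoverage @Flat X := hf.2
  have hflat : ∀ i, Flat (f i) := ((Scheme.ofArrows_mem_precoverage_iff _).1 hf2).2
  have hqc : QuasiCompactCover (⟨ι, Xi, f⟩ : PreZeroHypercover.{u} X) :=
    Scheme.presieve₀_mem_qcPrecoverage_iff.mp hf1
  have key : ∀ V₀ : X.affineOpens, IsOpen (V₀.1.ι ⁻¹' A) := by
    intro V₀
    haveI : IsAffine V₀.1.toScheme := V₀.2
    obtain ⟨n, idx, V, hV, hUnion⟩ :=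
      QuasiCompactCover.exists_isAffineOpen_of_isCompact
        (⟨ι, Xi, f⟩ : PreZeroHypercover.{u} X) V₀.2.isCompact
    have hrange : ∀ j, Set.range ((V j).ι ≫ f (idx j)).base ⊆ Set.range V₀.1.ι.base := by
      rintro j _ ⟨w, rfl⟩
      rw [Scheme.Opens.range_ι, ← hUnion]
      refine Set.mem_iUnion.mpr ⟨j, ?_⟩
      exact ⟨(V j).ι w, w.2, rfl⟩
    let c : ∀ j, (V j).toScheme ⟶ V₀.1.toScheme := fun j =>
      IsOpenImmersion.lift V₀.1.ι ((V j).ι ≫ f (idx j)) (hrange j)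
    have hc : ∀ j, c j ≫ V₀.1.ι = (V j).ι ≫ f (idx j) := fun j => IsOpenImmersion.lift_fac _ _ _
    have hcfl : ∀ j, Flat (c j) := by
      intro j
      have := hflat (idx j)
      exact MorphismProperty.of_postcomp (W := @Flat) (W' := @IsOpenImmersion) (c j) V₀.1.ι
        inferInstance (by rw [hc j]; infer_instance)
    have hsurj : ∀ v : V₀.1.toScheme, ∃ j, v ∈ Set.range (c j) := by
      intro v
      have hv : v.1 ∈ (V₀.1 : Set X) := v.2
      rw [← hUnion] at hv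
      obtain ⟨j, hj⟩ := Set.mem_iUnion.mp hv
      obtain ⟨w, hw, hwv⟩ := hj
      refine ⟨j, ⟨w, hw⟩, ?_⟩
      apply V₀.1.ι.injective
      rw [← Scheme.Hom.comp_apply, hc j]
      exact hwv
    refine isOpen_of_flat_finite_family (fun j => (V j).toScheme) (fun j => hV j) c hcfl hsurj _
      (fun j => ?_)
    have e : (c j) ⁻¹' (V₀.1.ι ⁻¹' A) = (V j).ι ⁻¹' ((f (idx j)) ⁻¹' A) := by
      ext w
      simp only [Set.mem_preimage]
      rw [← Scheme.Hom.comp_apply, hc j, Scheme.Hom.comp_apply]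
    rw [e]
    exact (hA (idx j)).preimage (V j).ι.continuous
  have e : A = ⋃ V₀ : X.affineOpens, V₀.1.ι '' (V₀.1.ι ⁻¹' A) := by
    ext x
    constructor
    · intro hx
      have hx' : x ∈ (⊤ : X.Opens) := trivial
      rw [← iSup_affineOpens_eq_top X] at hx'
      obtain ⟨V₀, hxV⟩ := TopologicalSpace.Opens.mem_iSup.mp hx'
      exact Set.mem_iUnion.2 ⟨V₀, ⟨x, hxV⟩, hx, rfl⟩
    · intro hx
      obtain ⟨V₀, y, hy, rfl⟩ := Set.mem_iUnion.1 hx
      exact hy
  rw [e]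
  exact isOpen_iUnion fun V₀ => V₀.1.ι.isOpenEmbedding.isOpenMap _ (key V₀)

theorem reprPrinciple_isOpenImmersion :
    ReprPrinciple (@IsOpenImmersion : MorphismProperty Scheme.{u}) := by
  intro X ι Xi f hf PP hcomp hloc Z c h𝒞 hc
  haveI : ∀ i, IsOpenImmersion (c i) := h𝒞
  let A : Set X := ⋃ i, (f i) '' Set.range (c i)
  have ha : ∀ i, (f i) ⁻¹' A = Set.range (c i) := by
    intro i
    apply Set.Subset.antisymm
    · intro y hy
      obtain ⟨j, _, ⟨z, rfl⟩, hz⟩ := Set.mem_iUnion.1 hy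
      obtain ⟨w, hw1, hw2⟩ := Scheme.Pullback.exists_preimage_pullback (f := f i) (g := f j)
        y (c j z) hz.symm
      let t : Spec ((pullback (f i) (f j)).residueField w) ⟶ pullback (f i) (f j) :=
        (pullback (f i) (f j)).fromSpecResidueField w
      have ht : ∀ p, t p = w := fun p => Scheme.fromSpecResidueField_apply _ p
      have hr : Set.range (t ≫ pullback.snd (f i) (f j)).base ⊆ Set.range (c j).base := by
        rintro _ ⟨p, rfl⟩
        refine ⟨z, ?_⟩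
        change c j z = (t ≫ pullback.snd (f i) (f j)) p
        rw [Scheme.Hom.comp_apply, ht, hw2]
      have hz₂ : IsOpenImmersion.lift (c j) (t ≫ pullback.snd _ _) hr ≫ c j =
          t ≫ pullback.snd _ _ := IsOpenImmersion.lift_fac _ _ _
      have hP : PP ((t ≫ pullback.snd _ _) ≫ f j) := (hc j _).1 ⟨_, hz₂⟩
      have hP' : PP ((t ≫ pullback.fst _ _) ≫ f i) := by
        rw [Category.assoc, pullback.condition, ← Category.assoc]; exact hP
      obtain ⟨z₁, hz₁⟩ := (hc i _).2 hP'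
      obtain ⟨p⟩ : Nonempty (Spec ((pullback (f i) (f j)).residueField w)) := inferInstance
      refine ⟨z₁ p, ?_⟩
      change (c i) (z₁ p) = y
      rw [← Scheme.Hom.comp_apply, hz₁, Scheme.Hom.comp_apply, ht, hw1]
    · rintro _ ⟨z, rfl⟩
      exact Set.mem_iUnion.2 ⟨i, c i z, ⟨z, rfl⟩, rfl⟩
  have hAo : IsOpen A := isOpen_of_fpqc_family f hf A (fun i => by
    rw [ha i]; exact (c i).isOpenEmbedding.isOpen_range)
  let W : X.Opens := ⟨A, hAo⟩
  refine ⟨W.toScheme, W.ι, inferInstance, fun T x => ?_⟩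
  constructor
  · rintro ⟨z, rfl⟩
    apply hloc _ (fun i => pullback.fst (z ≫ W.ι) (f i))
      (Precoverage.mem_coverings_of_isPullback f hf (z ≫ W.ι) _
        (fun i => pullback.snd (z ≫ W.ι) (f i))
        (fun i => IsPullback.of_hasPullback (z ≫ W.ι) (f i)))
    intro i
    rw [pullback.condition]
    apply (hc i _).1
    have hr : Set.range (pullback.snd (z ≫ W.ι) (f i)).base ⊆ Set.range (c i).base := by
      rintro _ ⟨q, rfl⟩
      rw [← ha i]
      change f i (pullback.snd (z ≫ W.ι) (f i) q) ∈ A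
      rw [← Scheme.Hom.comp_apply, ← pullback.condition, Scheme.Hom.comp_apply,
        Scheme.Hom.comp_apply]
      exact (z _).2
    exact ⟨IsOpenImmersion.lift (c i) _ hr, IsOpenImmersion.lift_fac _ _ _⟩
  · intro hP
    have hr : Set.range x.base ⊆ Set.range W.ι.base := by
      rw [Scheme.Opens.range_ι]
      rintro _ ⟨p, rfl⟩
      have hcov := Precoverage.mem_coverings_of_isPullback f hf x _
        (fun i => pullback.snd x (f i)) (fun i => IsPullback.of_hasPullback x (f i))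
      obtain ⟨i, q, hq⟩ := ((Scheme.ofArrows_mem_precoverage_iff _).1 hcov.2).1 p
      obtain ⟨z, hz⟩ := (hc i (pullback.snd x (f i))).2 (by
        rw [← pullback.condition]; exact hcomp _ x hP)
      refine Set.mem_iUnion.2 ⟨i, c i (z q), ⟨z q, rfl⟩, ?_⟩
      change f i (c i (z q)) = x p
      rw [← Scheme.Hom.comp_apply (z) (c i), hz, ← Scheme.Hom.comp_apply, ← pullback.condition,
        Scheme.Hom.comp_apply, hq]
    exact ⟨IsOpenImmersion.lift W.ι x hr, IsOpenImmersion.lift_fac _ _ _⟩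

end Groth.Agent.Lib.Helper81.ReprLocal
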