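import Mathlib
import Groth.Prelude.Def_QuotSh
import Groth.Agent.Lib.Helper81.QuotPts
import Groth.Agent.Lib.Helper81.ReprLocal
import Groth.Agent.Lib.Helper40.FpqcLocal

set_option autoImplicit false
universe u
open CategoryTheory CategoryTheory.Limits AlgebraicGeometry Opposite MonoidalCategory
  CartesianMonoidalCategory

namespace Groth.Agent.Lib.Helper81.QuotPts
open Groth.Agent.Lib.Helper40.QuotShApi Groth.Agent.Lib.Helper81.ReprLocal

variable {S : Scheme.{u}}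

/-- the fpqc precoverage -/
abbrev Kq : Precoverage Scheme.{u} := Scheme.fpqcPrecoverage

instance : (QuotSh.J Kq S).Subcanonical := inferInstance

/-- a sieve containing an indexed covering family is covering -/
theorem mem_J_of_family (K : Precoverage Scheme.{u}) {T : Over S} (Sv : Sieve T) {κ : Type u}
    (V : κ → Over S) (g : ∀ k, V k ⟶ T) (hg : ∀ k, Sv (g k))
    (hK : Presieve.ofArrows (fun k => (V k).left) (fun k => (g k).left) ∈ K T.left) :
    Sv ∈ QuotSh.J K S T := by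
  rw [GrothendieckTopology.mem_over_iff]
  have hcov : Sieve.generate (Presieve.ofArrows (fun k => (V k).left) (fun k => (g k).left)) ∈
      K.toGrothendieck T.left := Precoverage.generate_mem_toGrothendieck hK
  refine GrothendieckTopology.superset_covering _ ?_ hcov
  rw [Sieve.generate_le_iff]
  rintro _ _ ⟨k⟩
  exact ⟨V k, g k, 𝟙 _, hg k, (Category.id_comp _).symm⟩

section Eq'
variable (K : Precoverage Scheme.{u}) {X' : Over S} {F : QuotSh.Sh K S}
  (α β : QuotSh.rep K X' ⟶ F)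

/-- the equalizer subfunctor of two maps out of `rep X'` -/
def Eq' {W : Over S} (p : W ⟶ X') : Prop := QuotSh.repMap K p ≫ α = QuotSh.repMap K p ≫ β

lemma Eq'.comp {W W' : Over S} {p : W ⟶ X'} (h : Eq' K α β p) (a : W' ⟶ W) :
    Eq' K α β (a ≫ p) := by
  unfold Eq' at h ⊢
  rw [repMap_comp, Category.assoc, Category.assoc, h]

lemma Eq'.of_sieve {W : Over S} (p : W ⟶ X') (Sv : Sieve W) (hSv : Sv ∈ QuotSh.J K S W)
    (h : ∀ ⦃W' : Over S⦄ (g : W' ⟶ W), Sv g → Eq' K α β (g ≫ p)) : Eq' K α β p := by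
  apply hom_ext_of_sieve K _ _ Sv hSv
  intro W' g hg
  have := h g hg
  unfold Eq' at this
  rw [repMap_comp, Category.assoc, Category.assoc] at this
  exact this

/-- the equalizer subfunctor on scheme-valued points -/
def PPs ⦃T : Scheme.{u}⦄ (x : T ⟶ X'.left) : Prop :=
  Eq' K α β (Over.homMk x : Over.mk (x ≫ X'.hom) ⟶ X')

lemma eq'_iff_PPs {W : Over S} (p : W ⟶ X') : Eq' K α β p ↔ PPs K α β p.left := by
  let e : W ≅ Over.mk (p.left ≫ X'.hom) := Over.isoMk (Iso.refl _) (by simp)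
  have h1 : e.hom ≫ (Over.homMk p.left : Over.mk (p.left ≫ X'.hom) ⟶ X') = p := by
    ext; simp [e]
  constructor
  · intro h
    have : (Over.homMk p.left : Over.mk (p.left ≫ X'.hom) ⟶ X') = e.inv ≫ p := by
      rw [Iso.eq_inv_comp]; exact h1
    unfold PPs
    rw [this]
    exact h.comp K α β _
  · intro h
    rw [← h1]
    exact Eq'.comp K α β h _

lemma PPs_comp ⦃T T' : Scheme.{u}⦄ (a : T' ⟶ T) (x : T ⟶ X'.left) (h : PPs K α β x) :
    PPs K α β (a ≫ x) := by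
  have e : (Over.homMk (a ≫ x) : Over.mk ((a ≫ x) ≫ X'.hom) ⟶ X') =
      (Over.homMk a (by simp) : Over.mk ((a ≫ x) ≫ X'.hom) ⟶ Over.mk (x ≫ X'.hom)) ≫
        Over.homMk x := by
    ext; simp
  unfold PPs
  rw [e]
  exact Eq'.comp K α β h _

lemma PPs_loc ⦃T : Scheme.{u}⦄ (x : T ⟶ X'.left) {κ : Type u} {W : κ → Scheme.{u}}
    (b : ∀ k, W k ⟶ T) (hb : Presieve.ofArrows W b ∈ K T) (h : ∀ k, PPs K α β (b k ≫ x)) :
    PPs K α β x := by
  let V : κ → Over S := fun k => Over.mk ((b k ≫ x) ≫ X'.hom)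
  let g : ∀ k, V k ⟶ Over.mk (x ≫ X'.hom) := fun k => Over.homMk (b k) (by simp [V])
  apply Eq'.of_sieve K α β _ (Sieve.generate (Presieve.ofArrows V g))
    (mem_J_of_family K _ V g (fun k => Sieve.le_generate (Presieve.ofArrows V g) _ _ (Presieve.ofArrows.mk k)) hb)
  rintro W' g' ⟨Y, a, _, ⟨k⟩, rfl⟩
  have e : g k ≫ (Over.homMk x : Over.mk (x ≫ X'.hom) ⟶ X') =
      (Over.homMk (b k ≫ x) : Over.mk ((b k ≫ x) ≫ X'.hom) ⟶ X') := by
    ext; simp [g]
  rw [Category.assoc, e]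
  exact Eq'.comp K α β (h k) _

end Eq'

/-- the representability principle over a base -/
theorem repr_over {𝒞 : MorphismProperty Scheme.{u}} (h𝒞 : ReprPrinciple 𝒞)
    {X' : Over S} {F : QuotSh.Sh Kq S} (α β : QuotSh.rep Kq X' ⟶ F)
    {ι : Type u} (Xi : ι → Over S) (f : ∀ i, Xi i ⟶ X')
    (hf : Presieve.ofArrows (fun i => (Xi i).left) (fun i => (f i).left) ∈
      Scheme.fpqcPrecoverage X'.left)
    (Z : ι → Over S) (c : ∀ i, Z i ⟶ Xi i) (hc𝒞 : ∀ i, 𝒞 (c i).left)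
    (hc : ∀ i (W : Over S) (y : W ⟶ Xi i),
      (∃ z : W ⟶ Z i, z ≫ c i = y) ↔ Eq' Kq α β (y ≫ f i)) :
    ∃ (Z₀ : Over S) (c₀ : Z₀ ⟶ X'), 𝒞 c₀.left ∧
      ∀ (W : Over S) (p : W ⟶ X'), (∃ z : W ⟶ Z₀, z ≫ c₀ = p) ↔ Eq' Kq α β p := by
  obtain ⟨Z₀', c₀', h1, h2⟩ := h𝒞 (fun i => (f i).left) hf (PPs Kq α β) (PPs_comp Kq α β)
    (fun T x κ W b hb h => PPs_loc Kq α β x b hb h) (fun i => (c i).left) hc𝒞 (by
      intro i T y
      have h3 := hc i (Over.mk (y ≫ (Xi i).hom)) (Over.homMk y)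
      rw [eq'_iff_PPs] at h3
      have e : ((Over.homMk y : Over.mk (y ≫ (Xi i).hom) ⟶ Xi i) ≫ f i).left = y ≫ (f i).left :=
        rfl
      rw [e] at h3
      rw [← h3]
      constructor
      · rintro ⟨z, hz⟩
        refine ⟨Over.homMk z (by
          change z ≫ (Z i).hom = y ≫ (Xi i).hom
          rw [← Over.w (c i), ← Category.assoc, hz]), ?_⟩
        ext
        exact hz
      · rintro ⟨z, hz⟩
        exact ⟨z.left, congrArg (fun m => m.left) hz⟩)
  refine ⟨Over.mk (c₀' ≫ X'.hom), Over.homMk c₀', h1, fun W p => ?_⟩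
  rw [eq'_iff_PPs, ← h2]
  constructor
  · rintro ⟨z, hz⟩
    exact ⟨z.left, congrArg (fun m => m.left) hz⟩
  · rintro ⟨z, hz⟩
    refine ⟨Over.homMk z (by
      change z ≫ c₀' ≫ X'.hom = W.hom
      rw [← Category.assoc, hz, Over.w]), ?_⟩
    ext
    exact hz

/-- base change square for a product in a cartesian monoidal category -/
lemma isPullback_whiskerLeft {C : Type*} [Category C] [CartesianMonoidalCategory C] (U : C)
    {T' T : C} (g : T' ⟶ T) : IsPullback (U ◁ g) (snd U T') (snd U T) g := by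
  refine ⟨⟨whiskerLeft_snd U g⟩, ⟨PullbackCone.IsLimit.mk _
    (fun c => lift (c.fst ≫ fst U T) c.snd) ?_ ?_ ?_⟩⟩
  · intro c
    apply CartesianMonoidalCategory.hom_ext
    · simp
    · simp [c.condition]
  · intro c
    simp
  · intro c m h1 h2
    apply CartesianMonoidalCategory.hom_ext
    · rw [lift_fst, ← h1, Category.assoc, whiskerLeft_fst]
    · rw [lift_snd, ← h2]

lemma factor_of_cover {X' Z' W W' : Over S} (i' : Z' ⟶ X') [Mono i'.left] (p : W ⟶ X')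
    (b : W' ⟶ W) [Flat b.left] [Surjective b.left] [QuasiCompact b.left] (z'' : W' ⟶ Z')
    (h : z'' ≫ i' = b ≫ p) : ∃ z : W ⟶ Z', z ≫ i' = p := by
  have hl : z''.left ≫ i'.left = b.left ≫ p.left := congrArg (fun m => m.left) h
  let z₀ : W.left ⟶ Z'.left := EffectiveEpi.desc b.left z''.left (by
    intro A g₁ g₂ h12
    rw [← cancel_mono i'.left, Category.assoc, Category.assoc, hl, reassoc_of% h12])
  have hz₀ : b.left ≫ z₀ = z''.left := EffectiveEpi.fac _ _ _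
  have hz₁ : z₀ ≫ i'.left = p.left := by
    rw [← cancel_epi b.left, reassoc_of% hz₀, hl]
  refine ⟨Over.homMk z₀ (by rw [← Over.w i', reassoc_of% hz₁, Over.w p]), ?_⟩
  ext
  exact hz₁

section Main
variable {R U : Over S} (s t : R ⟶ U) (T : Over S)
  (σ : QuotSh.rep Kq T ⟶ QuotSh.quot Kq s t)

/-- first map out of `rep (U ⊗ T)` -/
noncomputable def αm : QuotSh.rep Kq (U ⊗ T) ⟶ QuotSh.quot Kq s t :=
  QuotSh.repMap Kq (fst U T) ≫ QuotSh.quotπ Kq s t

/-- second map out of `rep (U ⊗ T)` -/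
noncomputable def βm : QuotSh.rep Kq (U ⊗ T) ⟶ QuotSh.quot Kq s t :=
  QuotSh.repMap Kq (snd U T) ≫ σ

/-- `p` lies in the fibre of the section `σ` -/
abbrev EE {W : Over S} (p : W ⟶ U ⊗ T) : Prop := Eq' Kq (αm s t T) (βm s t T σ) p

lemma EE_iff {W : Over S} (p : W ⟶ U ⊗ T) : EE s t T σ p ↔
    QuotSh.repMap Kq (p ≫ fst U T) ≫ QuotSh.quotπ Kq s t = QuotSh.repMap Kq (p ≫ snd U T) ≫ σ := by
  unfold EE Eq' αm βm
  rw [repMap_comp, repMap_comp, Category.assoc, Category.assoc]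

theorem exists_local_lifts : ∃ (ι : Type u) (Ti : ι → Scheme.{u}) (gi : ∀ i, Ti i ⟶ T.left),
    Presieve.ofArrows Ti gi ∈ Scheme.fpqcPrecoverage T.left ∧
    ∀ i, ∃ ui : Over.mk (gi i ≫ T.hom) ⟶ U,
      QuotSh.repMap Kq (Over.homMk (gi i) : Over.mk (gi i ≫ T.hom) ⟶ T) ≫ σ =
        QuotSh.repMap Kq ui ≫ QuotSh.quotπ Kq s t := by
  obtain ⟨Rc, hRc, h⟩ := exists_precover_of_mem_J Kq _ (liftS_mem Kq s t σ)
  obtain ⟨ι, Ti, gi, hcov, hmem⟩ := exists_small_family Rc hRc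
  exact ⟨ι, Ti, gi, hcov, fun i => h (gi i) (hmem i)⟩

variable [IsEquivalenceRelation s t]

lemma EE_whisker_iff {T' : Over S} (g : T' ⟶ T) (u : T' ⟶ U)
    (hu : QuotSh.repMap Kq g ≫ σ = QuotSh.repMap Kq u ≫ QuotSh.quotπ Kq s t)
    {W : Over S} (y : W ⟶ U ⊗ T') :
    EE s t T σ (y ≫ (U ◁ g)) ↔ PRel s t W (y ≫ snd U T' ≫ u) (y ≫ fst U T') := by
  rw [EE_iff]
  simp only [Category.assoc, whiskerLeft_fst, whiskerLeft_snd]
  have e : QuotSh.repMap Kq (y ≫ snd U T' ≫ g) ≫ σ =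
      QuotSh.repMap Kq (y ≫ snd U T' ≫ u) ≫ QuotSh.quotπ Kq s t := by
    rw [← Category.assoc y, repMap_comp, Category.assoc, hu, ← Category.assoc, ← repMap_comp,
      Category.assoc]
  rw [e]
  constructor
  · intro h
    exact pRel_of_eq Kq s t _ _ h.symm
  · intro h
    exact (eq_of_pRel Kq s t h).symm

omit [IsEquivalenceRelation s t] in
lemma exists_lift_iff_pRel {T' : Over S} (u : T' ⟶ U) {W : Over S} (y : W ⟶ U ⊗ T') :
    (∃ z : W ⟶ pullback (lift t s) (lift (fst U T') (snd U T' ≫ u)),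
      z ≫ pullback.snd _ _ = y) ↔ PRel s t W (y ≫ snd U T' ≫ u) (y ≫ fst U T') := by
  constructor
  · rintro ⟨z, rfl⟩
    have hc : (z ≫ pullback.fst (lift t s) (lift (fst U T') (snd U T' ≫ u))) ≫ lift t s =
        (z ≫ pullback.snd _ _) ≫ lift (fst U T') (snd U T' ≫ u) := by
      rw [Category.assoc, Category.assoc, pullback.condition]
    refine ⟨z ≫ pullback.fst _ _, ?_, ?_⟩
    · have := congrArg (fun m => m ≫ snd U U) hc
      simpa only [Category.assoc, lift_snd] using this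
    · have := congrArg (fun m => m ≫ fst U U) hc
      simpa only [Category.assoc, lift_fst] using this
  · rintro ⟨ρ, h1, h2⟩
    refine ⟨pullback.lift ρ y ?_, pullback.lift_snd _ _ _⟩
    apply CartesianMonoidalCategory.hom_ext
    · simp only [Category.assoc, lift_fst]; exact h2
    · simp only [Category.assoc, lift_snd]; exact h1

theorem exists_repr_EE {𝒞 : MorphismProperty Scheme.{u}} (h𝒞 : ReprPrinciple 𝒞)
    [𝒞.IsStableUnderBaseChange] (hc : 𝒞 (lift t s).left) :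
    ∃ (Z : Over S) (i : Z ⟶ U ⊗ T), 𝒞 i.left ∧
      ∀ (W : Over S) (p : W ⟶ U ⊗ T), (∃ z : W ⟶ Z, z ≫ i = p) ↔ EE s t T σ p := by
  obtain ⟨ι, Ti, gi, hcov, hu⟩ := exists_local_lifts s t T σ
  choose ui hui using hu
  let T' : ι → Over S := fun i => Over.mk (gi i ≫ T.hom)
  let g : ∀ i, T' i ⟶ T := fun i => Over.homMk (gi i)
  refine repr_over h𝒞 _ _ (fun i => U ⊗ T' i) (fun i => U ◁ g i) ?_
    (fun i => pullback (lift t s) (lift (fst U (T' i)) (snd U (T' i) ≫ ui i)))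
    (fun i => pullback.snd _ _) ?_ ?_
  · exact Precoverage.mem_coverings_of_isPullback gi hcov (snd U T).left _
      (fun i => (snd U (T' i)).left)
      (fun i => ((isPullback_whiskerLeft U (g i)).map (Over.forget S)))
  · intro i
    exact MorphismProperty.of_isPullback ((IsPullback.of_hasPullback _ _).map (Over.forget S)) hc
  · intro i W y
    exact (exists_lift_iff_pRel s t (ui i) y).trans
      (EE_whisker_iff s t T σ (g i) (ui i) (hui i) y).symm

theorem prop_of_repr (P : MorphismProperty Scheme.{u}) [P.IsStableUnderBaseChange]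
    [IsZariskiLocalAtTarget P]
    [P.DescendsAlong (@Surjective ⊓ @Flat ⊓ @QuasiCompact : MorphismProperty Scheme.{u})]
    (hs : P s.left) {Z : Over S} (i : Z ⟶ U ⊗ T) [Mono i]
    (hi : ∀ (W : Over S) (p : W ⟶ U ⊗ T), (∃ z : W ⟶ Z, z ≫ i = p) ↔ EE s t T σ p) :
    P (i ≫ snd U T).left := by
  obtain ⟨ι, Ti, gi, hcov, hu⟩ := exists_local_lifts s t T σ
  apply Groth.Agent.Lib.Helper40.FpqcLocal.of_fpqc_cover P _ hcov
  rintro _ _ ⟨k⟩
  obtain ⟨u, hu⟩ := hu k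
  let T' : Over S := Over.mk (gi k ≫ T.hom)
  let g : T' ⟶ T := Over.homMk (gi k)
  change T' ⟶ U at u
  change QuotSh.repMap Kq g ≫ σ = _ at hu
  let p₀ : pullback s u ⟶ U ⊗ T := lift (pullback.fst s u ≫ t) (pullback.snd s u ≫ g)
  have hE : EE s t T σ p₀ := by
    rw [EE_iff, lift_fst, lift_snd, repMap_comp, Category.assoc, ← QuotSh.quot_condition,
      ← Category.assoc, ← repMap_comp, pullback.condition, repMap_comp, repMap_comp,
      Category.assoc, Category.assoc, hu]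
  obtain ⟨ζ, hζ⟩ := (hi _ p₀).2 hE
  have key : ∀ {W : Over S} (z : W ⟶ Z) (τ : W ⟶ T') (_ : z ≫ i ≫ snd U T = τ ≫ g),
      ∃ ρ : W ⟶ R, ρ ≫ s = τ ≫ u ∧ ρ ≫ t = z ≫ i ≫ fst U T := by
    intro W z τ h
    have h1 : EE s t T σ (z ≫ i) := (hi _ _).1 ⟨z, rfl⟩
    rw [EE_iff] at h1
    have e2 : QuotSh.repMap Kq ((z ≫ i) ≫ snd U T) ≫ σ =
        QuotSh.repMap Kq (τ ≫ u) ≫ QuotSh.quotπ Kq s t := by
      rw [Category.assoc, h, repMap_comp, Category.assoc, hu, ← Category.assoc, ← repMap_comp]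
    refine pRel_of_eq Kq s t _ _ ?_
    rw [← e2, ← h1, Category.assoc]
  choose ρ hρ1 hρ2 using @key
  have sq : IsPullback ζ (pullback.snd s u) (i ≫ snd U T) g := by
    have w : ζ ≫ i ≫ snd U T = pullback.snd s u ≫ g := by
      rw [← Category.assoc, hζ, lift_snd]
    refine ⟨⟨w⟩, ⟨PullbackCone.IsLimit.mk _
      (fun c => pullback.lift (ρ c.fst c.snd c.condition) c.snd (hρ1 _ _ _)) ?_ ?_ ?_⟩⟩
    · intro c
      rw [← cancel_mono i, Category.assoc, hζ]
      apply CartesianMonoidalCategory.hom_ext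
      · rw [Category.assoc, lift_fst, pullback.lift_fst_assoc, hρ2, Category.assoc]
      · rw [Category.assoc, lift_snd, pullback.lift_snd_assoc, ← c.condition, Category.assoc]
    · intro c
      exact pullback.lift_snd _ _ _
    · intro c m h1 h2
      apply pullback.hom_ext
      · rw [pullback.lift_fst]
        apply pRel_unique s t
        · rw [Category.assoc, pullback.condition, ← Category.assoc, h2, hρ1]
        · rw [hρ2, ← h1, Category.assoc, Category.assoc, ← Category.assoc ζ, hζ, lift_fst]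
      · rw [pullback.lift_snd, h2]
  have sq' : IsPullback ζ.left (pullback.snd s u).left (i ≫ snd U T).left (gi k) :=
    sq.map (Over.forget S)
  have sqA : IsPullback (pullback.fst s u).left (pullback.snd s u).left s.left u.left :=
    (IsPullback.of_hasPullback s u).map (Over.forget S)
  have h1 : P (pullback.snd s u).left := MorphismProperty.of_isPullback sqA hs
  have e : sq'.isoPullback.hom ≫ pullback.snd (i ≫ snd U T).left (gi k) =
      (pullback.snd s u).left := sq'.isoPullback_hom_snd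
  have hri : P.RespectsIso := MorphismProperty.IsStableUnderBaseChange.respectsIso
  rw [← e] at h1
  exact (P.cancel_left_of_respectsIso _ _).mp h1

theorem repr_of_props {Z' : Over S} (i' : Z' ⟶ U ⊗ T) [Mono i'.left]
    (hstab : ∀ (T' : Over S) (r : T' ⟶ R ⊗ T),
      (∃ z : T' ⟶ Z', z ≫ i' = r ≫ (s ▷ T)) ↔ (∃ z : T' ⟶ Z', z ≫ i' = r ≫ (t ▷ T)))
    (hfl : Flat (i' ≫ snd U T).left) (hsu : Surjective (i' ≫ snd U T).left)
    (hqc : QuasiCompact (i' ≫ snd U T).left)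
    (h5 : QuotSh.repMap Kq (i' ≫ fst U T) ≫ QuotSh.quotπ Kq s t =
      QuotSh.repMap Kq (i' ≫ snd U T) ≫ σ)
    (W : Over S) (p : W ⟶ U ⊗ T) : (∃ z : W ⟶ Z', z ≫ i' = p) ↔ EE s t T σ p := by
  have hEi : EE s t T σ i' := (EE_iff s t T σ i').2 h5
  constructor
  · rintro ⟨z, rfl⟩
    exact Eq'.comp Kq _ _ hEi z
  · intro hEp
    let q' : Z' ⟶ T := i' ≫ snd U T
    let b : pullback (p ≫ snd U T) q' ⟶ W := pullback.fst _ _
    let z' : pullback (p ≫ snd U T) q' ⟶ Z' := pullback.snd _ _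
    have hcond : b ≫ p ≫ snd U T = z' ≫ i' ≫ snd U T := pullback.condition
    have sqb : IsPullback z'.left b.left q'.left (p ≫ snd U T).left :=
      ((IsPullback.of_hasPullback (p ≫ snd U T) q').map (Over.forget S)).flip
    haveI : Flat b.left := MorphismProperty.of_isPullback sqb hfl
    haveI : Surjective b.left := MorphismProperty.of_isPullback sqb hsu
    haveI : QuasiCompact b.left := MorphismProperty.of_isPullback sqb hqc
    have h1 : EE s t T σ (z' ≫ i') := Eq'.comp Kq _ _ hEi z'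
    have h2 : EE s t T σ (b ≫ p) := Eq'.comp Kq _ _ hEp b
    rw [EE_iff] at h1 h2
    have h3 : QuotSh.repMap Kq ((z' ≫ i') ≫ fst U T) ≫ QuotSh.quotπ Kq s t =
        QuotSh.repMap Kq ((b ≫ p) ≫ fst U T) ≫ QuotSh.quotπ Kq s t := by
      rw [h1, h2, Category.assoc, Category.assoc, hcond]
    obtain ⟨ρ, hρ1, hρ2⟩ := pRel_of_eq Kq s t _ _ h3
    let r : pullback (p ≫ snd U T) q' ⟶ R ⊗ T := lift ρ ((b ≫ p) ≫ snd U T)
    have hr1 : r ≫ (s ▷ T) = z' ≫ i' := by
      apply CartesianMonoidalCategory.hom_ext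
      · rw [Category.assoc, whiskerRight_fst, lift_fst_assoc, hρ1]
      · rw [Category.assoc, whiskerRight_snd, lift_snd, Category.assoc, Category.assoc, hcond]
    have hr2 : r ≫ (t ▷ T) = b ≫ p := by
      apply CartesianMonoidalCategory.hom_ext
      · rw [Category.assoc, whiskerRight_fst, lift_fst_assoc, hρ2]
      · rw [Category.assoc, whiskerRight_snd, lift_snd]
    obtain ⟨z'', hz''⟩ := (hstab _ r).1 ⟨z', hr1.symm⟩
    exact factor_of_cover i' p b z'' (hz''.trans hr2)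

theorem main_generic (𝒞 : MorphismProperty Scheme.{u}) (h𝒞 : ReprPrinciple 𝒞)
    [𝒞.IsStableUnderBaseChange]
    (h𝒞m : ∀ {X Y : Scheme.{u}} (f : X ⟶ Y), 𝒞 f → Mono f)
    [Flat s.left] [Surjective s.left] [QuasiCompact s.left]
    (hc : 𝒞 (lift t s).left) :
    (∃ (Z : Over S) (i : Z ⟶ U ⊗ T), 𝒞 i.left ∧
      (∀ (T' : Over S) (r : T' ⟶ R ⊗ T),
        (∃ z : T' ⟶ Z, z ≫ i = r ≫ (s ▷ T)) ↔ (∃ z : T' ⟶ Z, z ≫ i = r ≫ (t ▷ T))) ∧
      Flat (i ≫ snd U T).left ∧ Surjective (i ≫ snd U T).left ∧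
      QuasiCompact (i ≫ snd U T).left ∧
      (∀ (T' : Over S) (z₁ z₂ : T' ⟶ Z), z₁ ≫ i ≫ snd U T = z₂ ≫ i ≫ snd U T →
        ∃ r : T' ⟶ R, r ≫ s = z₁ ≫ i ≫ fst U T ∧ r ≫ t = z₂ ≫ i ≫ fst U T) ∧
      QuotSh.repMap Scheme.fpqcPrecoverage (i ≫ fst U T) ≫ QuotSh.quotπ Scheme.fpqcPrecoverage s t =
        QuotSh.repMap Scheme.fpqcPrecoverage (i ≫ snd U T) ≫ σ) ∧
    (∀ (Z Z' : Over S) (i : Z ⟶ U ⊗ T) (i' : Z' ⟶ U ⊗ T),
      𝒞 i.left → 𝒞 i'.left →
      (∀ (T' : Over S) (r : T' ⟶ R ⊗ T),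
        (∃ z : T' ⟶ Z, z ≫ i = r ≫ (s ▷ T)) ↔ (∃ z : T' ⟶ Z, z ≫ i = r ≫ (t ▷ T))) →
      (∀ (T' : Over S) (r : T' ⟶ R ⊗ T),
        (∃ z : T' ⟶ Z', z ≫ i' = r ≫ (s ▷ T)) ↔ (∃ z : T' ⟶ Z', z ≫ i' = r ≫ (t ▷ T))) →
      Flat (i ≫ snd U T).left → Surjective (i ≫ snd U T).left →
      QuasiCompact (i ≫ snd U T).left →
      Flat (i' ≫ snd U T).left → Surjective (i' ≫ snd U T).left →
      QuasiCompact (i' ≫ snd U T).left →
      (∀ (T' : Over S) (z₁ z₂ : T' ⟶ Z), z₁ ≫ i ≫ snd U T = z₂ ≫ i ≫ snd U T →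
        ∃ r : T' ⟶ R, r ≫ s = z₁ ≫ i ≫ fst U T ∧ r ≫ t = z₂ ≫ i ≫ fst U T) →
      (∀ (T' : Over S) (z₁ z₂ : T' ⟶ Z'), z₁ ≫ i' ≫ snd U T = z₂ ≫ i' ≫ snd U T →
        ∃ r : T' ⟶ R, r ≫ s = z₁ ≫ i' ≫ fst U T ∧ r ≫ t = z₂ ≫ i' ≫ fst U T) →
      QuotSh.repMap Scheme.fpqcPrecoverage (i ≫ fst U T) ≫ QuotSh.quotπ Scheme.fpqcPrecoverage s t =
        QuotSh.repMap Scheme.fpqcPrecoverage (i ≫ snd U T) ≫ σ →
      QuotSh.repMap Scheme.fpqcPrecoverage (i' ≫ fst U T) ≫ QuotSh.quotπ Scheme.fpqcPrecoverage s t =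
        QuotSh.repMap Scheme.fpqcPrecoverage (i' ≫ snd U T) ≫ σ →
      ∃ e : Z ≅ Z', e.hom ≫ i' = i) := by
  constructor
  · obtain ⟨Z, i, hi𝒞, hi⟩ := exists_repr_EE s t T σ h𝒞 hc
    haveI : Mono i.left := h𝒞m _ hi𝒞
    haveI : Mono i := (Over.forget S).mono_of_mono_map (by exact ‹Mono i.left›)
    have hEi : EE s t T σ i := (hi Z i).1 ⟨𝟙 _, Category.id_comp _⟩
    refine ⟨Z, i, hi𝒞, ?_, ?_, ?_, ?_, ?_, (EE_iff s t T σ i).1 hEi⟩
    · intro T' r
      rw [hi, hi, EE_iff, EE_iff]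
      simp only [Category.assoc, whiskerRight_fst, whiskerRight_snd]
      have : QuotSh.repMap Kq (r ≫ fst R T ≫ s) ≫ QuotSh.quotπ Kq s t =
          QuotSh.repMap Kq (r ≫ fst R T ≫ t) ≫ QuotSh.quotπ Kq s t := by
        rw [← Category.assoc, repMap_comp, Category.assoc, QuotSh.quot_condition,
          ← Category.assoc, ← repMap_comp, Category.assoc]
      rw [this]
    · haveI := Groth.Agent.Lib.Helper40.FpqcLocal.flat_descendsAlong_fpqc.{u}
      exact prop_of_repr s t T σ @Flat inferInstance i hi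
    · exact prop_of_repr s t T σ @Surjective inferInstance i hi
    · haveI := Groth.Agent.Lib.Helper40.FpqcLocal.quasiCompact_descendsAlong_fpqc.{u}
      exact prop_of_repr s t T σ @QuasiCompact inferInstance i hi
    · intro T' z₁ z₂ h
      have E1 : EE s t T σ (z₁ ≫ i) := (hi _ _).1 ⟨z₁, rfl⟩
      have E2 : EE s t T σ (z₂ ≫ i) := (hi _ _).1 ⟨z₂, rfl⟩
      rw [EE_iff] at E1 E2
      have h3 : QuotSh.repMap Kq (z₁ ≫ i ≫ fst U T) ≫ QuotSh.quotπ Kq s t =
          QuotSh.repMap Kq (z₂ ≫ i ≫ fst U T) ≫ QuotSh.quotπ Kq s t := by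
        rw [← Category.assoc, ← Category.assoc, E1, E2, Category.assoc, Category.assoc, h]
      exact pRel_of_eq Kq s t _ _ h3
  · intro Z Z' i i' h𝒞i h𝒞i' stab stab' fl su qc fl' su' qc' _ _ e5 e5'
    haveI : Mono i.left := h𝒞m _ h𝒞i
    haveI : Mono i'.left := h𝒞m _ h𝒞i'
    haveI : Mono i := (Over.forget S).mono_of_mono_map (by exact ‹Mono i.left›)
    haveI : Mono i' := (Over.forget S).mono_of_mono_map (by exact ‹Mono i'.left›)
    have r1 := repr_of_props s t T σ i stab fl su qc e5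
    have r2 := repr_of_props s t T σ i' stab' fl' su' qc' e5'
    obtain ⟨a, ha⟩ := (r2 Z i).2 ((r1 Z i).1 ⟨𝟙 _, Category.id_comp _⟩)
    obtain ⟨b, hb⟩ := (r1 Z' i').2 ((r2 Z' i').1 ⟨𝟙 _, Category.id_comp _⟩)
    refine ⟨⟨a, b, ?_, ?_⟩, ha⟩
    · rw [← cancel_mono i, Category.assoc, hb, ha, Category.id_comp]
    · rw [← cancel_mono i', Category.assoc, ha, hb, Category.id_comp]

end Main

end Groth.Agent.Lib.Helper81.QuotPts
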