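import Mathlib
import Groth.Prelude.Def_QuotSh
import Groth.Agent.Lib.Helper81.QuotPts2

set_option autoImplicit false
universe u
open CategoryTheory CategoryTheory.Limits AlgebraicGeometry Opposite MonoidalCategory
  CartesianMonoidalCategory

namespace Groth.Agent.Lib.Helper81.QuotPts
open Groth.Agent.Lib.Helper40.QuotShApi Groth.Agent.Lib.Helper81.ReprLocal

variable {S : Scheme.{u}}

/-- the fppf precoverage -/
abbrev Kp : Precoverage Scheme.{u} := Scheme.fppfPrecoverage

lemma J_le : QuotSh.J Kp S ≤ QuotSh.J Kq S := by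
  intro T Sv h
  rw [GrothendieckTopology.mem_over_iff] at h ⊢
  exact Scheme.fppfTopology_le_fpqcTopology _ h

section Compare
variable {R U : Over S} (s t : R ⟶ U)

/-- the presheaf map `h_U ⟶ U/R` -/
noncomputable def γ (K : Precoverage Scheme.{u}) : yo U ⟶ (QuotSh.quot K s t).obj :=
  toSheafify (QuotSh.J K S) (yo U) ≫ (QuotSh.quotπ K s t).hom

lemma γ_apply (K : Precoverage Scheme.{u}) {W : Over S} (a : W ⟶ U) :
    (γ s t K).app (op W) (ULift.up a) = ev K (QuotSh.repMap K a ≫ QuotSh.quotπ K s t) := by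
  rw [ev_repMap]
  rfl

lemma yoMap_γ (K : Precoverage Scheme.{u}) : yoMap s ≫ γ s t K = yoMap t ≫ γ s t K := by
  unfold γ
  have h := congrArg (fun f => f.hom) (QuotSh.quot_condition K s t)
  change sheafifyMap (QuotSh.J K S) (yoMap s) ≫ (QuotSh.quotπ K s t).hom =
    sheafifyMap (QuotSh.J K S) (yoMap t) ≫ (QuotSh.quotπ K s t).hom at h
  rw [← Category.assoc, ← Category.assoc, toSheafify_naturality, toSheafify_naturality,
    Category.assoc, Category.assoc, h]

/-- the fpqc quotient as an fppf sheaf -/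
noncomputable def G₁ : QuotSh.Sh Kp S :=
  ⟨(QuotSh.quot Kq s t).obj, (isSheaf_iff_isSheaf_of_type _ _).2
    (Presieve.isSheaf_of_le _ J_le
      ((isSheaf_iff_isSheaf_of_type _ _).1 (QuotSh.quot Kq s t).property))⟩

/-- `h_U ⟶ G₁` -/
noncomputable def π' : QuotSh.rep Kp U ⟶ G₁ s t :=
  ObjectProperty.homMk (sheafifyLift (QuotSh.J Kp S) (γ s t Kq) (G₁ s t).property)

lemma π'_cond : QuotSh.repMap Kp s ≫ π' s t = QuotSh.repMap Kp t ≫ π' s t := by
  apply Sheaf.hom_ext
  apply sheafify_hom_ext _ _ _ (G₁ s t).property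
  change toSheafify (QuotSh.J Kp S) (yo R) ≫ sheafifyMap (QuotSh.J Kp S) (yoMap s) ≫
      sheafifyLift (QuotSh.J Kp S) (γ s t Kq) (G₁ s t).property =
    toSheafify (QuotSh.J Kp S) (yo R) ≫ sheafifyMap (QuotSh.J Kp S) (yoMap t) ≫
      sheafifyLift (QuotSh.J Kp S) (γ s t Kq) (G₁ s t).property
  rw [← Category.assoc, ← Category.assoc, ← toSheafify_naturality, ← toSheafify_naturality,
    Category.assoc, Category.assoc, toSheafify_sheafifyLift, yoMap_γ]

/-- the comparison map from the fppf quotient to the fpqc quotient -/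
noncomputable def φc : QuotSh.quot Kp s t ⟶ G₁ s t :=
  coequalizer.desc (π' s t) (π'_cond s t)

lemma γ_φc : γ s t Kp ≫ (φc s t).hom = γ s t Kq := by
  unfold γ
  have h : QuotSh.quotπ Kp s t ≫ φc s t = π' s t := by
    unfold QuotSh.quotπ φc
    exact coequalizer.π_desc _ _
  have h' := congrArg (fun f => f.hom) h
  change (QuotSh.quotπ Kp s t).hom ≫ (φc s t).hom =
    sheafifyLift (QuotSh.J Kp S) (γ s t Kq) (G₁ s t).property at h'
  rw [Category.assoc, h']
  exact toSheafify_sheafifyLift _ _ _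

lemma nat_apply {P Q : (Over S)ᵒᵖ ⥤ Type (u + 1)} (τ : P ⟶ Q) {X Y : (Over S)ᵒᵖ} (f : X ⟶ Y)
    (x : P.obj X) : τ.app Y (P.map f x) = Q.map f (τ.app X x) :=
  congrFun (congrArg (fun f => (ConcreteCategory.hom f : _ → _)) (τ.naturality f)) x

lemma γ_φc_apply {W : Over S} (a : W ⟶ U) :
    (φc s t).hom.app (op W) ((γ s t Kp).app (op W) (ULift.up a)) =
      (γ s t Kq).app (op W) (ULift.up a) :=
  congrFun (congrArg (fun f => (ConcreteCategory.hom (f.app (op W)) : _ → _)) (γ_φc s t))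
    (ULift.up a)

instance γ_locSurj (K : Precoverage Scheme.{u}) :
    Presheaf.IsLocallySurjective (QuotSh.J K S) (γ s t K) := by
  haveI : Sheaf.IsLocallySurjective (QuotSh.quotπ K s t) :=
    (Sheaf.isLocallySurjective_iff_epi _).mpr inferInstance
  haveI : Presheaf.IsLocallySurjective (QuotSh.J K S) (QuotSh.quotπ K s t).hom := this
  unfold γ
  infer_instance

variable [IsEquivalenceRelation s t]

lemma φc_injective (T : Over S) : Function.Injective ((φc s t).hom.app (op T)) := by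
  intro x y hxy
  have hsep := ((isSheaf_iff_isSheaf_of_type _ _).mp (QuotSh.quot Kp s t).property).isSeparated
  have hSv : Presheaf.imageSieve (γ s t Kp) x ⊓ Presheaf.imageSieve (γ s t Kp) y ∈
      QuotSh.J Kp S T :=
    (QuotSh.J Kp S).intersection_covering (Presheaf.imageSieve_mem _ _ _)
      (Presheaf.imageSieve_mem _ _ _)
  apply (hsep _ hSv).ext
  rintro T' g ⟨⟨⟨a⟩, ha⟩, ⟨⟨b⟩, hb⟩⟩
  change (QuotSh.quot Kp s t).obj.map g.op x = (QuotSh.quot Kp s t).obj.map g.op y
  rw [← ha, ← hb]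
  have hq : (γ s t Kq).app (op T') (ULift.up a) = (γ s t Kq).app (op T') (ULift.up b) := by
    rw [← γ_φc_apply, ← γ_φc_apply, ha, hb, nat_apply, nat_apply, hxy]
  rw [γ_apply, γ_apply] at hq
  have hrel := pRel_of_eq Kq s t a b (ev_injective _ _ _ hq)
  rw [γ_apply, γ_apply, eq_of_pRel Kp s t hrel]

lemma φc_surjective [Flat s.left] [Surjective s.left] [LocallyOfFinitePresentation s.left]
    (hc : IsClosedImmersion (lift t s).left) (T : Over S) :
    Function.Surjective ((φc s t).hom.app (op T)) := by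
  intro y
  let τ : QuotSh.rep Kq T ⟶ QuotSh.quot Kq s t :=
    ObjectProperty.homMk (sheafifyLift (QuotSh.J Kq S)
      (show yo T ⟶ (QuotSh.quot Kq s t).obj from
        (uliftYonedaEquiv.{u + 1} (X := T) (F := (QuotSh.quot Kq s t).obj)).symm y)
      (QuotSh.quot Kq s t).property)
  have hτ : ev Kq τ = y := by
    unfold ev
    have : (show uliftYoneda.{u + 1}.obj T ⟶ (QuotSh.quot Kq s t).obj from
        toSheafify (QuotSh.J Kq S) (yo T) ≫ τ.hom) =
        (uliftYonedaEquiv.{u + 1} (X := T) (F := (QuotSh.quot Kq s t).obj)).symm y :=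
      toSheafify_sheafifyLift _ _ _
    rw [this, Equiv.apply_symm_apply]
  obtain ⟨Z, i, hiC, hi⟩ := exists_repr_EE s t T τ reprPrinciple_isClosedImmersion hc
  haveI : IsClosedImmersion i.left := hiC
  haveI : Mono i := (Over.forget S).mono_of_mono_map (by
    change Mono i.left
    infer_instance)
  have hfl : Flat (i ≫ snd U T).left := by
    haveI := Groth.Agent.Lib.Helper40.FpqcLocal.flat_descendsAlong_fpqc.{u}
    exact prop_of_repr s t T τ @Flat inferInstance i hi
  have hsu : Surjective (i ≫ snd U T).left :=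
    prop_of_repr s t T τ @Surjective inferInstance i hi
  have hlfp : LocallyOfFinitePresentation (i ≫ snd U T).left :=
    prop_of_repr s t T τ @LocallyOfFinitePresentation inferInstance i hi
  have hEi : EE s t T τ i := (hi Z i).1 ⟨𝟙 _, Category.id_comp _⟩
  have h5 := (EE_iff s t T τ i).1 hEi
  have hZZ : ∀ (T' : Over S) (z₁ z₂ : T' ⟶ Z), z₁ ≫ i ≫ snd U T = z₂ ≫ i ≫ snd U T →
      ∃ r : T' ⟶ R, r ≫ s = z₁ ≫ i ≫ fst U T ∧ r ≫ t = z₂ ≫ i ≫ fst U T := by
    intro T' z₁ z₂ h
    have E1 : EE s t T τ (z₁ ≫ i) := (hi _ _).1 ⟨z₁, rfl⟩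
    have E2 : EE s t T τ (z₂ ≫ i) := (hi _ _).1 ⟨z₂, rfl⟩
    rw [EE_iff] at E1 E2
    have h3 : QuotSh.repMap Kq (z₁ ≫ i ≫ fst U T) ≫ QuotSh.quotπ Kq s t =
        QuotSh.repMap Kq (z₂ ≫ i ≫ fst U T) ≫ QuotSh.quotπ Kq s t := by
      rw [← Category.assoc, ← Category.assoc, E1, E2, Category.assoc, Category.assoc, h]
    exact pRel_of_eq Kq s t _ _ h3
  obtain ⟨σ, hσ, -⟩ := existsUnique_quotSection Kp s t (i ≫ snd U T) (i ≫ fst U T)
    (liftSieve_mem_fppf (i ≫ snd U T)) hZZ
  refine ⟨ev Kp σ, ?_⟩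
  have hsepG := ((isSheaf_iff_isSheaf_of_type _ _).mp (QuotSh.quot Kq s t).property).isSeparated
  have hSv : Sieve.generate (Presieve.singleton (i ≫ snd U T)) ∈ QuotSh.J Kq S T :=
    mem_J_of_singleton Kq _ (i ≫ snd U T) (Sieve.le_generate _ _ _ (Presieve.singleton.mk))
      (Scheme.fppfPrecoverage_le_fpqcPrecoverage _
        ((i ≫ snd U T).left.singleton_mem_fppfPrecoverage))
  apply (hsepG _ hSv).ext
  rintro T' g ⟨_, h, _, ⟨⟩, rfl⟩
  change (QuotSh.quot Kq s t).obj.map (h ≫ i ≫ snd U T).op _ =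
    (QuotSh.quot Kq s t).obj.map (h ≫ i ≫ snd U T).op y
  have key : (QuotSh.quot Kq s t).obj.map (i ≫ snd U T).op
      ((φc s t).hom.app (op T) (ev Kp σ)) = (QuotSh.quot Kq s t).obj.map (i ≫ snd U T).op y := by
    have e1 : (QuotSh.quot Kq s t).obj.map (i ≫ snd U T).op ((φc s t).hom.app (op T) (ev Kp σ)) =
        (φc s t).hom.app (op Z) ((QuotSh.quot Kp s t).obj.map (i ≫ snd U T).op (ev Kp σ)) :=
      (nat_apply (φc s t).hom (i ≫ snd U T).op (ev Kp σ)).symm
    rw [e1, ← ev_repMap_comp, ← hσ, ← γ_apply, γ_φc_apply, γ_apply, h5, ev_repMap_comp, hτ]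
  rw [op_comp, Functor.map_comp]
  exact congrArg ((QuotSh.quot Kq s t).obj.map h.op) key

theorem isSheaf_fpqc_quot_fppf [Flat s.left] [Surjective s.left]
    [LocallyOfFinitePresentation s.left] (hc : IsClosedImmersion (lift t s).left) :
    Presheaf.IsSheaf (QuotSh.J Scheme.fpqcPrecoverage S)
      (QuotSh.quot Scheme.fppfPrecoverage s t).obj := by
  have hiso : IsIso (φc s t).hom := by
    rw [NatTrans.isIso_iff_isIso_app]
    intro T
    rw [isIso_iff_bijective]
    exact ⟨φc_injective s t T.unop, φc_surjective s t hc T.unop⟩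
  exact (Presheaf.isSheaf_of_iso_iff (asIso (φc s t).hom)).mpr (QuotSh.quot Kq s t).property

end Compare

end Groth.Agent.Lib.Helper81.QuotPts
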