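import Mathlib

/-!
# A pointwise criterion for separatedness

`isSeparated_of_forall`: `f : X ⟶ S` is separated as soon as every point `z` of `X ×_S X` either
has both projections in a common open `U` of `X` with `U → S` separated, or has its two projections
in disjoint opens of `X`.
-/

open CategoryTheory AlgebraicGeometry Limits TopologicalSpace Topology
universe u

namespace Groth.Agent.Lib.Helper81.SepCrit

theorem isSeparated_of_forall {X S : Scheme.{u}} (f : X ⟶ S)
    (H : ∀ z : ↥(pullback f f),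
      (∃ U : X.Opens, (pullback.fst f f).base z ∈ U ∧ (pullback.snd f f).base z ∈ U ∧
        IsSeparated (U.ι ≫ f)) ∨
      (∃ A B : X.Opens, (pullback.fst f f).base z ∈ A ∧ (pullback.snd f f).base z ∈ B ∧
        Disjoint A B)) :
    IsSeparated f := by
  refine ⟨?_⟩
  apply IsClosedImmersion.of_isPreimmersion
  rw [← isOpen_compl_iff, isOpen_iff_forall_mem_open]
  intro z hz
  rcases H z with ⟨U, h1, h2, hU⟩ | ⟨A, B, hA, hB, hAB⟩
  · -- the open immersion `U ×_S U → X ×_S X`
    let j : pullback (U.ι ≫ f) (U.ι ≫ f) ⟶ pullback f f :=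
      pullback.map (U.ι ≫ f) (U.ι ≫ f) f f U.ι U.ι (𝟙 S) (by simp) (by simp)
    haveI : IsOpenImmersion j := by
      dsimp only [j]; infer_instance
    have hzr : z ∈ Set.range j := by
      rw [Scheme.Pullback.range_map]
      refine ⟨?_, ?_⟩
      · change (pullback.fst f f).base z ∈ Set.range U.ι
        rw [Scheme.Opens.range_ι]; exact h1
      · change (pullback.snd f f).base z ∈ Set.range U.ι
        rw [Scheme.Opens.range_ι]; exact h2
    obtain ⟨z', rfl⟩ := hzr
    have hj1 : j ≫ pullback.fst f f = pullback.fst _ _ ≫ U.ι := pullback.lift_fst _ _ _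
    have hj2 : j ≫ pullback.snd f f = pullback.snd _ _ ≫ U.ι := pullback.lift_snd _ _ _
    have hjΔ : pullback.diagonal (U.ι ≫ f) ≫ j = U.ι ≫ pullback.diagonal f := by
      apply pullback.hom_ext
      · rw [Category.assoc, hj1, Category.assoc, pullback.diagonal_fst, pullback.diagonal_fst_assoc,
          Category.comp_id]
      · rw [Category.assoc, hj2, Category.assoc, pullback.diagonal_snd, pullback.diagonal_snd_assoc,
          Category.comp_id]
    have hz' : z' ∉ Set.range (pullback.diagonal (U.ι ≫ f)) := by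
      rintro ⟨u, rfl⟩
      apply hz
      refine ⟨U.ι.base u, ?_⟩
      rw [← Scheme.Hom.comp_apply, ← hjΔ, Scheme.Hom.comp_apply]
    have hcl : IsClosed (Set.range (pullback.diagonal (U.ι ≫ f))) :=
      (pullback.diagonal (U.ι ≫ f)).isClosedEmbedding.isClosed_range
    refine ⟨j '' (Set.range (pullback.diagonal (U.ι ≫ f)))ᶜ, ?_,
      j.isOpenEmbedding.isOpenMap _ hcl.isOpen_compl, ⟨z', hz', rfl⟩⟩
    rintro _ ⟨n, hn, rfl⟩ ⟨t, ht⟩
    apply hn
    -- t lies in U
    have ht1 : (pullback.fst f f).base (j.base n) = t := by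
      rw [← ht, ← Scheme.Hom.comp_apply]; simp
    have htU : t ∈ U := by
      rw [← ht1, ← Scheme.Hom.comp_apply]
      rw [hj1, Scheme.Hom.comp_apply]
      exact ((pullback.fst (U.ι ≫ f) (U.ι ≫ f)).base n).2
    refine ⟨⟨t, htU⟩, ?_⟩
    apply j.isOpenEmbedding.injective
    rw [← Scheme.Hom.comp_apply, hjΔ, Scheme.Hom.comp_apply]
    exact ht
  · refine ⟨(pullback.fst f f ⁻¹ᵁ A ⊓ pullback.snd f f ⁻¹ᵁ B : (pullback f f).Opens), ?_,
      (pullback.fst f f ⁻¹ᵁ A ⊓ pullback.snd f f ⁻¹ᵁ B).isOpen, ⟨hA, hB⟩⟩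
    rintro _ ⟨h1, h2⟩ ⟨t, rfl⟩
    have e1 : (pullback.fst f f).base ((pullback.diagonal f).base t) = t := by
      rw [← Scheme.Hom.comp_apply]; simp
    have e2 : (pullback.snd f f).base ((pullback.diagonal f).base t) = t := by
      rw [← Scheme.Hom.comp_apply]; simp
    have h1' : t ∈ A := by simpa [e1] using h1
    have h2' : t ∈ B := by simpa [e2] using h2
    exact (disjoint_iff.mp hAB).le ⟨h1', h2'⟩

end Groth.Agent.Lib.Helper81.SepCrit
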